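import Groth.Agent.ThetaG.Local

/-!
Triviality of the commutator pairing when every point lifts.
-/

set_option autoImplicit false
set_option linter.style.haveILetI false
set_option backward.isDefEq.respectTransparency false
set_option backward.isDefEq.respectTransparency.types false
set_option maxHeartbeats 800000

universe u

open CategoryTheory CategoryTheory.Limits MonoidalCategory CartesianMonoidalCategory MonObj AlgebraicGeometry
  TopologicalSpace
open scoped Groth.Agent.H23.PicMul

noncomputable section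

namespace Groth.Agent.ThetaG

open Groth.Agent.AModX Groth.Agent.InvX ThetaGrp Groth.Agent.H23

/-- Inclusion of restrictions. -/
abbrev resLE {S : Scheme.{u}} (T : Over S) {W V : T.left.Opens} (h : W ≤ V) : res T W ⟶ res T V :=
  Over.homMk (T.left.homOfLE h) (by simp)

theorem resLE_resι {S : Scheme.{u}} (T : Over S) {W V : T.left.Opens} (h : W ≤ V) :
    resLE T h ≫ resι T V = resι T W :=
  Over.OverMorphism.ext (T.left.homOfLE_ι h)

/-- Restriction of a morphism to opens. -/
abbrev resMap {S : Scheme.{u}} {T U : Over S} (z : T ⟶ U) (V : U.left.Opens) :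
    res T (z.left ⁻¹ᵁ V) ⟶ res U V :=
  Over.homMk (z.left ∣_ V) (by
    show (z.left ∣_ V) ≫ V.ι ≫ U.hom = (z.left ⁻¹ᵁ V).ι ≫ T.hom
    rw [morphismRestrict_ι_assoc, Over.w z])

theorem resMap_resι {S : Scheme.{u}} {T U : Over S} (z : T ⟶ U) (V : U.left.Opens) :
    resMap z V ≫ resι U V = resι T (z.left ⁻¹ᵁ V) ≫ z :=
  Over.OverMorphism.ext (morphismRestrict_ι z.left V)

variable {k : Type u} [Field k] {A : Over (Spec (CommRingCat.of k))} [GrpObj A]
  [IsProper A.hom] [GeometricallyIntegral A.hom] {L : A.left.Modules}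
  {T K : Over (Spec (CommRingCat.of k))}

/-- Two points of `K(L)` lift on a common neighbourhood. -/
theorem exists_local_lift₂ (hL : PicF.IsInvertible L) {iK : K ⟶ A} (hK : IsKL A L iK) {x y : T ⟶ A}
    (hx : ∃ z : T ⟶ K, z ≫ iK = x) (hy : ∃ z : T ⟶ K, z ≫ iK = y) (t : T.left) :
    ∃ V : T.left.Opens, t ∈ V ∧ ∃ α β : thetaPts A L (res T V),
      IsOverPt α (resι T V ≫ x) ∧ IsOverPt β (resι T V ≫ y) := by
  obtain ⟨V, hV, α, hα⟩ := exists_local_lift hL hK hx t
  obtain ⟨W, hW, β, hβ⟩ := exists_local_lift hL hK hy t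
  refine ⟨V ⊓ W, ⟨hV, hW⟩, bc (resLE T inf_le_left) α, bc (resLE T inf_le_right) β, ?_, ?_⟩
  · have := isOverPt_bc (resLE T (inf_le_left : V ⊓ W ≤ V)) hα
    rwa [← Category.assoc, resLE_resι] at this
  · have := isOverPt_bc (resLE T (inf_le_right : V ⊓ W ≤ W)) hβ
    rwa [← Category.assoc, resLE_resι] at this

omit [GrpObj A] [IsProper A.hom] [GeometricallyIntegral A.hom] in
theorem topIso_homOfLE {W V : T.left.Opens} (h : W ≤ V) (s : Γ((res T V).left, ⊤)) :
    W.topIso.hom ((resLE T h).left.appTop s) = resR h (V.topIso.hom s) := by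
  show W.topIso.hom ((T.left.homOfLE h).appTop s) = T.left.presheaf.map (homOfLE h).op (V.topIso.hom s)
  rw [← ConcreteCategory.comp_apply, ← ConcreteCategory.comp_apply]
  congr 2
  simp [Scheme.homOfLE_appTop, ← Functor.map_comp]

omit [GrpObj A] [IsProper A.hom] [GeometricallyIntegral A.hom] in
theorem topIso_ι {V : T.left.Opens} (c : Γ(T.left, ⊤)) :
    V.topIso.hom ((resι T V).left.appTop c) = resR le_top c := by
  show V.topIso.hom (V.ι.appTop c) = T.left.presheaf.map (homOfLE le_top).op c
  rw [← ConcreteCategory.comp_apply]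
  congr 2
  simp [Scheme.Opens.ι_appTop, ← Functor.map_comp]

variable [IsCommMonObj A]

/-- The pairing is trivial if all points lift. -/
theorem comm_of_kl_id (hL : PicF.IsInvertible L) (hK : IsKL A L (𝟙 A)) (β₁ β₂ : thetaPts A L T) :
    β₁ * β₂ = β₂ * β₁ := by
  let P := A ⊗ A
  choose V hV a b ha hb using fun t : P.left =>
    exists_local_lift₂ hL hK (x := fst A A) (y := snd A A) ⟨_, Category.comp_id _⟩ ⟨_, Category.comp_id _⟩ t
  let f : ∀ t, Γ(P.left, V t) := fun t => (V t).topIso.hom (cm hL (a t) (b t) : Γ((res P (V t)).left, ⊤))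
  have hf : ∀ t t', resR (inf_le_left : V t ⊓ V t' ≤ V t) (f t) = resR inf_le_right (f t') := by
    intro t t'
    simp only [f]
    rw [← topIso_homOfLE, ← topIso_homOfLE]
    congr 1
    have key : ∀ {t : P.left} {W : P.left.Opens} (h : W ≤ V t),
        IsOverPt (bc (resLE P h) (a t)) (resι P W ≫ fst A A) ∧
        IsOverPt (bc (resLE P h) (b t)) (resι P W ≫ snd A A) := fun {t W} h => by
      rw [← resLE_resι P h, Category.assoc, Category.assoc]
      exact ⟨isOverPt_bc _ (ha t), isOverPt_bc _ (hb t)⟩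
    have e := cm_congr hL (key (t := t) (inf_le_left : V t ⊓ V t' ≤ V t)).1
      (key (t := t') (inf_le_right : V t ⊓ V t' ≤ V t')).1
      (key (t := t) (inf_le_left : V t ⊓ V t' ≤ V t)).2 (key (t := t') (inf_le_right : V t ⊓ V t' ≤ V t')).2
    rw [cm_bc, cm_bc] at e
    exact congrArg Units.val e
  obtain ⟨F, hF, -⟩ := existsUnique_glue (M := Coh.structureModule P.left) V (fun t => le_top)
    (fun p _ => ⟨p, hV p⟩) f hf
  have hP : Function.Bijective P.hom.appTop := by
    have e : P.hom = (snd A A).left ≫ A.hom := (Over.w (snd A A)).symm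
    rw [e, Scheme.Hom.comp_appTop]
    exact (bijective_snd_app A A ⊤).comp (Rigid.bijective_appTop A.hom)
  obtain ⟨c, hc⟩ := hP.2 F
  have hcm : ∀ t, (cm hL (a t) (b t) : Γ((res P (V t)).left, ⊤)) = (res P (V t)).hom.appTop c := by
    intro t
    have hF' : resR le_top (P.hom.appTop c) = f t := by rw [hc]; exact hF t
    refine (ConcreteCategory.bijective_of_isIso (V t).topIso.hom).1 ?_
    refine hF'.symm.trans ((topIso_ι (T := P) (V := V t) (P.hom.appTop c)).symm.trans ?_)
    rfl
  have hc1 : c = 1 := by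
    let o : 𝟙_ (Over (Spec (CommRingCat.of k))) ⟶ P := lift 1 1
    haveI : Subsingleton (𝟙_ (Over (Spec (CommRingCat.of k)))).left :=
      inferInstanceAs (Subsingleton (PrimeSpectrum k))
    haveI : Nonempty (𝟙_ (Over (Spec (CommRingCat.of k)))).left :=
      inferInstanceAs (Nonempty (PrimeSpectrum k))
    let p : P.left := o.left (Classical.arbitrary _)
    have hrange : Set.range o.left.base ⊆ Set.range (V p).ι.base := by
      rw [Scheme.Opens.range_ι]
      rintro _ ⟨z, rfl⟩
      rw [Subsingleton.elim z (Classical.arbitrary _)]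
      exact hV p
    let o' : 𝟙_ (Over (Spec (CommRingCat.of k))) ⟶ res P (V p) :=
      Over.homMk (IsOpenImmersion.lift (V p).ι o.left hrange)
        (by
          show IsOpenImmersion.lift (V p).ι o.left hrange ≫ (V p).ι ≫ P.hom = _
          rw [IsOpenImmersion.lift_fac_assoc, Over.w o])
    have ho : o' ≫ resι P (V p) = o := Over.OverMorphism.ext (IsOpenImmersion.lift_fac _ _ _)
    have h1 : IsOverPt (bc o' (a p)) 1 := by
      have := isOverPt_bc o' (ha p)
      rwa [← Category.assoc, ho, lift_fst] at this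
    obtain ⟨s, hs⟩ := exists_scal hL h1
    have e : cm hL (bc o' (a p)) (bc o' (b p)) = 1 := (cm_eq_one_iff hL).2 (hs ▸ scal_comm hL s _)
    rw [cm_bc] at e
    have e' : o'.left.appTop (cm hL (a p) (b p) : Γ((res P (V p)).left, ⊤)) = 1 := congrArg Units.val e
    rw [hcm, ← ConcreteCategory.comp_apply, ← Scheme.Hom.comp_appTop] at e'
    have ew : o'.left ≫ (res P (V p)).hom = (𝟙_ (Over (Spec (CommRingCat.of k)))).hom := Over.w o'
    rw [ew] at e'
    exact e'
  refine comm_of_bc hL fun t => ?_
  obtain ⟨x, hx⟩ := exists_overPt β₁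
  obtain ⟨y, hy⟩ := exists_overPt β₂
  let z : T ⟶ P := lift x y
  refine ⟨z.left ⁻¹ᵁ V (z.left t), hV _, ?_⟩
  refine commute_of_overPt hL (α := bc (resMap z _) (a (z.left t))) (β := bc (resMap z _) (b (z.left t))) ?_
    (isOverPt_bc _ hx) ?_ (isOverPt_bc _ hy) ?_
  · have := isOverPt_bc (resMap z (V (z.left t))) (ha (z.left t))
    rwa [← Category.assoc, resMap_resι, Category.assoc, lift_fst] at this
  · have := isOverPt_bc (resMap z (V (z.left t))) (hb (z.left t))
    rwa [← Category.assoc, resMap_resι, Category.assoc, lift_snd] at this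
  · refine (cm_eq_one_iff hL).1 ?_
    rw [cm_bc]
    refine Units.ext ?_
    show (resMap z (V (z.left t))).left.appTop (cm hL (a (z.left t)) (b (z.left t)) : Γ((res P (V (z.left t))).left, ⊤)) = 1
    rw [hcm, hc1, map_one, map_one]

end Groth.Agent.ThetaG
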