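import Mathlib.AlgebraicGeometry.GammaSpecAdjunction
import Mathlib.Algebra.Polynomial.Laurent
import Mathlib.CategoryTheory.Comma.Over.Basic

/-!
The scheme of units over an affine base.
-/

set_option autoImplicit false

universe u

open CategoryTheory AlgebraicGeometry LaurentPolynomial

noncomputable section

namespace Groth.Agent.ThetaG

variable (R : Type u) [CommRing R]

/-- The scheme of units over `Spec R`. -/
def unitsSch : Over (Spec (CommRingCat.of R)) :=
  Over.mk (Spec.map (CommRingCat.ofHom (LaurentPolynomial.C (R := R))))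

/-- The universal unit. -/
def univUnit : Γ((unitsSch R).left, ⊤)ˣ :=
  Units.map (Scheme.ΓSpecIso (CommRingCat.of R[T;T⁻¹])).inv.hom.toMonoidHom
    ⟨T 1, T (-1), by rw [← T_add]; simp, by rw [← T_add]; simp⟩

theorem hom_ext_Spec {X : Scheme.{u}} {B : CommRingCat.{u}} {g g' : X ⟶ Spec B}
    (h : (Scheme.ΓSpecIso B).inv ≫ g.appTop = (Scheme.ΓSpecIso B).inv ≫ g'.appTop) : g = g' := by
  refine ext_to_Spec ?_
  exact h

variable {R}

/-- Points of the scheme of units are units of functions. -/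
theorem existsUnique_unitsSch (X : Over (Spec (CommRingCat.of R))) (s : Γ(X.left, ⊤)ˣ) :
    ∃! g : X ⟶ unitsSch R, Units.map g.left.appTop.hom.toMonoidHom (univUnit R) = s := by
  let ψ : CommRingCat.of R ⟶ Γ(X.left, ⊤) := (Scheme.ΓSpecIso (CommRingCat.of R)).inv ≫ X.hom.appTop
  let φ : CommRingCat.of R[T;T⁻¹] ⟶ Γ(X.left, ⊤) :=
    CommRingCat.ofHom (LaurentPolynomial.eval₂ ψ.hom s)
  let g : X.left ⟶ Spec (CommRingCat.of R[T;T⁻¹]) := X.left.toSpecΓ ≫ Spec.map φ
  have hg : (Scheme.ΓSpecIso (CommRingCat.of R[T;T⁻¹])).inv ≫ g.appTop = φ := by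
    show _ ≫ (X.left.toSpecΓ ≫ Spec.map φ).appTop = φ
    rw [Scheme.Hom.comp_appTop, Scheme.toSpecΓ_appTop, ← Category.assoc, ← Scheme.ΓSpecIso_inv_naturality,
      Category.assoc, Iso.inv_hom_id, Category.comp_id]
  have hw : g ≫ (unitsSch R).hom = X.hom := by
    refine hom_ext_Spec ?_
    show _ ≫ (g ≫ Spec.map _).appTop = _
    rw [Scheme.Hom.comp_appTop, ← Category.assoc, ← Scheme.ΓSpecIso_inv_naturality, Category.assoc, hg]
    ext r
    exact LaurentPolynomial.eval₂_C _ _ _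
  refine ⟨Over.homMk g hw, Units.ext ?_, fun g' hg' => Over.OverMorphism.ext (hom_ext_Spec ?_)⟩
  · show g.appTop ((Scheme.ΓSpecIso (CommRingCat.of R[T;T⁻¹])).inv (T 1)) = (s : Γ(X.left, ⊤))
    refine (congrArg (fun f => f.hom (T 1)) hg).trans ?_
    exact (LaurentPolynomial.eval₂_T _ _ 1).trans (by rw [zpow_one])
  · show _ = (Scheme.ΓSpecIso (CommRingCat.of R[T;T⁻¹])).inv ≫ g.appTop
    rw [hg]
    have hC : CommRingCat.ofHom (LaurentPolynomial.C (R := R)) ≫
        (Scheme.ΓSpecIso (CommRingCat.of R[T;T⁻¹])).inv ≫ g'.left.appTop = ψ := by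
      show _ = (Scheme.ΓSpecIso (CommRingCat.of R)).inv ≫ X.hom.appTop
      rw [← Over.w g', Scheme.Hom.comp_appTop]
      refine (Category.assoc _ _ _).symm.trans ?_
      refine (congrArg (· ≫ g'.left.appTop) (Scheme.ΓSpecIso_inv_naturality _)).trans ?_
      exact Category.assoc _ _ _
    have hT : ((Scheme.ΓSpecIso (CommRingCat.of R[T;T⁻¹])).inv ≫ g'.left.appTop).hom (T 1) = s :=
      congrArg Units.val hg'
    refine CommRingCat.hom_ext (RingHom.ext fun p => ?_)
    let F := ((Scheme.ΓSpecIso (CommRingCat.of R[T;T⁻¹])).inv ≫ g'.left.appTop).hom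
    have hFC : ∀ r, F (LaurentPolynomial.C r) = ψ.hom r := fun r => congrArg (fun f => f.hom r) hC
    have hFn : ∀ n : ℤ, F (T n) = ((s ^ n : Γ(X.left, ⊤)ˣ) : Γ(X.left, ⊤)) := by
      intro n
      have h1 : ∀ m : ℕ, F (T (m : ℤ)) = ((s ^ (m : ℤ) : Γ(X.left, ⊤)ˣ) : Γ(X.left, ⊤)) := fun m => by
        rw [zpow_natCast, Units.val_pow_eq_pow_val, ← hT, ← map_pow, T_pow, mul_one]
      rcases Int.eq_nat_or_neg n with ⟨m, rfl | rfl⟩
      · exact h1 m
      · rw [zpow_neg]
        refine (Units.eq_inv_of_mul_eq_one_left ?_)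
        rw [← h1, ← map_mul, ← T_add, add_neg_cancel, T_zero, map_one]
    show F p = φ.hom p
    induction (show R[T;T⁻¹] from p) using LaurentPolynomial.induction_on' with
    | add p q hp hq => rw [map_add, map_add, hp, hq]
    | C_mul_T n r =>
      rw [map_mul, map_mul, hFC, hFn]
      exact congrArg₂ (· * ·) (LaurentPolynomial.eval₂_C _ _ _).symm (LaurentPolynomial.eval₂_T _ _ n).symm

end Groth.Agent.ThetaG
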