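import Groth.Agent.ThetaG.Pull
import Groth.Agent.ThetaG.Gm
import Groth.Agent.AlgSpDM.AffChart
import Mathlib.AlgebraicGeometry.Sites.Fpqc

/-!
Descent of units and of morphisms of invertible modules along faithfully flat quasi-compact morphisms.
-/

set_option autoImplicit false
set_option linter.style.haveILetI false
set_option backward.isDefEq.respectTransparency false
set_option backward.isDefEq.respectTransparency.types false
set_option maxHeartbeats 800000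

universe u

open CategoryTheory CategoryTheory.Limits AlgebraicGeometry TopologicalSpace Opposite
open Pseudofunctor Bicategory

noncomputable section

namespace Groth.Agent.ThetaG

open Groth.Agent.AModX Groth.Agent.InvX ThetaGrp

variable {X Y : Scheme.{u}}

/-- Units of functions are morphisms to the scheme of units. -/
theorem existsUnique_units (Z : Scheme.{u}) (s : Γ(Z, ⊤)ˣ) :
    ∃! g : Z ⟶ (unitsSch (ULift.{u} ℤ)).left,
      Units.map g.appTop.hom.toMonoidHom (univUnit (ULift.{u} ℤ)) = s := by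
  obtain ⟨g, hg, huniq⟩ := existsUnique_unitsSch (Over.mk (specULiftZIsTerminal.{u}.from Z)) s
  exact ⟨g.left, hg, fun g' hg' =>
    congrArg CommaMorphism.left (huniq (Over.homMk g' (specULiftZIsTerminal.{u}.hom_ext _ _)) hg')⟩

theorem exists_appTop_eq (h : X ⟶ Y) [Flat h] [Surjective h] [QuasiCompact h] (c : Γ(X, ⊤)ˣ)
    (hc : ∀ {Z : Scheme.{u}} (a b : Z ⟶ X), a ≫ h = b ≫ h →
      a.appTop (c : Γ(X, ⊤)) = b.appTop (c : Γ(X, ⊤))) :
    ∃ d : Γ(Y, ⊤)ˣ, h.appTop (d : Γ(Y, ⊤)) = (c : Γ(X, ⊤)) := by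
  obtain ⟨g, hg, -⟩ := existsUnique_units X c
  have H : ∀ {Z : Scheme.{u}} (a b : Z ⟶ X), a ≫ h = b ≫ h → a ≫ g = b ≫ g := fun {Z} a b e => by
    refine (existsUnique_units Z (Units.map a.appTop.hom.toMonoidHom c)).unique ?_ ?_
    · rw [← hg]; rfl
    · refine Units.ext ?_
      show (b ≫ g).appTop (univUnit (ULift.{u} ℤ) : Γ((unitsSch (ULift.{u} ℤ)).left, ⊤)) = a.appTop (c : Γ(X, ⊤))
      rw [hc a b e, ← hg]; rfl
  refine ⟨Units.map (EffectiveEpi.desc h g H).appTop.hom.toMonoidHom (univUnit (ULift.{u} ℤ)), ?_⟩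
  rw [← hg]
  show (h ≫ EffectiveEpi.desc h g H).appTop _ = g.appTop _
  rw [EffectiveEpi.fac h g H]

theorem topIso_inv_eq (V : Y.Opens) : V.topIso.inv = V.ι.appLE V ⊤ (fun z _ => z.2) := by
  simp only [Scheme.Opens.topIso, Scheme.Hom.appLE, Scheme.Opens.ι_app, Functor.mapIso_inv, eqToIso.inv,
    Iso.op_inv, eqToHom_op]
  erw [← Functor.map_comp]
  congr 1

theorem appTop_topIso {Z : Scheme.{u}} {V : Y.Opens} (a : Z ⟶ (V : Y.Opens)) (x : Γ(Y, V)) :
    a.appTop (V.topIso.inv x) = (a ≫ V.ι).appLE V ⊤ (fun z _ => (a z).2) x := by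
  rw [topIso_inv_eq, ← Scheme.Hom.appLE_comp_appLE a V.ι V ⊤ ⊤ (fun z _ => z.2) le_top, Scheme.Hom.appTop,
    Scheme.Hom.app_eq_appLE]
  rfl

theorem restr_appTop (h : X ⟶ Y) (V : Y.Opens) (t : Γ(Y, V)) :
    (h ∣_ V).appTop (V.topIso.inv t) = (h ⁻¹ᵁ V).topIso.inv (h.app V t) := by
  rw [appTop_topIso, topIso_inv_eq, Scheme.Hom.app_eq_appLE, ← ConcreteCategory.comp_apply,
    Scheme.Hom.appLE_comp_appLE]
  simp only [morphismRestrict_ι]

/-- A unit with equal inverse images on the fibre product descends. -/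
theorem exists_app_eq (h : X ⟶ Y) [Flat h] [Surjective h] [QuasiCompact h] (V : Y.Opens) (c : Γ(X, h ⁻¹ᵁ V)ˣ)
    (hc : ∀ {Z : Scheme.{u}} (a b : Z ⟶ X) (ha : (⊤ : Z.Opens) ≤ a ⁻¹ᵁ (h ⁻¹ᵁ V))
      (hb : (⊤ : Z.Opens) ≤ b ⁻¹ᵁ (h ⁻¹ᵁ V)), a ≫ h = b ≫ h →
      a.appLE _ ⊤ ha (c : Γ(X, h ⁻¹ᵁ V)) = b.appLE _ ⊤ hb (c : Γ(X, h ⁻¹ᵁ V))) :
    ∃ d : Γ(Y, V)ˣ, h.app V (d : Γ(Y, V)) = (c : Γ(X, h ⁻¹ᵁ V)) := by
  haveI : Flat (h ∣_ V) := IsZariskiLocalAtTarget.restrict ‹Flat h› V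
  haveI : Surjective (h ∣_ V) := IsZariskiLocalAtTarget.restrict ‹Surjective h› V
  haveI : QuasiCompact (h ∣_ V) := IsZariskiLocalAtTarget.restrict ‹QuasiCompact h› V
  obtain ⟨d, hd⟩ := exists_appTop_eq (h ∣_ V) (Units.map (h ⁻¹ᵁ V).topIso.inv.hom.toMonoidHom c)
    fun a b e => by
      refine (appTop_topIso a _).trans ((hc (a ≫ (h ⁻¹ᵁ V).ι) (b ≫ (h ⁻¹ᵁ V).ι) (fun z _ => (a z).2) (fun z _ => (b z).2)
        ?_).trans (appTop_topIso b _).symm)
      rw [Category.assoc, Category.assoc, ← morphismRestrict_ι, ← Category.assoc, e, Category.assoc]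
  refine ⟨Units.map V.topIso.hom.hom.toMonoidHom d, ?_⟩
  apply (ConcreteCategory.bijective_of_isIso (h ⁻¹ᵁ V).topIso.inv).1
  show (h ⁻¹ᵁ V).topIso.inv (h.app V (V.topIso.hom (d : Γ(V.toScheme, ⊤)))) = _
  rw [← restr_appTop, Iso.hom_inv_id_apply]
  exact hd

theorem app_injective (h : X ⟶ Y) [Flat h] [Surjective h] (V : Y.Opens) : Function.Injective (h.app V) := by
  intro s t e
  haveI : Flat (h ∣_ V) := IsZariskiLocalAtTarget.restrict ‹Flat h› V
  haveI : Surjective (h ∣_ V) := IsZariskiLocalAtTarget.restrict ‹Surjective h› V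
  apply (ConcreteCategory.bijective_of_isIso V.topIso.inv).1
  apply AlgSpDM.appTop_injective (h ∣_ V)
  exact (restr_appTop h V s).trans ((congrArg _ e).trans (restr_appTop h V t).symm)

theorem isUnit_coord {M : X.Modules} {U : X.Opens} {x y : Γ(M, U)} (hx : IsFrame x) (hy : IsFrame y) :
    ∃ c : Γ(X, U)ˣ, x = (c : Γ(X, U)) • y := by
  obtain ⟨c, hc⟩ := hy.exists_coord le_rfl x
  obtain ⟨c', hc'⟩ := hx.exists_coord le_rfl y
  rw [AModX.res_self] at hc hc'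
  have h1 : (1 : Γ(X, U)) = c' * c := hy.coord_unique le_rfl (by
    rw [AModX.res_self, one_smul, mul_smul, ← hc, ← hc'])
  exact ⟨⟨c, c', by rw [mul_comm]; exact h1.symm, h1.symm⟩, hc⟩

theorem isIso_ofFrames {M N : X.Modules} {ι : Type u} {U : ι → X.Opens} {e : ∀ a, Γ(M, U a)}
    {n : ∀ a, Γ(N, U a)} (hcov : ∀ x, ∃ a, x ∈ U a) (he : ∀ a, IsFrame (e a)) (hn : ∀ a, IsFrame (n a))
    (hc : ∀ (a b : ι) (W : X.Opens) (ha : W ≤ U a) (hb : W ≤ U b) (g : Γ(X, W)),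
      AModX.res M hb (e b) = g • AModX.res M ha (e a) → AModX.res N hb (n b) = g • AModX.res N ha (n a)) :
    IsIso (ofFrames hcov he hc) := by
  have hc' : ∀ (a b : ι) (W : X.Opens) (ha : W ≤ U a) (hb : W ≤ U b) (g : Γ(X, W)),
      AModX.res N hb (n b) = g • AModX.res N ha (n a) → AModX.res M hb (e b) = g • AModX.res M ha (e a) := fun a b W ha hb g hg => by
    obtain ⟨g', hg'⟩ := (he a).exists_coord ha (AModX.res M hb (e b))
    rw [(hn a).coord_unique ha (hg.symm.trans (hc a b W ha hb g' hg'))]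
    exact hg'
  refine ⟨ofFrames hcov hn hc', hom_ext_of_frames U hcov e he fun a => ?_, hom_ext_of_frames U hcov n hn fun a => ?_⟩
  · show (ofFrames hcov hn hc').app (U a) ((ofFrames hcov he hc).app (U a) (e a)) = e a
    rw [ofFrames_app, ofFrames_app]
  · show (ofFrames hcov he hc).app (U a) ((ofFrames hcov hn hc').app (U a) (n a)) = n a
    rw [ofFrames_app, ofFrames_app]

variable {P P' Q : Pseudofunctor.CoGrothendieck modPF.{u}}

/-- Morphisms agreeing after a faithfully flat cartesian morphism are equal. -/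
theorem cancel_flat (q : P ⟶ P') [IsIso q.fiber] [Flat q.base] [Surjective q.base]
    (hQ : PicF.IsInvertible (mod Q)) {ψ ψ' : P' ⟶ Q} [IsIso ψ.fiber] [IsIso ψ'.fiber]
    (hb : ψ.base = ψ'.base) (h : q ≫ ψ = q ≫ ψ') : ψ = ψ' := by
  refine hom_ext hb fun p => ?_
  obtain ⟨V, hV, y, hy⟩ := InvX.exists_frame hQ (ψ.base p)
  let W := ψ.base ⁻¹ᵁ V
  have hW' : W ≤ ψ'.base ⁻¹ᵁ V := by rw [← hb]
  obtain ⟨x₁, hx₁, -⟩ := exists_rel ψ (le_refl W) y
  obtain ⟨x₂, hx₂, -⟩ := exists_rel ψ' hW' y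
  refine ⟨V, W, le_rfl, y, x₁, hV, hy, hx₁, ?_⟩
  suffices e : x₁ = x₂ by rw [e]; exact hx₂
  obtain ⟨c, hc⟩ := isUnit_coord (rel_isFrame hx₂ hy) (rel_isFrame hx₁ hy)
  obtain ⟨d₁, hd₁, -⟩ := exists_rel q (le_refl (q.base ⁻¹ᵁ W)) x₁
  have hd₂ : Rel q (le_refl (q.base ⁻¹ᵁ W)) x₂ (q.base.appLE W _ le_rfl (c : Γ(P'.base, W)) • d₁) :=
    hc ▸ rel_smul q _ hd₁
  haveI := fib_comp_isIso q ψ'
  have e := (exists_rel (q ≫ ψ') _ y).unique (rel_congr h (rel_comp hx₁ hd₁)) (rel_comp hx₂ hd₂)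
  have hone : (1 : Γ(P.base, q.base ⁻¹ᵁ W)) = q.base.app W (c : Γ(P'.base, W)) := by
    refine (rel_isFrame hd₁ (rel_isFrame hx₁ hy)).coord_unique le_rfl ?_
    rw [AModX.res_self, one_smul, Scheme.Hom.app_eq_appLE]
    exact e
  have : (c : Γ(P'.base, W)) = 1 := app_injective q.base W (by rw [← hone, map_one])
  rw [hc, this, one_smul]

/-- Morphisms of invertible modules descend along faithfully flat quasi-compact morphisms. -/
theorem exists_desc_hom (q : P ⟶ P') [IsIso q.fiber] [Flat q.base] [Surjective q.base] [QuasiCompact q.base]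
    (φ : P ⟶ Q) [IsIso φ.fiber] (t : P'.base ⟶ Q.base) (hb : φ.base = q.base ≫ t)
    (hP' : PicF.IsInvertible (mod P')) (hQ : PicF.IsInvertible (mod Q))
    (hc : ∀ (O : Pseudofunctor.CoGrothendieck modPF.{u}) (a b : O ⟶ P), IsIso a.fiber → IsIso b.fiber →
      a ≫ q = b ≫ q → a ≫ φ = b ≫ φ) :
    ∃ ψ : P' ⟶ Q, ψ.base = t ∧ IsIso ψ.fiber ∧ q ≫ ψ = φ := by
  let N := (Scheme.Modules.pullback t).obj (mod Q)
  let τ : (⟨P'.base, N⟩ : Pseudofunctor.CoGrothendieck modPF.{u}) ⟶ Q := ⟨t, 𝟙 N⟩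
  haveI : IsIso τ.fiber := inferInstanceAs (IsIso (𝟙 N))
  obtain ⟨σ, ⟨hσb, hσ⟩, -⟩ := existsUnique_lift τ φ q.base hb
  have hloc : ∀ p : P'.base, ∃ (U : Q.base.Opens) (V : P'.base.Opens) (hU : V ≤ t ⁻¹ᵁ U)
      (hφ : q.base ⁻¹ᵁ V ≤ φ.base ⁻¹ᵁ U) (x : Γ(mod Q, U)) (e : Γ(mod P', V)) (d : Γ(mod P, q.base ⁻¹ᵁ V)),
      p ∈ V ∧ IsFrame x ∧ IsFrame e ∧ Rel q (le_refl (q.base ⁻¹ᵁ V)) e d ∧ Rel φ hφ x d := by
    intro p
    obtain ⟨U, hU, x, hx⟩ := InvX.exists_frame hQ (t p)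
    obtain ⟨V₀, hV₀, y, hy⟩ := InvX.exists_frame hP' p
    let V := V₀ ⊓ t ⁻¹ᵁ U
    have hφ : q.base ⁻¹ᵁ V ≤ φ.base ⁻¹ᵁ U := by
      intro z hz; rw [hb]; exact hz.2
    obtain ⟨eP, heP, -⟩ := exists_rel q (le_refl (q.base ⁻¹ᵁ V)) (AModX.res _ (inf_le_left : V ≤ V₀) y)
    obtain ⟨xP, hxP, -⟩ := exists_rel φ hφ x
    have heP' := rel_isFrame heP (hy.res _)
    obtain ⟨c, hcP⟩ := isUnit_coord (rel_isFrame hxP hx) heP'
    obtain ⟨d, hd⟩ := exists_app_eq q.base V c fun {Z} a b ha hb' hab => by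
      let O : Pseudofunctor.CoGrothendieck modPF.{u} := ⟨Z, (Scheme.Modules.pullback a).obj (mod P)⟩
      let a' : O ⟶ P := ⟨a, 𝟙 _⟩
      haveI : IsIso a'.fiber := inferInstanceAs (IsIso (𝟙 ((Scheme.Modules.pullback a).obj (mod P))))
      haveI := fib_comp_isIso a' q
      haveI := fib_comp_isIso a' φ
      obtain ⟨b', ⟨hbb, hbq⟩, -⟩ := existsUnique_lift q (a' ≫ q) b hab
      obtain rfl : b'.base = b := hbb
      haveI : IsIso (b' ≫ q).fiber := by rw [hbq]; infer_instance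
      haveI := lift_fiber_isIso q b'
      have hφe := hc O a' b' inferInstance inferInstance hbq.symm
      obtain ⟨eO, heO, -⟩ := exists_rel a' (W := ⊤) ha eP
      obtain ⟨eO', heO', -⟩ := exists_rel b' (W := ⊤) hb' eP
      obtain rfl : eO' = eO := (exists_rel (a' ≫ q) _ _).unique (rel_congr hbq (rel_comp heP heO')) (rel_comp heP heO)
      have h1 := rel_smul a' (c : Γ(P.base, q.base ⁻¹ᵁ V)) heO
      have h2 := rel_smul b' (c : Γ(P.base, q.base ⁻¹ᵁ V)) heO'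
      rw [← hcP] at h1 h2
      have e1 := (exists_rel (a' ≫ φ) _ x).unique (rel_comp hxP h1) (rel_congr hφe.symm (rel_comp hxP h2))
      refine (rel_isFrame heO heP').coord_unique le_rfl ?_
      rw [AModX.res_self]
      exact e1
    refine ⟨U, V, inf_le_right, hφ, x, (d : Γ(P'.base, V)) • AModX.res _ (inf_le_left : V ≤ V₀) y, xP, ⟨hV₀, hU⟩, hx,
      (hy.res _).isUnit_smul d.isUnit, ?_, hxP⟩
    have h3 := rel_smul q (d : Γ(P'.base, V)) heP
    rwa [← Scheme.Hom.app_eq_appLE, hd, ← hcP] at h3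
  choose U V hU hφ x e dP hp hx he hqe hφx using hloc
  let n : ∀ p, Γ(N, V p) := fun p => QCoh.pullSec t (mod Q) (hU p) (x p)
  have hn : ∀ p, IsFrame (n p) := fun p => isFrame_pullSec t (hU p) (hx p)
  have hτ : ∀ p, Rel τ (hU p) (x p) (n p) := fun p => rfl
  have hcomp : ∀ (a b : P'.base) (W : P'.base.Opens) (ha : W ≤ V a) (hb : W ≤ V b) (g : Γ(P'.base, W)),
      AModX.res (mod P') hb (e b) = g • AModX.res (mod P') ha (e a) → AModX.res N hb (n b) = g • AModX.res N ha (n a) := by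
    intro a b W ha hb' g hg
    obtain ⟨g', hg'⟩ := (hn a).exists_coord ha (AModX.res N hb' (n b))
    suffices g = g' by rw [this]; exact hg'
    have hσ' : ∀ (p : P'.base) (hpW : W ≤ V p), Rel σ (V := W) (W := q.base ⁻¹ᵁ W) (by rw [hσb])
        (AModX.res N hpW (n p)) (AModX.res (mod P) (q.base.preimage_mono hpW) (dP p)) := by
      intro p hpW
      haveI : IsIso (σ ≫ τ).fiber := by rw [hσ]; infer_instance
      haveI := lift_fiber_isIso τ σ
      obtain ⟨m, hm, -⟩ := exists_rel σ (V := V p) (W := q.base ⁻¹ᵁ V p) (by rw [hσb]) (n p)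
      obtain rfl : m = dP p := (exists_rel φ (hφ p) (x p)).unique (rel_congr hσ (rel_comp (hτ p) hm)) (hφx p)
      exact rel_res σ hpW (q.base.preimage_mono hpW) _ hm
    have h1 := hσ' a ha
    have h2 := hσ' b hb'
    rw [hg'] at h2
    have h2' := rel_smul σ g' h1
    haveI : IsIso (σ ≫ τ).fiber := by rw [hσ]; infer_instance
    haveI := lift_fiber_isIso τ σ
    have e2 := (exists_rel σ _ _).unique h2 h2'
    have h4 := rel_res q hb' (q.base.preimage_mono hb') le_rfl (hqe b)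
    have h5 := rel_res q ha (q.base.preimage_mono ha) le_rfl (hqe a)
    rw [hg] at h4
    have e3 := (exists_rel q _ _).unique h4 (rel_smul q g h5)
    rw [e2] at e3
    have hframe := rel_isFrame h5 ((he a).res ha)
    have e4 := hframe.coord_unique le_rfl (r := σ.base.appLE W (q.base ⁻¹ᵁ W) (by rw [hσb]) g')
      (r' := q.base.appLE W (q.base ⁻¹ᵁ W) le_rfl g) (by rw [AModX.res_self]; exact e3)
    refine app_injective q.base W ?_
    rw [Scheme.Hom.app_eq_appLE, ← e4]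
    simp only [hσb]
  have hcov : ∀ p : P'.base, ∃ a, p ∈ V a := fun p => ⟨p, hp p⟩
  let m := ofFrames hcov he hcomp
  let ψ : P' ⟶ Q := ⟨t, m⟩
  haveI : IsIso ψ.fiber := isIso_ofFrames hcov he hn hcomp
  refine ⟨ψ, rfl, ‹_›, ?_⟩
  haveI := fib_comp_isIso q ψ
  refine hom_ext hb.symm fun z => ?_
  have h1 : Rel ψ (hU (q.base z)) (x (q.base z)) (e (q.base z)) := ofFrames_app hcov he hcomp (q.base z)
  exact ⟨_, _, _, x (q.base z), dP (q.base z), hp (q.base z), hx _, rel_comp h1 (hqe _), hφx _⟩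

end Groth.Agent.ThetaG
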