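import Groth.Agent.ThetaG.EffLocal
import Groth.Agent.QCoh.DevissageSum

/-!
Effective descent of invertible modules along flat quasi-compact open surjections.
-/

set_option autoImplicit false
set_option linter.style.haveILetI false
set_option backward.isDefEq.respectTransparency false
set_option backward.isDefEq.respectTransparency.types false
set_option maxHeartbeats 1600000

universe u

open CategoryTheory CategoryTheory.Limits AlgebraicGeometry TopologicalSpace Opposite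
open Pseudofunctor Bicategory

noncomputable section

namespace Groth.Agent.ThetaG

open Groth.Agent.AModX Groth.Agent.InvX ThetaGrp

variable {Y : Scheme.{u}} {O P : Pseudofunctor.CoGrothendieck modPF.{u}}
  (q : P.base ⟶ Y) (a b : O ⟶ P) [IsIso a.fiber] [IsIso b.fiber]

theorem ringHom_ulift_int_ext {R : Type*} [Ring R] (f g : ULift.{u} ℤ →+* R) : f = g :=
  RingHom.ext fun ⟨n⟩ => RingHom.congr_fun
    (RingHom.ext_int (f.comp (ULift.ringEquiv.{0, u} (R := ℤ)).symm.toRingHom) (g.comp (ULift.ringEquiv.{0, u} (R := ℤ)).symm.toRingHom)) n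

/-- The inverse image of sections along `c`, as a morphism between the direct images on `Y`. -/
theorem exists_pullMap (c : O ⟶ P) [IsIso c.fiber] (g : O.base ⟶ Y) (hg : c.base ≫ q = g) :
    ∃ φ : (Scheme.Modules.pushforward q).obj (mod P) ⟶ (Scheme.Modules.pushforward g).obj (mod O),
      ∀ (V : Y.Opens) (h : g ⁻¹ᵁ V ≤ c.base ⁻¹ᵁ (q ⁻¹ᵁ V)) (x : Γ(mod P, q ⁻¹ᵁ V)),
        Rel c h x (φ.app V x) := by
  subst hg
  have hex : ∀ (V : Y.Opens) (x : Γ(mod P, q ⁻¹ᵁ V)),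
      ∃! d : Γ(mod O, c.base ⁻¹ᵁ (q ⁻¹ᵁ V)), Rel c (le_refl _) x d := fun V x => exists_rel c _ x
  let F : ∀ V : Y.Opens, Γ(mod P, q ⁻¹ᵁ V) →+ Γ(mod O, c.base ⁻¹ᵁ (q ⁻¹ᵁ V)) := fun V =>
    AddMonoidHom.mk' (fun x => (hex V x).exists.choose) fun x x' => (hex V (x + x')).unique (hex V (x + x')).exists.choose_spec (by
      have h1 := (hex V x).exists.choose_spec
      have h2 := (hex V x').exists.choose_spec
      show (fib c).app _ _ = _
      rw [map_add, show (fib c).app _ _ = _ from h1, show (fib c).app _ (hex V x').exists.choose = _ from h2,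
        QCoh.pullSec_add])
  have hF : ∀ (V : Y.Opens) (x : Γ(mod P, q ⁻¹ᵁ V)), Rel c (le_refl _) x (F V x) := fun V x =>
    (hex V x).exists.choose_spec
  let φ : (Scheme.Modules.pushforward q).obj (mod P) ⟶ (Scheme.Modules.pushforward (c.base ≫ q)).obj (mod O) :=
    ⟨PresheafOfModules.homMk
      { app := fun V => AddCommGrpCat.ofHom (F V.unop)
        naturality := fun V W i => by
          ext x
          refine (hex W.unop _).unique (hF W.unop _) ?_
          exact rel_res c (q.preimage_mono i.unop.le) (c.base.preimage_mono (q.preimage_mono i.unop.le)) le_rfl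
            (hF V.unop x) }
      fun V r x => by
        refine (hex V.unop _).unique (hF V.unop _) ?_
        have h := rel_smul c (q.app V.unop r) (hF V.unop x)
        rw [← Scheme.Hom.app_eq_appLE, ← ConcreteCategory.comp_apply, ← Scheme.Hom.comp_app] at h
        exact h⟩
  exact ⟨φ, fun V h x => hF V x⟩

omit [IsIso a.fiber] [IsIso b.fiber] in
/-- A function with equal inverse images on the fibre product descends. -/
theorem exists_app_eq_fun {X : Scheme.{u}} (h : X ⟶ Y) [Flat h] [Surjective h] [QuasiCompact h] (V : Y.Opens)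
    (c : Γ(X, h ⁻¹ᵁ V))
    (hc : ∀ {Z : Scheme.{u}} (a b : Z ⟶ X) (ha : (⊤ : Z.Opens) ≤ a ⁻¹ᵁ (h ⁻¹ᵁ V))
      (hb : (⊤ : Z.Opens) ≤ b ⁻¹ᵁ (h ⁻¹ᵁ V)), a ≫ h = b ≫ h → a.appLE _ ⊤ ha c = b.appLE _ ⊤ hb c) :
    ∃ d : Γ(Y, V), h.app V d = c := by
  haveI : Flat (h ∣_ V) := IsZariskiLocalAtTarget.restrict ‹Flat h› V
  haveI : Surjective (h ∣_ V) := IsZariskiLocalAtTarget.restrict ‹Surjective h› V
  haveI : QuasiCompact (h ∣_ V) := IsZariskiLocalAtTarget.restrict ‹QuasiCompact h› V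
  let A₁ : CommRingCat.{u} := CommRingCat.of (Polynomial (ULift.{u} ℤ))
  let fn : ∀ {Z : Scheme.{u}}, (Z ⟶ Spec A₁) → Γ(Z, ⊤) := fun g => g.appTop ((Scheme.ΓSpecIso A₁).inv Polynomial.X)
  have hsurj : ∀ {Z : Scheme.{u}} (s : Γ(Z, ⊤)), ∃ g : Z ⟶ Spec A₁, fn g = s := fun {Z} s => by
    let ψ : A₁ ⟶ Γ(Z, ⊤) := CommRingCat.ofHom (Polynomial.eval₂RingHom ((Int.castRingHom Γ(Z, ⊤)).comp ULift.ringEquiv.toRingHom) s)
    refine ⟨Z.toSpecΓ ≫ Spec.map ψ, ?_⟩
    have h1 : (Scheme.ΓSpecIso A₁).inv ≫ (Z.toSpecΓ ≫ Spec.map ψ).appTop = ψ := by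
      rw [Scheme.Hom.comp_appTop, Scheme.toSpecΓ_appTop, ← Category.assoc, ← Scheme.ΓSpecIso_inv_naturality,
        Category.assoc, Iso.inv_hom_id, Category.comp_id]
    exact (congrArg (fun f => f.hom Polynomial.X) h1).trans (Polynomial.eval₂_X _ _)
  have hinj : ∀ {Z : Scheme.{u}} (g g' : Z ⟶ Spec A₁), fn g = fn g' → g = g' := fun {Z} g g' e => by
    refine hom_ext_Spec (CommRingCat.hom_ext (Polynomial.ringHom_ext' ?_ e))
    exact ringHom_ulift_int_ext _ _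
  obtain ⟨gc, hgc⟩ := hsurj ((h ⁻¹ᵁ V).topIso.inv c)
  have Hg : ∀ {Z : Scheme.{u}} (a b : Z ⟶ (h ⁻¹ᵁ V : X.Opens)), a ≫ h ∣_ V = b ≫ h ∣_ V → a ≫ gc = b ≫ gc := by
    intro Z a b e
    refine hinj _ _ ?_
    show (a ≫ gc).appTop _ = (b ≫ gc).appTop _
    rw [Scheme.Hom.comp_appTop, Scheme.Hom.comp_appTop]
    show a.appTop (fn gc) = b.appTop (fn gc)
    rw [hgc, appTop_topIso, appTop_topIso]
    refine hc _ _ _ _ ?_
    rw [Category.assoc, Category.assoc, ← morphismRestrict_ι, ← Category.assoc, e, Category.assoc]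
  refine ⟨V.topIso.hom (fn (EffectiveEpi.desc (h ∣_ V) gc Hg)), ?_⟩
  apply (ConcreteCategory.bijective_of_isIso (h ⁻¹ᵁ V).topIso.inv).1
  rw [← restr_appTop, Iso.hom_inv_id_apply, ← hgc]
  show (h ∣_ V ≫ EffectiveEpi.desc (h ∣_ V) gc Hg).appTop _ = gc.appTop _
  rw [EffectiveEpi.fac (h ∣_ V) gc Hg]

variable (H : IsPullback a.base b.base q q)
  (hdiag : ∀ (R : Pseudofunctor.CoGrothendieck modPF.{u}) (c : R ⟶ O), IsIso c.fiber →
    (c ≫ a).base = (c ≫ b).base → c ≫ a = c ≫ b)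
  (htrans : ∀ (R : Pseudofunctor.CoGrothendieck modPF.{u}) (z₁ z₂ z₃ : R ⟶ O), IsIso z₁.fiber → IsIso z₂.fiber →
    IsIso z₃.fiber → z₁ ≫ b = z₂ ≫ a → z₁ ≫ a = z₃ ≫ a → (z₂ ≫ b).base = (z₃ ≫ b).base → z₂ ≫ b = z₃ ≫ b)

include H in
/-- The ratio of two invariant frames descends. -/
theorem exists_ratio [Flat q] [Surjective q] [QuasiCompact q] {U : Y.Opens}
    {x x' : Γ(mod P, q ⁻¹ᵁ U)} (hx : IsFrame x) (hinv : Inv a b x) (hinv' : Inv a b x') {c : Γ(P.base, q ⁻¹ᵁ U)}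
    (hc : x' = c • x) : ∃ d : Γ(Y, U), q.app U d = c := by
  -- descend `c` as a morphism to the affine line
  let A₁ : CommRingCat.{u} := CommRingCat.of (Polynomial (ULift.{u} ℤ))
  suffices h : ∀ {Z : Scheme.{u}} (a₀ b₀ : Z ⟶ P.base) (ha : (⊤ : Z.Opens) ≤ a₀ ⁻¹ᵁ (q ⁻¹ᵁ U))
      (hb : (⊤ : Z.Opens) ≤ b₀ ⁻¹ᵁ (q ⁻¹ᵁ U)), a₀ ≫ q = b₀ ≫ q →
      a₀.appLE _ ⊤ ha c = b₀.appLE _ ⊤ hb c from exists_app_eq_fun q U c h
  intro Z a₀ b₀ ha hb e
  let z := H.lift a₀ b₀ e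
  have za : z ≫ a.base = a₀ := H.lift_fst _ _ _
  have zb : z ≫ b.base = b₀ := H.lift_snd _ _ _
  let W := a.base ⁻¹ᵁ (q ⁻¹ᵁ U)
  have hWb : W ≤ b.base ⁻¹ᵁ (q ⁻¹ᵁ U) := fun p hp => by
    show (b.base ≫ q) p ∈ U
    rw [← H.w]; exact hp
  obtain ⟨d, hd, -⟩ := exists_rel a (le_refl W) x
  have h1 := rel_smul a c hd
  rw [← hc] at h1
  have h2 := rel_smul b c (hinv W le_rfl hWb d hd)
  rw [← hc] at h2
  have e1 := (exists_rel b hWb x').unique (hinv' W le_rfl hWb _ h1) h2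
  have e2 : a.base.appLE (q ⁻¹ᵁ U) W le_rfl c = b.base.appLE (q ⁻¹ᵁ U) W hWb c :=
    (rel_isFrame hd hx).coord_unique le_rfl (by rw [AModX.res_self]; exact e1)
  have hzW : (⊤ : Z.Opens) ≤ z ⁻¹ᵁ W := fun p hp => by
    show (z ≫ a.base) p ∈ q ⁻¹ᵁ U
    rw [za]; exact ha hp
  have e3 := congrArg (z.appLE W ⊤ hzW) e2
  rw [appLE_appLE z a.base _ hzW (by rw [za]; exact ha), appLE_appLE z b.base _ hzW (by rw [zb]; exact hb)] at e3
  exact (appLE_of_eq za _ ha c).symm.trans (e3.trans (appLE_of_eq zb _ hb c))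

include H hdiag htrans in
/-- An invertible module with descent data descends. -/
theorem exists_eff_desc [Flat q] [QuasiCompact q] [UniversallyOpen q] [Surjective q]
    (hP : PicF.IsInvertible (mod P)) :
    ∃ M : Y.Modules, PicF.IsInvertible M ∧
      ∃ π : P ⟶ (⟨Y, M⟩ : Pseudofunctor.CoGrothendieck modPF.{u}), π.base = q ∧ IsIso π.fiber := by
  choose U x hyU hx hinv using exists_inv_frames q a b H hdiag htrans hP
  let g := a.base ≫ q
  obtain ⟨φa, hφa⟩ := exists_pullMap q a g rfl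
  obtain ⟨φb, hφb⟩ := exists_pullMap q b g H.w.symm
  let M := kernel (φa - φb)
  let ι' := kernel.ι (φa - φb)
  have hι : ∀ V, Function.Injective (ι'.app V) := fun V => QCoh.app_injective ι' V
  have hker : ∀ (V : Y.Opens) (s : Γ(mod P, q ⁻¹ᵁ V)), Inv a b s → ∃ t : Γ(M, V), ι'.app V t = s := fun V s hs => by
    refine QCoh.exists_kernel_lift (φa - φb) V s ?_
    have hb : g ⁻¹ᵁ V ≤ b.base ⁻¹ᵁ (q ⁻¹ᵁ V) := fun p hp => by
      show (b.base ≫ q) p ∈ V
      rw [← H.w]; exact hp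
    have h := (exists_rel b hb s).unique (hs _ le_rfl hb _ (hφa V le_rfl s)) (hφb V hb s)
    show φa.app V s - φb.app V s = 0
    rw [h, sub_self]
  have hinvM : ∀ (V : Y.Opens) (t : Γ(M, V)), Inv a b (show Γ(mod P, q ⁻¹ᵁ V) from ι'.app V t) := fun V t W ha hb d hd => by
    have h0 := congrArg (fun φ => Scheme.Modules.Hom.app φ V t) (kernel.condition (φa - φb))
    have h1 : φa.app V (ι'.app V t) = φb.app V (ι'.app V t) := sub_eq_zero.1 h0
    have hb' : g ⁻¹ᵁ V ≤ b.base ⁻¹ᵁ (q ⁻¹ᵁ V) := fun p hp => by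
      show (b.base ≫ q) p ∈ V
      rw [← H.w]; exact hp
    have h2 := hφb V hb' (ι'.app V t)
    rw [← h1] at h2
    have e := rel_res a (le_refl (q ⁻¹ᵁ V)) ha ha (hφa V le_rfl (ι'.app V t))
    rw [AModX.res_self] at e
    obtain rfl := (exists_rel a ha _).unique hd e
    have e' := rel_res b (le_refl (q ⁻¹ᵁ V)) (show W ≤ g ⁻¹ᵁ V from ha) hb h2
    rwa [AModX.res_self] at e'
  choose xM hxM using fun y => hker (U y) (x y) (hinv y)
  have hres : ∀ {V W : Y.Opens} (h : W ≤ V) (t : Γ(M, V)),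
      (show Γ(mod P, q ⁻¹ᵁ W) from ι'.app W (AModX.res M h t)) =
        AModX.res (mod P) (q.preimage_mono h) (ι'.app V t) := fun h t => AModX.app_res ι' h t
  have hsmul : ∀ {V : Y.Opens} (r : Γ(Y, V)) (t : Γ(M, V)),
      (show Γ(mod P, q ⁻¹ᵁ V) from ι'.app V (r • t)) = q.app V r • (show Γ(mod P, q ⁻¹ᵁ V) from ι'.app V t) :=
    fun r t => Scheme.Modules.Hom.app_smul ι' r t
  have hxMf : ∀ y, IsFrame (xM y) := fun y W hW => by
    have key : ∀ r : Γ(Y, W), (show Γ(mod P, q ⁻¹ᵁ W) from ι'.app W (r • AModX.res M hW (xM y))) =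
        q.app W r • AModX.res (mod P) (q.preimage_mono hW) (x y) := fun r => by
      rw [hsmul, hres hW, hxM]
    refine ⟨fun r r' h => app_injective q W ?_, fun t => ?_⟩
    · refine (hx y).coord_unique (q.preimage_mono hW) ?_
      rw [← key, ← key]
      exact congrArg _ h
    · obtain ⟨c, hc⟩ := (hx y).exists_coord (q.preimage_mono hW) (ι'.app W t)
      have hinvres : Inv a b (AModX.res (mod P) (q.preimage_mono hW) (x y)) := by
        rw [← hxM, ← hres hW]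
        exact hinvM _ _
      obtain ⟨d, hd⟩ := exists_ratio q a b H ((hx y).res _) hinvres (hinvM W t) hc
      exact ⟨d, hι W ((key d).trans (by rw [hd]; exact hc.symm))⟩
  have hM : PicF.IsInvertible M := InvX.isInvertible_of_frames fun y => ⟨U y, hyU y, xM y, hxMf y⟩
  refine ⟨M, hM, ?_⟩
  have hcov : ∀ p : P.base, ∃ y, p ∈ q ⁻¹ᵁ U y := fun p => ⟨q p, hyU (q p)⟩
  let N := (Scheme.Modules.pullback q).obj M
  let n : ∀ y, Γ(N, q ⁻¹ᵁ U y) := fun y => QCoh.pullSec q M le_rfl (xM y)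
  have hn : ∀ y, IsFrame (n y) := fun y => isFrame_pullSec q le_rfl (hxMf y)
  have hcomp : ∀ (y y' : Y) (W : P.base.Opens) (ha : W ≤ q ⁻¹ᵁ U y) (hb : W ≤ q ⁻¹ᵁ U y') (c : Γ(P.base, W)),
      AModX.res (mod P) hb (x y') = c • AModX.res (mod P) ha (x y) →
        AModX.res N hb (n y') = c • AModX.res N ha (n y) := by
    intro y y' W ha hb c hc
    have hW : W ≤ q ⁻¹ᵁ (U y ⊓ U y') := fun p hp => ⟨ha hp, hb hp⟩
    obtain ⟨d, hd⟩ := (hxMf y).exists_coord (inf_le_left : U y ⊓ U y' ≤ U y)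
      (AModX.res M (inf_le_right : U y ⊓ U y' ≤ U y') (xM y'))
    have h1 : AModX.res (mod P) (q.preimage_mono inf_le_right) (x y') =
        q.app (U y ⊓ U y') d • AModX.res (mod P) (q.preimage_mono inf_le_left) (x y) := by
      rw [← hxM, ← hxM, ← hres (inf_le_right : U y ⊓ U y' ≤ U y'), ← hres (inf_le_left : U y ⊓ U y' ≤ U y), hd, hsmul]
    have h2 := congrArg (AModX.res (mod P) hW) h1
    rw [res_smul, res_res, res_res] at h2
    have hcd : c = q.appLE (U y ⊓ U y') W hW d := (hx y).coord_unique ha (by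
      rw [← hc, h2, Scheme.Hom.appLE]
      rfl)
    have hp : ∀ (z : Y) (hle : U y ⊓ U y' ≤ U z) (hz : W ≤ q ⁻¹ᵁ U z),
        AModX.res N hz (n z) = QCoh.pullSec q M hW (AModX.res M hle (xM z)) := fun z hle hz =>
      ExistEasy.pullSec_res q M hle hz le_rfl hW (xM z)
    rw [hp y' inf_le_right hb, hp y inf_le_left ha, hd, QCoh.pullSec_smul, hcd]
  let m := ofFrames (U := fun y => q ⁻¹ᵁ U y) hcov hx hcomp
  let π : P ⟶ (⟨Y, M⟩ : Pseudofunctor.CoGrothendieck modPF.{u}) := ⟨q, m⟩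
  exact ⟨π, rfl, isIso_ofFrames hcov hx hn hcomp⟩

end Groth.Agent.ThetaG
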