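import Groth.Agent.ThetaG.Desc
import Groth.Agent.ThetaG.Pairing
import Groth.Agent.AVIsog3.Basic
import Groth.Prelude.Def_AlgGrp

/-!
Descent of points of the theta group commuting with the points over the kernel.
-/

set_option autoImplicit false
set_option linter.style.haveILetI false
set_option backward.isDefEq.respectTransparency false
set_option backward.isDefEq.respectTransparency.types false
set_option maxHeartbeats 800000

universe u

open CategoryTheory CategoryTheory.Limits MonoidalCategory CartesianMonoidalCategory MonObj AlgebraicGeometry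
  TopologicalSpace
open scoped Groth.Agent.H23.PicMul

noncomputable section

namespace Groth.Agent.ThetaG

open ThetaGrp

theorem isPullback_whiskerRight {S : Scheme.{u}} {A B : Over S} (f : A ⟶ B) (T : Over S) :
    IsPullback (fst A T).left (f ▷ T).left f.left (fst B T).left := by
  refine IsPullback.of_bot ?_ (by rw [← Over.comp_left, ← Over.comp_left, whiskerRight_fst])
    (IsPullback.of_hasPullback B.hom T.hom)
  have e1 : (f ▷ T).left ≫ pullback.snd B.hom T.hom = pullback.snd A.hom T.hom := by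
    show (f ▷ T).left ≫ (snd B T).left = (snd A T).left
    rw [← Over.comp_left, whiskerRight_snd]
  rw [e1, Over.w f]
  exact IsPullback.of_hasPullback A.hom T.hom

variable {k : Type u} [Field k] {A B N : Over (Spec (CommRingCat.of k))} [GrpObj A] [GrpObj B] [GrpObj N]
  [IsProper A.hom] [GeometricallyIntegral A.hom] [IsProper B.hom] [GeometricallyIntegral B.hom]
  {f : A ⟶ B} [IsMonHom f] {i : N ⟶ A}
  {M : B.left.Modules} {L : A.left.Modules} {e : (Scheme.Modules.pullback f.left).obj M ≅ L}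
  {T : Over (Spec (CommRingCat.of k))}

theorem comp_kernel (hN : AlgGrp.IsKernel i f) {T' : Over (Spec (CommRingCat.of k))} (n : T' ⟶ N) :
    (n ≫ i) ≫ f = 1 := by
  rw [Category.assoc, hN.w, ← Category.assoc, toUnit_unique (n ≫ toUnit N) (toUnit T')]
  rfl

theorem isOverPt_one_comp (hN : AlgGrp.IsKernel i f) {T' : Over (Spec (CommRingCat.of k))} (n : T' ⟶ N) :
    IsOverPt (1 : thetaPts B M T') ((n ≫ i) ≫ f) := by
  rw [comp_kernel hN]; exact isOverPt_one

theorem flat_props_whiskerRight (hf : Surjective f.left) (T : Over (Spec (CommRingCat.of k))) :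
    Flat (f ▷ T).left ∧ Surjective (f ▷ T).left ∧ QuasiCompact (f ▷ T).left := by
  haveI := hf
  haveI := AVIsog3.flat_of_surjective f
  haveI : QuasiCompact f.left := by
    haveI : QuasiCompact (f.left ≫ B.hom) := by rw [Over.w]; infer_instance
    exact QuasiCompact.of_comp f.left B.hom
  exact ⟨MorphismProperty.of_isPullback (isPullback_whiskerRight f T) inferInstance,
    MorphismProperty.of_isPullback (isPullback_whiskerRight f T) inferInstance,
    MorphismProperty.of_isPullback (isPullback_whiskerRight f T) inferInstance⟩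

/-- A point commuting with the canonical points over the kernel descends. -/
theorem exists_below (hf : Surjective f.left) (hN : AlgGrp.IsKernel i f) (hM : PicF.IsInvertible M)
    {α : thetaPts A L T} {x : T ⟶ A} (hx : IsOverPt α x)
    (hperp : ∀ (T' : Over (Spec (CommRingCat.of k))) (g : T' ⟶ T) (n : T' ⟶ N) (β : thetaPts A L T'),
      IsOverPt β (n ≫ i) → Above f e β 1 → bc g α * β = β * bc g α) :
    ∃ β : thetaPts B M T, IsOverPt β (x ≫ f) ∧ Above f e α β := by
  obtain ⟨hfl, hsu, hqc⟩ := flat_props_whiskerRight hf T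
  haveI := hfl; haveI := hsu; haveI := hqc
  haveI := isIso_pr_fiber f e T
  haveI := isIso_fiber_of_iso α.1
  haveI := fib_comp_isIso α.1.hom (pr f e T)
  haveI : Flat (pr f e T).base := hfl
  haveI : Surjective (pr f e T).base := hsu
  haveI : QuasiCompact (pr f e T).base := hqc
  have hb : (α.1.hom ≫ pr f e T).base = (pr f e T).base ≫ (transl B (x ≫ f)).left := by
    show α.1.hom.base ≫ (f ▷ T).left = (f ▷ T).left ≫ _
    rw [hx, ← Over.comp_left, transl_whiskerRight, Over.comp_left]
  obtain ⟨ψ, hψb, hψf, hψ⟩ := exists_desc_hom (pr f e T) _ _ hb (isInvertible_obj hM T) (isInvertible_obj hM T)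
    fun O a b ha' hb' hab => by
      haveI := ha'; haveI := hb'
      let Z : Over (Spec (CommRingCat.of k)) := Over.mk (a.base ≫ (A ⊗ T).hom)
      have hab' : a.base ≫ (f ▷ T).left = b.base ≫ (f ▷ T).left :=
        congrArg Pseudofunctor.CoGrothendieck.Hom.base hab
      let az : Z ⟶ A ⊗ T := Over.homMk a.base
      let bz : Z ⟶ A ⊗ T := Over.homMk b.base (by
        show b.base ≫ (A ⊗ T).hom = a.base ≫ (A ⊗ T).hom
        rw [← Over.w (f ▷ T), ← Category.assoc, ← hab', Category.assoc])
      have habz : az ≫ f ▷ T = bz ≫ f ▷ T := Over.OverMorphism.ext hab'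
      have htc : az ≫ snd A T = bz ≫ snd A T := by
        rw [← whiskerRight_snd f T, ← Category.assoc, habz, Category.assoc]
      have hpf : (az ≫ fst A T) ≫ f = (bz ≫ fst A T) ≫ f := by
        rw [Category.assoc, Category.assoc, ← whiskerRight_fst f T, ← Category.assoc, habz, Category.assoc]
      have hker : ((az ≫ fst A T)⁻¹ * (bz ≫ fst A T)) ≫ f = 1 := by
        rw [MonObj.mul_comp, GrpObj.inv_comp, hpf, inv_mul_cancel]
      obtain ⟨n, hn⟩ : ∃ n : Z ⟶ N, n ≫ i = (az ≫ fst A T)⁻¹ * (bz ≫ fst A T) :=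
        ⟨hN.lift _ (toUnit _) hker, hN.lift_fst _ _ _⟩
      let tc : Z ⟶ T := az ≫ snd A T
      let sZ : Z ⟶ A ⊗ Z := lift (az ≫ fst A T) (𝟙 Z)
      have hsa : sZ ≫ A ◁ tc = az := by
        apply CartesianMonoidalCategory.hom_ext
        · rw [Category.assoc, whiskerLeft_fst, lift_fst]
        · rw [Category.assoc, whiskerLeft_snd, lift_snd_assoc, Category.id_comp]
      have hsb : sZ ≫ transl A (n ≫ i) ≫ A ◁ tc = bz := by
        apply CartesianMonoidalCategory.hom_ext
        · simp only [Category.assoc, whiskerLeft_fst, transl_fst, MonObj.comp_mul, sZ, lift_fst, lift_snd_assoc,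
            Category.id_comp]
          rw [hn, mul_inv_cancel_left]
        · simp only [Category.assoc, whiskerLeft_snd, transl_snd_assoc, sZ, lift_snd_assoc, Category.id_comp]
          exact htc
      haveI := isIso_bcLift_fiber (A := A) (L := L) tc
      obtain ⟨a₀, ⟨ha₀, ha₀e⟩, -⟩ := existsUnique_lift (bcLift A L tc) a sZ.left
        (congrArg CommaMorphism.left hsa).symm
      obtain ⟨β, ⟨hβ, hβa⟩, -⟩ := existsUnique_above (f := f) (e := e) (1 : thetaPts B M Z) (n ≫ i)
        (isOverPt_one_comp hN n)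
      have hβ1 : β.1.hom ≫ pr f e Z = pr f e Z := hβa.trans (Category.comp_id _)
      have hbase : b.base = (a₀ ≫ β.1.hom ≫ bcLift A L tc).base := by
        show b.base = a₀.base ≫ β.1.hom.base ≫ (A ◁ tc).left
        rw [ha₀, hβ, ← Over.comp_left, ← Over.comp_left, hsb]
        rfl
      have hbeq : b = a₀ ≫ β.1.hom ≫ bcLift A L tc := by
        obtain ⟨l, -, hl⟩ := existsUnique_lift (pr f e T) (b ≫ pr f e T) b.base rfl
        refine (hl _ ⟨rfl, rfl⟩).trans (hl _ ⟨hbase.symm, ?_⟩).symm
        rw [← hab, ← ha₀e, Category.assoc, Category.assoc, Category.assoc, bcLift_pr f e hM, ← Category.assoc β.1.hom,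
          hβ1]
      have hbc := isBaseChange_bc tc α
      unfold ThetaGrp.IsBaseChange at hbc
      have hcomm : (bc tc α).1.hom ≫ β.1.hom = β.1.hom ≫ (bc tc α).1.hom :=
        congrArg (fun z : thetaPts A L Z => z.1.hom) (hperp Z tc n β hβ hβa).symm
      rw [← ha₀e, hbeq]
      simp only [Category.assoc]
      rw [← reassoc_of% hbc, ← reassoc_of% hcomm, bcLift_pr f e hM, reassoc_of% hβ1]
  haveI := hψf
  exact ⟨ofHom ψ (x ≫ f) hψb, hψb, hψ.symm⟩

variable [IsCommMonObj A] [IsCommMonObj B]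

/-- A point above a point and a point above the unit commute. -/
theorem comm_of_above (hM : PicF.IsInvertible M) {α β : thetaPts A L T} {cM : thetaPts B M T}
    {x y : T ⟶ A} (hα : IsOverPt α x) (hβ : IsOverPt β y) (hαc : Above f e α cM) (hβ1 : Above f e β 1)
    (hc : IsOverPt cM (x ≫ f)) (hy : y ≫ f = 1) : α * β = β * α := by
  have h1 := hαc.mul hβ1
  have h2 := hβ1.mul hαc
  rw [_root_.mul_one] at h1
  rw [_root_.one_mul] at h2
  have hp : IsOverPt cM ((y * x) ≫ f) := by rwa [MonObj.mul_comp, hy, _root_.one_mul]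
  refine (existsUnique_above cM (y * x) hp).unique ⟨isOverPt_mul hα hβ, h1⟩ ⟨?_, h2⟩
  rw [mul_comm y x]
  exact isOverPt_mul hβ hα

theorem comm_scal_mul (hL : PicF.IsInvertible L) {α β : thetaPts A L T} (s t : Γ(T.left, ⊤)ˣ) (h : α * β = β * α) :
    (scal hL s * α) * (scal hL t * β) = (scal hL t * β) * (scal hL s * α) := by
  have hs : ∀ z, Commute (scal hL s : thetaPts A L T) z := scal_comm hL s
  have ht : ∀ z, Commute (scal hL t : thetaPts A L T) z := scal_comm hL t
  exact ((hs _).mul_left ((ht α).symm.mul_right h))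

/-- Points over a point whose image lies in K(M) are orthogonal to the kernel. -/
theorem isPerpPt_of_factors (hL : PicF.IsInvertible L) (hM : PicF.IsInvertible M) (e : (Scheme.Modules.pullback f.left).obj M ≅ L)
    (hN : AlgGrp.IsKernel i f)
    {KM : Over (Spec (CommRingCat.of k))} {iM : KM ⟶ B} (hKM : IsKL B M iM) {x : T ⟶ A}
    (hx : ∃ y : T ⟶ KM, y ≫ iM = x ≫ f) : IsPerpPt L i x := by
  intro T' g n β₁ β₂ h₁ h₂
  obtain ⟨y, hy⟩ := hx
  refine comm_of_bc hL fun t => ?_
  obtain ⟨V, hV, cM, hc⟩ := exists_local_lift hM (T := T') hKM (x := g ≫ x ≫ f) ⟨g ≫ y, by rw [Category.assoc, hy]⟩ t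
  refine ⟨V, hV, ?_⟩
  have hc' : IsOverPt cM ((resι T' V ≫ g ≫ x) ≫ f) := by simpa only [Category.assoc] using hc
  obtain ⟨α, ⟨hα, hαc⟩, -⟩ := existsUnique_above (f := f) (e := e) cM (resι T' V ≫ g ≫ x) hc'
  have hn := isOverPt_one_comp (M := M) hN (resι T' V ≫ n)
  obtain ⟨α', ⟨hα', hα'1⟩, -⟩ := existsUnique_above (f := f) (e := e) 1 ((resι T' V ≫ n) ≫ i) hn
  obtain ⟨s, hs⟩ := exists_scal_mul hL hα (isOverPt_bc (resι T' V) h₁)
  obtain ⟨s', hs'⟩ := exists_scal_mul hL hα' (by rw [Category.assoc]; exact isOverPt_bc (resι T' V) h₂)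
  rw [hs, hs']
  exact comm_scal_mul hL s s' (comm_of_above hM hα hα' hαc hα'1 hc' (comp_kernel hN _))

/-- `f⁻¹(K(M))` is the orthogonal of the kernel in `K(L)`. -/
theorem factors_iff_perp (hL : PicF.IsInvertible L) (hM : PicF.IsInvertible M) (e : (Scheme.Modules.pullback f.left).obj M ≅ L)
    (hf : Surjective f.left) (hN : AlgGrp.IsKernel i f)
    {KL : Over (Spec (CommRingCat.of k))} {iL : KL ⟶ A} (hKL : IsKL A L iL)
    {KM : Over (Spec (CommRingCat.of k))} {iM : KM ⟶ B} (hKM : IsKL B M iM) (x : T ⟶ A) :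
    (∃ y : T ⟶ KM, y ≫ iM = x ≫ f) ↔ ((∃ y : T ⟶ KL, y ≫ iL = x) ∧ IsPerpPt L i x) := by
  refine ⟨fun h => ⟨?_, isPerpPt_of_factors hL hM e hN hKM h⟩, fun ⟨hx, hperp⟩ => ?_⟩
  · haveI := hKL.closed
    refine factors_of_local fun t => ?_
    obtain ⟨V, hV, cM, hc⟩ := exists_local_lift hM hKM h t
    obtain ⟨α, ⟨hα, -⟩, -⟩ := existsUnique_above (f := f) (e := e) cM (resι T V ≫ x) (by rwa [Category.assoc])
    exact ⟨V, hV, factors_of_overPt hL hKL hα⟩
  · haveI := hKM.closed
    refine factors_of_local fun t => ?_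
    obtain ⟨V, hV, α, hα⟩ := exists_local_lift hL hKL hx t
    obtain ⟨β, hβ, -⟩ := exists_below (e := e) hf hN hM hα fun T' g n β hβ _ =>
      hperp T' (g ≫ resι T V) n _ _ (by rw [Category.assoc]; exact isOverPt_bc g hα) hβ
    obtain ⟨y, hy⟩ := factors_of_overPt hM hKM hβ
    exact ⟨V, hV, y, by rw [hy, Category.assoc]⟩

/-- The centraliser of a lift of the kernel lies over `K(M)`. -/
theorem centralizer_iff (hL : PicF.IsInvertible L) (hM : PicF.IsInvertible M) (e : (Scheme.Modules.pullback f.left).obj M ≅ L)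
    (hf : Surjective f.left) (hN : AlgGrp.IsKernel i f)
    {G : Over (Spec (CommRingCat.of k))} [GrpObj G] {u : thetaPts A L G} (hG : IsThetaGrpSch A L G u) {j : N ⟶ G}
    (hover : ∀ (T : Over (Spec (CommRingCat.of k))) (n : T ⟶ N) (β : thetaPts A L T),
      IsBaseChange β (n ≫ j) u → IsOverPt β (n ≫ i))
    {KM : Over (Spec (CommRingCat.of k))} {iM : KM ⟶ B} (hKM : IsKL B M iM)
    {g : T ⟶ G} {x : T ⟶ A} {β : thetaPts A L T} (hβ : IsBaseChange β g u) (hx : IsOverPt β x) :
    (∀ (T' : Over (Spec (CommRingCat.of k))) (t : T' ⟶ T) (n : T' ⟶ N),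
        (t ≫ g) * (n ≫ j) = (n ≫ j) * (t ≫ g)) ↔ ∃ y : T ⟶ KM, y ≫ iM = x ≫ f := by
  obtain rfl : β = bc g u := isBaseChange_iff.1 hβ
  have hmul : ∀ {T' : Over (Spec (CommRingCat.of k))} (p q : T' ⟶ G), bc (p * q) u = bc p u * bc q u := fun p q =>
    (isBaseChange_iff.1 (hG.mul _ p q _ _ (isBaseChange_bc p u) (isBaseChange_bc q u))).symm
  refine ⟨fun hc => ?_, fun h T' t n => ?_⟩
  · obtain ⟨β', hβ', -⟩ := exists_below (e := e) hf hN hM hx fun T' t n β hβn _ => by
      obtain ⟨s, hs⟩ := exists_scal_mul hL (hover T' n _ (isBaseChange_bc (n ≫ j) u)) hβn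
      have h1 : Commute (bc t (bc g u)) (bc (n ≫ j) u) := by
        have h2 := congrArg (fun p => bc p u) (hc T' t n)
        simp only [hmul, bc_comp hL t g u] at h2
        exact h2
      rw [hs]
      exact (Commute.mul_right (scal_comm hL s _).symm h1)
    exact factors_of_overPt hM hKM hβ'
  · have hp := isPerpPt_of_factors hL hM e hN hKM h T' t n _ _
      (show IsOverPt (bc (t ≫ g) u) (t ≫ x) by rw [bc_comp hL]; exact isOverPt_bc t hx)
      (hover T' n _ (isBaseChange_bc (n ≫ j) u))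
    exact (hG.univ T' _).unique (isBaseChange_iff.2 (hmul _ _).symm) (isBaseChange_iff.2 (hp.trans (hmul _ _).symm))

end Groth.Agent.ThetaG
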