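import Groth.Agent.ThetaG.FinPerp
import Groth.Agent.ThetaG.Perp
import Groth.Agent.H23.CubeAb
import Groth.Agent.ThetaG.Mumford
import Groth.Agent.ThetaG.KL
import Groth.Agent.Lib.AVMulN
import Groth.Agent.AVDegLib.MulN

/-!
The rank of `K(L)` along isogenies.
-/

set_option autoImplicit false
set_option linter.style.haveILetI false
set_option linter.unusedSectionVars false
set_option backward.isDefEq.respectTransparency false
set_option backward.isDefEq.respectTransparency.types false
set_option maxHeartbeats 1600000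

universe u

open CategoryTheory CategoryTheory.Limits MonoidalCategory CartesianMonoidalCategory MonObj GrpObj AlgebraicGeometry
open scoped Groth.Agent.H23.PicMul

noncomputable section

namespace Groth.Agent.ThetaG

open ThetaGrp Groth.Agent.H23

variable {k : Type u} [Field k]


/-- Two monomorphisms with the same points have the same rank. -/
theorem rk_congr_points {X P Q : Over (Spec (CommRingCat.of k))} (p : P ⟶ X) (q : Q ⟶ X) [Mono p] [Mono q] [IsFinite Q.hom]
    (h : ∀ {T : Over (Spec (CommRingCat.of k))} (x : T ⟶ X), (∃ y : T ⟶ P, y ≫ p = x) ↔ ∃ y : T ⟶ Q, y ≫ q = x) :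
    IsFinite P.hom ∧ rk P = rk Q := by
  obtain ⟨a, ha⟩ := (h p).1 ⟨𝟙 P, Category.id_comp _⟩
  obtain ⟨b, hb⟩ := (h q).2 ⟨𝟙 Q, Category.id_comp _⟩
  haveI : IsIso a := ⟨b, by rw [← cancel_mono p, Category.assoc, hb, ha, Category.id_comp],
    by rw [← cancel_mono q, Category.assoc, ha, hb, Category.id_comp]⟩
  haveI : IsIso a.left := inferInstanceAs (IsIso ((Over.forget _).map a))
  refine ⟨?_, rk_of_iso a⟩
  rw [← Over.w a]
  infer_instance

section Preimage

variable {A B : Over (Spec (CommRingCat.of k))} [GrpObj B] [GeometricallyIntegral B.hom] {N : Over (Spec (CommRingCat.of k))} {i : N ⟶ A}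
  {f : A ⟶ B} [IsFinite f.left] [Flat f.left] [LocallyOfFinitePresentation f.left]

/-- The inverse image of a finite subscheme under an isogeny. -/
theorem exists_preimage (hN : AlgGrp.IsKernel i f) {K : Over (Spec (CommRingCat.of k))} [IsFinite K.hom] (iK : K ⟶ B)
    [IsClosedImmersion iK.left] :
    ∃ (P : Over (Spec (CommRingCat.of k))) (p : P ⟶ A), IsClosedImmersion p.left ∧ IsFinite P.hom ∧ rk P = rk N * rk K ∧
      ∀ {T : Over (Spec (CommRingCat.of k))} (x : T ⟶ A), (∃ y : T ⟶ P, y ≫ p = x) ↔ ∃ y : T ⟶ K, y ≫ iK = x ≫ f := by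
  let P : Over (Spec (CommRingCat.of k)) := Over.mk (pullback.fst f.left iK.left ≫ A.hom)
  let p : P ⟶ A := Over.homMk (pullback.fst f.left iK.left) rfl
  let q : P ⟶ K := Over.homMk (pullback.snd f.left iK.left) (by
    show pullback.snd f.left iK.left ≫ K.hom = pullback.fst f.left iK.left ≫ A.hom
    rw [← Over.w iK, ← pullback.condition_assoc, Over.w f])
  haveI : IsFinite q.left := inferInstanceAs (IsFinite (pullback.snd f.left iK.left))
  haveI : Flat q.left := inferInstanceAs (Flat (pullback.snd f.left iK.left))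
  haveI : IsFinite P.hom := by rw [← Over.w q]; infer_instance
  refine ⟨P, p, inferInstanceAs (IsClosedImmersion (pullback.fst f.left iK.left)), inferInstance,
    rk_mul q (rk N) fun y => ?_, fun {T} x => ⟨?_, ?_⟩⟩
  · show Scheme.Hom.finrank (pullback.snd f.left iK.left) y = _
    rw [Scheme.Hom.finrank_pullback_snd]
    exact (finrank_eq_rk_kernel hN).2 _
  · rintro ⟨y, rfl⟩
    refine ⟨y ≫ q, Over.OverMorphism.ext ?_⟩
    show (y.left ≫ pullback.snd _ _) ≫ iK.left = (y.left ≫ pullback.fst _ _) ≫ f.left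
    rw [Category.assoc, Category.assoc, pullback.condition]
  · rintro ⟨y, hy⟩
    have h := (congrArg CommaMorphism.left hy).symm
    exact ⟨Over.homMk (pullback.lift x.left y.left h) (by
      show pullback.lift x.left y.left h ≫ pullback.fst _ _ ≫ A.hom = T.hom
      rw [pullback.lift_fst_assoc, Over.w x]), Over.OverMorphism.ext (pullback.lift_fst _ _ h)⟩

end Preimage

variable {A : Over (Spec (CommRingCat.of k))} [GrpObj A] [IsProper A.hom] [GeometricallyIntegral A.hom]

omit [GrpObj A] [GeometricallyIntegral A.hom] in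
theorem mono_of_closed {Z : Over (Spec (CommRingCat.of k))} (z : Z ⟶ A) [IsClosedImmersion z.left] : Mono z :=
  (Over.forget _).mono_of_mono_map (inferInstanceAs (Mono z.left))

/-- The kernel of an isogeny as a finite subgroup. -/
theorem exists_kernel_isogeny {B : Over (Spec (CommRingCat.of k))} [GrpObj B] [IsProper B.hom] [GeometricallyIntegral B.hom] (f : A ⟶ B)
    [IsMonHom f] [IsFinite f.left] :
    ∃ (N : Over (Spec (CommRingCat.of k))) (_ : GrpObj N) (i : N ⟶ A), IsMonHom i ∧ IsClosedImmersion i.left ∧ IsFinite N.hom ∧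
      AlgGrp.IsKernel i f := by
  obtain ⟨N, str, i, h1, h2, _, h4⟩ := GrpSchLib.exists_kernel f
  refine ⟨N, str, i, h1, h2, ?_, h4⟩
  exact MorphismProperty.of_isPullback (P := @IsFinite) (Functor.map_isPullback (Over.forget _) h4)
    (show IsFinite f.left from inferInstance)

variable [IsCommMonObj A]

/-- The kernel of a composite of isogenies. -/
theorem rk_kernel_comp {B C : Over (Spec (CommRingCat.of k))} [GrpObj B] [IsProper B.hom] [GeometricallyIntegral B.hom] [GrpObj C]
    {f : A ⟶ B} [IsMonHom f] [IsFinite f.left] [Surjective f.left] {g : B ⟶ C} [IsMonHom g]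
    {N : Over (Spec (CommRingCat.of k))} {i : N ⟶ A} (hN : AlgGrp.IsKernel i f)
    {N' : Over (Spec (CommRingCat.of k))} [IsFinite N'.hom] {i' : N' ⟶ B} [IsClosedImmersion i'.left] (hN' : AlgGrp.IsKernel i' g)
    {P : Over (Spec (CommRingCat.of k))} {p : P ⟶ A} [Mono p] (hP : AlgGrp.IsKernel p (f ≫ g)) : rk P = rk N * rk N' := by
  haveI := AVIsog3.flat_of_surjective f
  haveI := AVIsog3.lfp_left f
  obtain ⟨Q, q, hq, hQf, hQ, hQpts⟩ := exists_preimage hN i'
  haveI := hq
  haveI := hQf
  haveI := mono_of_closed q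
  refine (rk_congr_points p q fun {T} x => ?_).2.trans hQ
  rw [hQpts]
  constructor
  · rintro ⟨y, rfl⟩
    have h : ((y ≫ p) ≫ f) ≫ g = toUnit T ≫ η[C] := by
      rw [Category.assoc, Category.assoc, hP.w, ← Category.assoc, toUnit_unique (y ≫ toUnit P) (toUnit T)]
    exact ⟨hN'.lift ((y ≫ p) ≫ f) (toUnit T) h, hN'.lift_fst _ _ h⟩
  · rintro ⟨y, hy⟩
    have h : x ≫ f ≫ g = toUnit T ≫ η[C] := by
      rw [← Category.assoc, ← hy, Category.assoc, hN'.w, ← Category.assoc, toUnit_unique (y ≫ toUnit N') (toUnit T)]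
    exact ⟨hP.lift x (toUnit T) h, hP.lift_fst _ _ h⟩

section Cube

variable {B : Over (Spec (CommRingCat.of k))} [GrpObj B] [IsProper B.hom] [GeometricallyIntegral B.hom] [IsCommMonObj B] {M : B.left.Modules}

/-- The unit of a pulled back invertible class. -/
def pun (hM : PicF.IsInvertible M) {T : Over (Spec (CommRingCat.of k))} (f : T ⟶ B) : (PicF.Cl T.left)ˣ :=
  IsUnit.unit (isUnit_pull (A := B) (L := M) hM f)

theorem val_pun (hM : PicF.IsInvertible M) {T : Over (Spec (CommRingCat.of k))} (f : T ⟶ B) :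
    ((pun hM f : (PicF.Cl T.left)ˣ) : PicF.Cl T.left) = PicF.pullCl f.left (PicF.cl M) := rfl

/-- The second difference of a class. -/
def dd (hM : PicF.IsInvertible M) {T : Over (Spec (CommRingCat.of k))} (f g : T ⟶ B) : (PicF.Cl T.left)ˣ :=
  pun hM (f * g) / (pun hM f * pun hM g)

theorem dd_eq_one_iff (hM : PicF.IsInvertible M) {T : Over (Spec (CommRingCat.of k))} (f g : T ⟶ B) :
    dd hM f g = 1 ↔ PicF.pullCl (f * g).left (PicF.cl M) =
      PicF.pullCl f.left (PicF.cl M) * PicF.pullCl g.left (PicF.cl M) := by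
  rw [dd, div_eq_one, Units.ext_iff, Units.val_mul, val_pun, val_pun, val_pun]

theorem dd_comm (hM : PicF.IsInvertible M) {T : Over (Spec (CommRingCat.of k))} (f g : T ⟶ B) : dd hM f g = dd hM g f := by
  rw [dd, dd, mul_comm f g, mul_comm (pun hM f) (pun hM g)]

theorem dd_mul_left (hM : PicF.IsInvertible M) {T : Over (Spec (CommRingCat.of k))} (f g h : T ⟶ B) :
    dd hM (f * g) h = dd hM f h * dd hM g h := by
  have hc := CubeAb.cube (A := B) (c := PicF.cl M) ⟨M, rfl, hM⟩ f g h
  have hu : pun hM (f * g * h) * pun hM f * pun hM g * pun hM h =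
      pun hM (f * g) * pun hM (f * h) * pun hM (g * h) := Units.ext hc
  simp only [dd]
  rw [div_mul_div_comm, div_eq_div_iff_mul_eq_mul]
  calc pun hM (f * g * h) * (pun hM f * pun hM h * (pun hM g * pun hM h))
      = (pun hM (f * g * h) * pun hM f * pun hM g * pun hM h) * pun hM h := by ac_rfl
    _ = (pun hM (f * g) * pun hM (f * h) * pun hM (g * h)) * pun hM h := by rw [hu]
    _ = _ := by ac_rfl

theorem dd_pow_left (hM : PicF.IsInvertible M) {T : Over (Spec (CommRingCat.of k))} (f h : T ⟶ B) :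
    ∀ n : ℕ, 0 < n → dd hM (f ^ n) h = dd hM f h ^ n
  | 0, hn => absurd hn (lt_irrefl 0)
  | 1, _ => by rw [pow_one, pow_one]
  | n + 2, _ => by rw [pow_succ f (n + 1), dd_mul_left, dd_pow_left hM f h (n + 1) (Nat.succ_pos n), ← pow_succ]

theorem dd_pow_right (hM : PicF.IsInvertible M) {T : Over (Spec (CommRingCat.of k))} (f h : T ⟶ B) (n : ℕ) (hn : 0 < n) :
    dd hM f (h ^ n) = dd hM f h ^ n := by
  rw [dd_comm, dd_pow_left hM h f n hn, dd_comm]

theorem dd_pow_pow (hM : PicF.IsInvertible M) {T : Over (Spec (CommRingCat.of k))} (f h : T ⟶ B) (n : ℕ) (hn : 0 < n) :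
    dd hM (f ^ n) (h ^ n) = dd hM f (h ^ (n ^ 2)) := by
  rw [dd_pow_left hM f _ n hn, dd_pow_right hM f _ n hn, dd_pow_right hM f _ (n ^ 2) (pow_pos hn 2), ← pow_mul, pow_two]

theorem factors_iff_dd (hM : PicF.IsInvertible M) {KM : Over (Spec (CommRingCat.of k))} {iM : KM ⟶ B} (hKM : IsKL B M iM) {T : Over (Spec (CommRingCat.of k))} (x : T ⟶ B) :
    (∃ y : T ⟶ KM, y ≫ iM = x) ↔ dd hM (fst B T) (snd B T ≫ x) = 1 := by
  haveI : Subsingleton (Spec (CommRingCat.of k) : Scheme.{u}) := inferInstanceAs (Subsingleton (PrimeSpectrum k))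
  haveI : Nonempty (Spec (CommRingCat.of k) : Scheme.{u}) := inferInstanceAs (Nonempty (PrimeSpectrum k))
  rw [← hKM.univ, KLBasic.iff_eq_pull hM, dd_eq_one_iff]
  unfold KLBasic.Eq
  rw [transl_fst, PicClLib.pullCl_comp, Over.comp_left]

/-- `K([n]^*M)` is the inverse image of `K(M)` under multiplication by `n^2`. -/
theorem factors_KL_pow (hM : PicF.IsInvertible M) {KM : Over (Spec (CommRingCat.of k))} {iM : KM ⟶ B} (hKM : IsKL B M iM) (n : ℕ) (hn : 0 < n)
    {K : Over (Spec (CommRingCat.of k))} {iK : K ⟶ B} (hK : IsKL B ((Scheme.Modules.pullback ((𝟙 B) ^ n : B ⟶ B).left).obj M) iK)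
    {T : Over (Spec (CommRingCat.of k))} (x : T ⟶ B) : (∃ y : T ⟶ K, y ≫ iK = x) ↔ ∃ y : T ⟶ KM, y ≫ iM = x ≫ (𝟙 B) ^ (n ^ 2) := by
  have hM' := PicClLib.isInvertible_pullback ((𝟙 B) ^ n : B ⟶ B).left hM
  rw [factors_iff_dd hM' hK, factors_iff_dd hM hKM, dd_eq_one_iff, MonObj.comp_pow, MonObj.comp_pow,
    Category.comp_id, ← dd_pow_pow hM _ _ n hn, dd_eq_one_iff]
  have h : ∀ {U : Over (Spec (CommRingCat.of k))} (v : U ⟶ B), PicF.pullCl v.left (PicF.cl ((Scheme.Modules.pullback ((𝟙 B) ^ n : B ⟶ B).left).obj M)) =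
      PicF.pullCl (v ^ n).left (PicF.cl M) := fun v => by
    show PicF.pullCl v.left (PicF.pullCl ((𝟙 B) ^ n : B ⟶ B).left (PicF.cl M)) = _
    rw [PicClLib.pullCl_comp, ← Over.comp_left, MonObj.comp_pow, Category.comp_id]
  rw [h, h, h, mul_pow]

end Cube

variable {B : Over (Spec (CommRingCat.of k))} [GrpObj B] [IsProper B.hom] [GeometricallyIntegral B.hom] [IsCommMonObj B]

/-- The rank of `K(f^*M)` is at most `deg(f)^2` times that of `K(M)`. -/
theorem rk_pull_le {L : A.left.Modules} (hL : PicF.IsInvertible L) {M : B.left.Modules} (hM : PicF.IsInvertible M)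
    (f : A ⟶ B) [IsMonHom f] [IsFinite f.left] [Surjective f.left] (e : (Scheme.Modules.pullback f.left).obj M ≅ L)
    {N : Over (Spec (CommRingCat.of k))} [GrpObj N] [IsFinite N.hom] {i : N ⟶ A} [IsMonHom i] (hN : AlgGrp.IsKernel i f)
    {KL : Over (Spec (CommRingCat.of k))} [IsFinite KL.hom] {iL : KL ⟶ A} (hKL : IsKL A L iL)
    {KM : Over (Spec (CommRingCat.of k))} [IsFinite KM.hom] {iM : KM ⟶ B} (hKM : IsKL B M iM) :
    rk KL ≤ rk N ^ 2 * rk KM := by
  haveI := AVIsog3.flat_of_surjective f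
  haveI := AVIsog3.lfp_left f
  haveI := hKM.closed
  have hiK : ∃ y : N ⟶ KL, y ≫ iL = i := by
    refine ((factors_iff_perp hL hM e ‹Surjective f.left› hN hKL hKM i).1 ?_).1
    rw [hN.w]
    exact factors_one hM hKM N
  obtain ⟨Z, _, z, hz1, hz2, hz3, hzpts⟩ := exists_perp_sub hL hKL i hiK
  haveI := hz1
  haveI := hz2
  haveI := hz3
  obtain ⟨P, p, hp, hPf, hP, hPpts⟩ := exists_preimage hN iM
  haveI := hp
  haveI := hPf
  haveI := mono_of_closed p
  haveI := mono_of_closed z
  have hZ : rk Z = rk N * rk KM := (rk_congr_points z p fun {T} x => by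
    rw [hzpts, hPpts]; exact (factors_iff_perp hL hM e ‹Surjective f.left› hN hKL hKM x).symm).2.trans hP
  calc rk KL ≤ rk Z * rk N := rk_le_mul hL hKL i hiK z hzpts
    _ = rk N ^ 2 * rk KM := by rw [hZ]; ring

/-- `K(f^*M)` is finite of rank `deg(f)^2` times that of `K(M)`. -/
theorem rk_KL_pullback {M : B.left.Modules} (hM : PicF.IsInvertible M) (f : A ⟶ B) [IsMonHom f] [IsFinite f.left]
    [Surjective f.left] {N : Over (Spec (CommRingCat.of k))} [GrpObj N] {i : N ⟶ A} [IsMonHom i] (hN : AlgGrp.IsKernel i f)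
    {L : A.left.Modules} (hL : PicF.IsInvertible L) (e : (Scheme.Modules.pullback f.left).obj M ≅ L)
    {KL : Over (Spec (CommRingCat.of k))} {iL : KL ⟶ A} (hKL : IsKL A L iL) {KM : Over (Spec (CommRingCat.of k))} [IsFinite KM.hom] {iM : KM ⟶ B} (hKM : IsKL B M iM) :
    IsFinite KL.hom ∧ rk KL = rk N ^ 2 * rk KM := by
  haveI := AVIsog3.flat_of_surjective f
  haveI := AVIsog3.lfp_left f
  haveI := hKM.closed
  haveI := hKL.closed
  haveI : IsFinite N.hom := (finrank_eq_rk_kernel hN).1
  obtain ⟨n, g, hn, hg, hfg, hgf⟩ := AVIsog3.exists_quasiInverse f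
  haveI := hg
  haveI : ∀ m : ℕ, IsMonHom ((𝟙 B) ^ m : B ⟶ B) := fun m => by
    induction m with
    | zero => rw [pow_zero, Hom.one_def]; infer_instance
    | succ m ih => rw [pow_succ, Hom.mul_def]; infer_instance
  have hfinB : ∀ m : ℕ, 0 < m → IsFinite ((𝟙 B) ^ m : B ⟶ B).left ∧ Surjective ((𝟙 B) ^ m : B ⟶ B).left := fun m hm => by
    have h := (AVDegLib.zpow_props (A := B) (m : ℤ) (by exact_mod_cast hm.ne')).1
    rw [zpow_natCast] at h
    exact ⟨h, AVMulN.surjective_pow (A := B) m hm⟩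
  haveI : IsFinite g.left := by
    haveI : IsFinite (g.left ≫ f.left) := by rw [← Over.comp_left, hgf]; exact (hfinB n hn).1
    exact IsFinite.of_comp g.left f.left
  haveI : Surjective g.left := by
    haveI : Surjective (f.left ≫ g.left) := by rw [← Over.comp_left, hfg]; exact AVMulN.surjective_pow (A := A) n hn
    exact Surjective.of_comp f.left g.left
  haveI := AVIsog3.flat_of_surjective g
  haveI := AVIsog3.lfp_left g
  obtain ⟨Ng, _, ig, hig1, hig2, hig3, hNg⟩ := exists_kernel_isogeny g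
  haveI := hig1
  haveI := hig2
  haveI := hig3
  -- `K([n]^*M)`
  let nn : B ⟶ B := (𝟙 B) ^ n
  let n2 : B ⟶ B := (𝟙 B) ^ (n ^ 2)
  have hMn : PicF.IsInvertible ((Scheme.Modules.pullback nn.left).obj M) := PicClLib.isInvertible_pullback nn.left hM
  obtain ⟨Kn, iKn, hKn⟩ := exists_KL (A := B) hMn
  haveI := hKn.closed
  haveI := mono_of_closed iKn
  haveI := (hfinB n hn).1
  haveI := (hfinB n hn).2
  haveI := (hfinB (n ^ 2) (pow_pos hn 2)).1
  haveI := (hfinB (n ^ 2) (pow_pos hn 2)).2
  haveI := AVIsog3.flat_of_surjective n2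
  haveI := AVIsog3.lfp_left n2
  obtain ⟨Nn, _, inn, hin1, hin2, hin3, hNn⟩ := exists_kernel_isogeny nn
  haveI := hin1
  haveI := hin2
  haveI := hin3
  haveI := mono_of_closed inn
  obtain ⟨N2, _, i2, hi21, hi22, hi23, hN2⟩ := exists_kernel_isogeny n2
  haveI := hi22
  haveI := hi23
  haveI := mono_of_closed i2
  obtain ⟨P, p, hp, hPf, hP, hPpts⟩ := exists_preimage hN2 iM
  haveI := hp
  haveI := hPf
  haveI := mono_of_closed p
  obtain ⟨hKnf, hKnP⟩ := rk_congr_points iKn p fun {T} x => by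
    rw [hPpts]; exact factors_KL_pow hM hKM n hn hKn x
  haveI := hKnf
  have hN2n : rk N2 = rk Nn * rk Nn := by
    refine rk_kernel_comp hNn hNn (p := i2) ?_
    have : nn ≫ nn = n2 := by
      simp only [nn, n2, MonObj.comp_pow, Category.comp_id, ← pow_mul, pow_two]
    rwa [this]
  have hNn' : rk Nn = rk Ng * rk N := by
    haveI : IsClosedImmersion i.left := by
      exact MorphismProperty.of_isPullback (P := @IsClosedImmersion)
        (Functor.map_isPullback (Over.forget _) hN).flip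
        (show IsClosedImmersion η[B].left from inferInstance)
    refine rk_kernel_comp hNg hN (p := inn) ?_
    rwa [hgf]
  -- the isomorphism of modules
  obtain ⟨eg⟩ : Nonempty ((Scheme.Modules.pullback g.left).obj L ≅ (Scheme.Modules.pullback nn.left).obj M) := by
    refine (PicGrp.cl_eq_cl_iff _ _).1 ?_
    show PicF.pullCl g.left (PicF.cl L) = PicF.pullCl nn.left (PicF.cl M)
    rw [← (PicGrp.cl_eq_cl_iff _ _).2 ⟨e⟩]
    show PicF.pullCl g.left (PicF.pullCl f.left (PicF.cl M)) = _
    rw [PicClLib.pullCl_comp, ← Over.comp_left, hgf]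
  -- finiteness
  haveI : IsFinite KL.hom := by
    obtain ⟨Q, q, hq, hQf, -, hQpts⟩ : ∃ (Q : Over (Spec (CommRingCat.of k))) (q : Q ⟶ B), IsClosedImmersion q.left ∧ IsFinite Q.hom ∧ True ∧
        ∀ {T : Over (Spec (CommRingCat.of k))} (x : T ⟶ B), (∃ y : T ⟶ Q, y ≫ q = x) ↔ ∃ y : T ⟶ Kn, y ≫ iKn = x :=
      ⟨Kn, iKn, inferInstance, inferInstance, trivial, fun {T} x => Iff.rfl⟩
    let R : Over (Spec (CommRingCat.of k)) := Over.mk (pullback.fst g.left iL.left ≫ B.hom)
    let r : R ⟶ B := Over.homMk (pullback.fst g.left iL.left) rfl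
    let r' : R ⟶ KL := Over.homMk (pullback.snd g.left iL.left) (by
      show pullback.snd g.left iL.left ≫ KL.hom = pullback.fst g.left iL.left ≫ B.hom
      rw [← Over.w iL, ← pullback.condition_assoc, Over.w g])
    have hr : r' ≫ iL = r ≫ g := Over.OverMorphism.ext pullback.condition.symm
    obtain ⟨y, hy⟩ := ((factors_iff_perp hMn hL eg ‹Surjective g.left› hNg hKn hKL r).1 ⟨r', hr⟩).1
    haveI : Finite Kn.left := by
      haveI : Subsingleton (Spec (CommRingCat.of k) : Scheme.{u}) := inferInstanceAs (Subsingleton (PrimeSpectrum k))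
      refine Set.finite_univ_iff.1 ((Kn.hom.finite_preimage_singleton (IsLocalRing.closedPoint k)).subset fun x _ => ?_)
      exact Subsingleton.elim _ _
    haveI : IsClosedImmersion r.left := inferInstanceAs (IsClosedImmersion (pullback.fst g.left iL.left))
    haveI : Finite R.left := Finite.of_injective y.left fun a b hab => r.left.isEmbedding.injective (by
      rw [← hy, Over.comp_left, Scheme.Hom.comp_apply, Scheme.Hom.comp_apply, hab])
    haveI : Surjective r'.left := inferInstanceAs (Surjective (pullback.snd g.left iL.left))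
    haveI : Finite KL.left := Finite.of_surjective _ r'.left.surjective
    haveI : IsProper KL.hom := by rw [← Over.w iL]; infer_instance
    haveI : LocallyQuasiFinite KL.hom := LocallyQuasiFinite.of_finite_preimage_singleton KL.hom fun _ => Set.toFinite _
    exact IsFinite.of_isProper_of_locallyQuasiFinite KL.hom
  refine ⟨inferInstance, le_antisymm (rk_pull_le hL hM f e hN hKL hKM) ?_⟩
  have h2 := rk_pull_le hMn hL g eg hNg hKn hKL
  rw [hKnP, hP, hN2n, hNn'] at h2
  have hpos : 0 < rk Ng := by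
    have h0 := (finrank_eq_rk_kernel hNg).2 (g.left (η[B].left (IsLocalRing.closedPoint k)))
    have h1 := Scheme.Hom.one_le_finrank_map g.left (η[B].left (IsLocalRing.closedPoint k))
    omega
  refine Nat.le_of_mul_le_mul_left ?_ (pow_pos hpos 2)
  calc rk Ng ^ 2 * (rk N ^ 2 * rk KM) = rk Ng * rk N * (rk Ng * rk N) * rk KM := by ring
    _ ≤ _ := h2

end Groth.Agent.ThetaG
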