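import Groth.Agent.ThetaG.KL
import Groth.Agent.ThetaG.Gm
import Mathlib.AlgebraicGeometry.Sites.Representability

/-!
The theta group is representable.
-/

set_option autoImplicit false
set_option linter.style.haveILetI false
set_option backward.isDefEq.respectTransparency false
set_option backward.isDefEq.respectTransparency.types false
set_option maxHeartbeats 800000

universe u

open CategoryTheory CategoryTheory.Limits MonoidalCategory CartesianMonoidalCategory MonObj AlgebraicGeometry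
  TopologicalSpace Opposite
open scoped Groth.Agent.H23.PicMul

noncomputable section

namespace Groth.Agent.ThetaG

open ThetaGrp Groth.Agent.H23

variable {k : Type u} [Field k] (A : Over (Spec (CommRingCat.of k))) [GrpObj A]
  [IsProper A.hom] [GeometricallyIntegral A.hom] (L : A.left.Modules)

/-- Points of the theta group over varying schemes. -/
abbrev Tot (X : Scheme.{u}) : Type u := Σ h : X ⟶ Spec (CommRingCat.of k), thetaPts A L (Over.mk h)

variable {A L}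

omit [IsProper A.hom] [GeometricallyIntegral A.hom] in
theorem tot_ext {X : Scheme.{u}} {h h' : X ⟶ Spec (CommRingCat.of k)} (e : h = h') (α : thetaPts A L (Over.mk h))
    (α' : thetaPts A L (Over.mk h'))
    (hα : bc (Over.homMk (𝟙 X) (by show 𝟙 X ≫ h = h'; rw [Category.id_comp, e]) : Over.mk h' ⟶ Over.mk h) α = α')
    (hL : PicF.IsInvertible L) : (⟨h, α⟩ : Tot A L X) = ⟨h', α'⟩ := by
  subst e
  have : (Over.homMk (𝟙 X) (Category.id_comp h) : Over.mk h ⟶ Over.mk h) = 𝟙 _ := rfl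
  rw [this, bc_id hL] at hα
  rw [hα]

/-- Inverse image of points. -/
def totMap {X Y : Scheme.{u}} (c : Y ⟶ X) (ξ : Tot A L X) : Tot A L Y :=
  ⟨c ≫ ξ.1, bc (Over.homMk c rfl : Over.mk (c ≫ ξ.1) ⟶ Over.mk ξ.1) ξ.2⟩

/-- The functor of points of the theta group. -/
def totFun (hL : PicF.IsInvertible L) : Scheme.{u}ᵒᵖ ⥤ Type u where
  obj X := Tot A L X.unop
  map c := ↾(totMap c.unop)
  map_id X := by
    refine ConcreteCategory.hom_ext _ _ fun ξ => ?_
    obtain ⟨h, α⟩ := ξ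
    show totMap (𝟙 X.unop) ⟨h, α⟩ = _
    refine tot_ext (Category.id_comp h) _ _ ?_ hL
    rw [← bc_comp hL]
    refine Eq.trans ?_ (bc_id hL α)
    congr 1
  map_comp {X Y Z} c c' := by
    refine ConcreteCategory.hom_ext _ _ fun ξ => ?_
    obtain ⟨h, α⟩ := ξ
    show totMap (c'.unop ≫ c.unop) ⟨h, α⟩ = totMap c'.unop (totMap c.unop ⟨h, α⟩)
    refine tot_ext (Category.assoc _ _ _) _ _ ?_ hL
    show bc _ (bc _ α) = bc _ (bc _ α)
    rw [← bc_comp hL, ← bc_comp hL]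
    congr 1

omit [IsProper A.hom] [GeometricallyIntegral A.hom] in
theorem totFun_map (hL : PicF.IsInvertible L) {T T' : Over (Spec (CommRingCat.of k))} (r : T' ⟶ T)
    (β : thetaPts A L T) : totMap r.left (⟨T.hom, β⟩ : Tot A L T.left) = ⟨T'.hom, bc r β⟩ := by
  refine tot_ext (Over.w r) _ _ ?_ hL
  rw [← bc_comp hL]
  congr 1

theorem isSheaf_totFun (hL : PicF.IsInvertible L) :
    Presieve.IsSheaf Scheme.zariskiTopology (totFun (A := A) hL) := by
  rw [Precoverage.isSheaf_toGrothendieck_iff_of_isStableUnderBaseChange]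
  intro T R hR x hx
  obtain ⟨(𝒰 : T.OpenCover), rfl⟩ := Scheme.exists_cover_of_mem_pretopology hR
  let ee : ∀ i, Tot A L (𝒰.X i) := fun i => x (𝒰.f i) (.mk i)
  have hη : ∀ {Z : Scheme.{u}} (i j : 𝒰.I₀) (a : Z ⟶ 𝒰.X i) (b : Z ⟶ 𝒰.X j), a ≫ 𝒰.f i = b ≫ 𝒰.f j →
      totMap a (ee i) = totMap b (ee j) := fun i j a b e => hx a b (.mk i) (.mk j) e
  let h : T ⟶ Spec (CommRingCat.of k) := 𝒰.glueMorphisms (fun i => (ee i).1) fun i j =>
    congrArg Sigma.fst (hη i j _ _ pullback.condition)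
  have hh : ∀ i, 𝒰.f i ≫ h = (ee i).1 := fun i => Scheme.Cover.ι_glueMorphisms 𝒰 _ _ i
  let S₀ := Spec (CommRingCat.of k)
  let T₀ : Over S₀ := Over.mk h
  let V : 𝒰.I₀ → T.Opens := fun i => (𝒰.f i).opensRange
  let e : ∀ i, res T₀ (V i) ⟶ Over.mk (ee i).1 := fun i =>
    Over.homMk (𝒰.f i).isoOpensRange.inv (by
      show (𝒰.f i).isoOpensRange.inv ≫ (ee i).1 = (V i).ι ≫ h
      rw [← hh, ← Category.assoc, Scheme.Hom.isoOpensRange_inv_comp])
  let βs : ∀ i, thetaPts A L (res T₀ (V i)) := fun i => bc (e i) (ee i).2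
  have hcomp : ∀ i j, bc (resLE T₀ (inf_le_left : V i ⊓ V j ≤ V i)) (βs i) =
      bc (resLE T₀ (inf_le_right : V i ⊓ V j ≤ V j)) (βs j) := fun i j => by
    simp only [βs]
    rw [← bc_comp hL, ← bc_comp hL]
    have h1 := totFun_map hL (resLE T₀ (inf_le_left : V i ⊓ V j ≤ V i) ≫ e i) (ee i).2
    have h2 := totFun_map hL (resLE T₀ (inf_le_right : V i ⊓ V j ≤ V j) ≫ e j) (ee j).2
    have h3 := hη i j (resLE T₀ (inf_le_left : V i ⊓ V j ≤ V i) ≫ e i).left
      (resLE T₀ (inf_le_right : V i ⊓ V j ≤ V j) ≫ e j).left (by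
        show (T.homOfLE (inf_le_left : V i ⊓ V j ≤ V i) ≫ (𝒰.f i).isoOpensRange.inv) ≫ 𝒰.f i =
          (T.homOfLE (inf_le_right : V i ⊓ V j ≤ V j) ≫ (𝒰.f j).isoOpensRange.inv) ≫ 𝒰.f j
        rw [Category.assoc, Category.assoc, Scheme.Hom.isoOpensRange_inv_comp, Scheme.Hom.isoOpensRange_inv_comp,
          T.homOfLE_ι, T.homOfLE_ι])
    exact eq_of_heq (Sigma.mk.inj (h1.symm.trans (h3.trans h2))).2
  have hcovV : ∀ t : T₀.left, ∃ i, t ∈ V i := fun t => ⟨𝒰.idx t, 𝒰.covers t⟩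
  have hex := exists_glue_pts (T := T₀) hL V hcovV βs hcomp
  obtain ⟨β, hβ⟩ := hex
  let d : ∀ i, Over.mk (ee i).1 ⟶ res T₀ (V i) := fun i =>
    Over.homMk (𝒰.f i).isoOpensRange.hom (by
      show (𝒰.f i).isoOpensRange.hom ≫ (V i).ι ≫ h = (ee i).1
      rw [← Category.assoc, Scheme.Hom.isoOpensRange_hom_ι, hh])
  have hde : ∀ i, d i ≫ e i = 𝟙 _ := fun i => Over.OverMorphism.ext (𝒰.f i).isoOpensRange.hom_inv_id
  have hmap : ∀ i, totMap (𝒰.f i) (⟨h, β⟩ : Tot A L T) = ee i := fun i => by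
    have h1 := totFun_map hL (d i ≫ resι T₀ (V i)) β
    have hl : (d i ≫ resι T₀ (V i)).left = 𝒰.f i := Scheme.Hom.isoOpensRange_hom_ι _
    rw [hl, bc_comp hL, hβ, ← bc_comp hL, hde] at h1
    exact h1.trans (congrArg (fun z => (⟨(ee i).1, z⟩ : Tot A L (𝒰.X i))) (bc_id hL _))
  refine ⟨(⟨h, β⟩ : Tot A L T), ?_, fun y hy => ?_⟩
  · rintro T' c ⟨i⟩
    exact hmap i
  ·
    obtain ⟨⟨h', β'⟩, rfl⟩ : ∃ z : Tot A L T, z = y := ⟨_, rfl⟩
    have hy' : ∀ i, totMap (𝒰.f i) (⟨h', β'⟩ : Tot A L T) = ee i := fun i => hy (𝒰.f i) (.mk i)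
    obtain rfl : h' = h := 𝒰.hom_ext _ _ fun i => by
      rw [hh]; exact congrArg Sigma.fst (hy' i)
    congr 1
    refine ext_local hL fun t => ⟨V (𝒰.idx t), 𝒰.covers t, ?_⟩
    have h1 := totFun_map hL (d (𝒰.idx t) ≫ resι T₀ (V (𝒰.idx t))) β'
    have h2 := totFun_map hL (d (𝒰.idx t) ≫ resι T₀ (V (𝒰.idx t))) β
    have hl : (d (𝒰.idx t) ≫ resι T₀ (V (𝒰.idx t))).left = 𝒰.f (𝒰.idx t) := Scheme.Hom.isoOpensRange_hom_ι _
    rw [hl] at h1 h2
    have h3 := eq_of_heq (Sigma.mk.inj (h1.symm.trans ((hy' _).trans ((hmap _).symm.trans h2)))).2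
    rw [bc_comp hL, bc_comp hL] at h3
    have hed : e (𝒰.idx t) ≫ d (𝒰.idx t) = 𝟙 _ := Over.OverMorphism.ext (𝒰.f _).isoOpensRange.inv_hom_id
    have h4 := congrArg (bc (e (𝒰.idx t))) h3
    rwa [← bc_comp hL, ← bc_comp hL, ← bc_comp hL, ← bc_comp hL, hed, Category.id_comp] at h4

section Chart

variable {K : Over (Spec (CommRingCat.of k))} {iK : K ⟶ A} {V : K.left.Opens}
  {β₀ : thetaPts A L (res K V)}

variable (hL : PicF.IsInvertible L) (V β₀) in
/-- The universal point over a chart. -/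
def chartPt : thetaPts A L (res K V ⊗ unitsSch k) :=
  scal hL (Units.map (snd (res K V) (unitsSch k)).left.appTop.hom.toMonoidHom (univUnit k)) *
    bc (fst (res K V) (unitsSch k)) β₀

theorem isOverPt_chartPt (hL : PicF.IsInvertible L) (hβ : IsOverPt β₀ (resι K V ≫ iK))
    {Z : Over (Spec (CommRingCat.of k))} (a : Z ⟶ res K V ⊗ unitsSch k) :
    IsOverPt (bc a (chartPt V β₀ hL)) ((a ≫ fst _ _ ≫ resι K V) ≫ iK) := by
  have h := isOverPt_mul (isOverPt_scal hL (Units.map (snd (res K V) (unitsSch k)).left.appTop.hom.toMonoidHom (univUnit k)))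
    (isOverPt_bc (fst (res K V) (unitsSch k)) hβ)
  rw [_root_.mul_one] at h
  rw [chartPt, Category.assoc, Category.assoc]
  exact isOverPt_bc a h

theorem existsUnique_chart (hL : PicF.IsInvertible L) (hK : IsKL A L iK) (hβ : IsOverPt β₀ (resι K V ≫ iK))
    {Z : Over (Spec (CommRingCat.of k))} {β : thetaPts A L Z} {y : Z ⟶ K} (hy : IsOverPt β (y ≫ iK))
    (r : Z ⟶ res K V) (hr : r ≫ resι K V = y) : ∃! a, bc a (chartPt V β₀ hL) = β := by
  have hb : ∀ a : Z ⟶ res K V ⊗ unitsSch k, bc a (chartPt V β₀ hL) =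
      scal hL (Units.map (a ≫ snd _ _).left.appTop.hom.toMonoidHom (univUnit k)) * bc (a ≫ fst _ _) β₀ := fun a => by
    rw [chartPt, bc_mul, bc_scal, bc_comp hL]
    rfl
  have hr' : IsOverPt (bc r β₀) (y ≫ iK) := by
    have := isOverPt_bc r hβ
    rwa [← Category.assoc, hr] at this
  obtain ⟨s, hs⟩ := exists_scal_mul hL hr' hy
  obtain ⟨g, hg, hguniq⟩ := existsUnique_unitsSch Z s
  refine ⟨lift r g, ?_, fun a ha => ?_⟩
  · show bc _ _ = β
    rw [hb, lift_fst, lift_snd, hg, hs]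
  · haveI := hK.closed
    haveI : Mono iK := (Over.forget _).mono_of_mono_map (inferInstanceAs (Mono iK.left))
    haveI : Mono (resι K V) := (Over.forget _).mono_of_mono_map (inferInstanceAs (Mono V.ι))
    have h1 := overPt_unique (isOverPt_chartPt hL hβ a) (ha ▸ hy)
    rw [cancel_mono iK, ← hr, ← Category.assoc, cancel_mono (resι K V)] at h1
    change bc a _ = β at ha
    rw [hb] at ha
    rw [h1, hs] at ha
    have h2 := scal_injective hL (mul_right_cancel ha)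
    apply CartesianMonoidalCategory.hom_ext
    · rw [lift_fst, h1]
    · rw [lift_snd]
      exact hguniq _ h2

end Chart

theorem totMap_totMap (hL : PicF.IsInvertible L) {X Y Z : Scheme.{u}} (a : Z ⟶ Y) (c : Y ⟶ X) (ξ : Tot A L X) :
    totMap (a ≫ c) ξ = totMap a (totMap c ξ) :=
  ConcreteCategory.congr_hom ((totFun (A := A) hL).map_comp c.op a.op) ξ

/-- Over a chart, a point is the image of a unique point of the chart. -/
theorem exists_chart_lift {K : Over (Spec (CommRingCat.of k))} {iK : K ⟶ A} (hL : PicF.IsInvertible L)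
    (hK : IsKL A L iK) {V : K.left.Opens} {β₀ : thetaPts A L (res K V)} (hβ : IsOverPt β₀ (resι K V ≫ iK))
    {T₀ : Over (Spec (CommRingCat.of k))} {β : thetaPts A L T₀} {y : T₀ ⟶ K} (hy : IsOverPt β (y ≫ iK)) :
    ∃ a : res T₀ (y.left ⁻¹ᵁ V) ⟶ res K V ⊗ unitsSch k,
      totMap a.left (⟨(res K V ⊗ unitsSch k).hom, chartPt V β₀ hL⟩ : Tot A L (res K V ⊗ unitsSch k).left) =
        totMap (resι T₀ (y.left ⁻¹ᵁ V)).left (⟨T₀.hom, β⟩ : Tot A L T₀.left) ∧
      ∀ {Z : Scheme.{u}} (k₀ : Z ⟶ T₀.left) (a₀ : Z ⟶ (res K V ⊗ unitsSch k).left),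
        totMap a₀ (⟨(res K V ⊗ unitsSch k).hom, chartPt V β₀ hL⟩ : Tot A L (res K V ⊗ unitsSch k).left) =
          totMap k₀ (⟨T₀.hom, β⟩ : Tot A L T₀.left) →
        ∃ k' : Z ⟶ (res T₀ (y.left ⁻¹ᵁ V)).left, k' ≫ a.left = a₀ ∧ k' ≫ (resι T₀ (y.left ⁻¹ᵁ V)).left = k₀ := by
  let O : T₀.left.Opens := y.left ⁻¹ᵁ V
  let r : res T₀ O ⟶ res K V := Over.homMk (y.left ∣_ V) (by
    show (y.left ∣_ V) ≫ V.ι ≫ K.hom = O.ι ≫ T₀.hom
    rw [morphismRestrict_ι_assoc, Over.w])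
  have hr : r ≫ resι K V = resι T₀ O ≫ y := Over.OverMorphism.ext (morphismRestrict_ι y.left V)
  have hy' : IsOverPt (bc (resι T₀ O) β) ((resι T₀ O ≫ y) ≫ iK) := by
    rw [Category.assoc]; exact isOverPt_bc _ hy
  obtain ⟨a, ha, -⟩ := existsUnique_chart hL hK hβ hy' r hr
  refine ⟨a, ?_, fun {Z} k₀ a₀ h₀ => ?_⟩
  · rw [totFun_map hL, totFun_map hL, ha]
  · haveI := hK.closed
    haveI : Mono iK := (Over.forget _).mono_of_mono_map (inferInstanceAs (Mono iK.left))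
    let Z₀ : Over (Spec (CommRingCat.of k)) := Over.mk (k₀ ≫ T₀.hom)
    let kk : Z₀ ⟶ T₀ := Over.homMk k₀
    let a' : Z₀ ⟶ res K V ⊗ unitsSch k := Over.homMk a₀ (congrArg Sigma.fst h₀)
    have e1 : bc a' (chartPt V β₀ hL) = bc kk β := by
      have h1 := totFun_map hL a' (chartPt V β₀ hL)
      have h2 := totFun_map hL kk β
      exact eq_of_heq (Sigma.mk.inj (h1.symm.trans (h₀.trans h2))).2
    have hkk : IsOverPt (bc kk β) ((kk ≫ y) ≫ iK) := by
      rw [Category.assoc]; exact isOverPt_bc _ hy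
    have e2 := overPt_unique (isOverPt_chartPt hL hβ a') (e1.symm ▸ hkk)
    rw [cancel_mono iK] at e2
    have hrange : Set.range k₀ ⊆ Set.range O.ι := by
      rw [Scheme.Opens.range_ι]
      rintro _ ⟨z, rfl⟩
      show y.left (k₀ z) ∈ V
      have e3 := congrArg (fun f => f.left z) e2
      change V.ι _ = y.left (k₀ z) at e3
      rw [← e3]
      exact Subtype.prop _
    let kk' : Z₀ ⟶ res T₀ O := Over.homMk (IsOpenImmersion.lift O.ι k₀ hrange)
      (IsOpenImmersion.lift_fac_assoc _ _ _ _)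
    have hkk' : kk' ≫ resι T₀ O = kk := Over.OverMorphism.ext (IsOpenImmersion.lift_fac _ _ _)
    have hrk : (kk' ≫ r) ≫ resι K V = kk ≫ y := by rw [Category.assoc, hr, ← Category.assoc, hkk']
    obtain ⟨b, -, hb⟩ := existsUnique_chart hL hK hβ hkk (kk' ≫ r) hrk
    have e4 : bc (kk' ≫ a) (chartPt V β₀ hL) = bc kk β := by rw [bc_comp hL, ha, ← bc_comp hL, hkk']
    exact ⟨kk'.left, congrArg CommaMorphism.left ((hb _ e4).trans (hb _ e1).symm), congrArg CommaMorphism.left hkk'⟩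

theorem exists_thetaGrpSch [IsCommMonObj A] (hL : PicF.IsInvertible L) :
    ∃ (G : Over (Spec (CommRingCat.of k))) (_ : GrpObj G) (u : thetaPts A L G), IsThetaGrpSch A L G u := by
  let Sk := Over (Spec (CommRingCat.of k))
  obtain ⟨K, iK, hK⟩ := exists_KL (A := A) hL
  haveI := hK.closed
  haveI : Mono iK := (Over.forget _).mono_of_mono_map (inferInstanceAs (Mono iK.left))
  choose V hV β₀ hβ₀ using fun t : K.left => exists_local_lift hL hK (x := iK) ⟨𝟙 K, Category.id_comp _⟩ t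
  let F : Sheaf Scheme.zariskiTopology.{u} (Type u) :=
    ⟨totFun (A := A) hL, (isSheaf_iff_isSheaf_of_type _ _).2 (isSheaf_totFun hL)⟩
  let W : K.left → Sk := fun t => res K (V t) ⊗ unitsSch k
  let ξ : ∀ t, Tot A L (W t).left := fun t => ⟨(W t).hom, chartPt (V t) (β₀ t) hL⟩
  let χ : ∀ t, yoneda.obj (W t).left ⟶ F.1 := fun t =>
    yonedaEquiv.symm (show (totFun (A := A) hL).obj (op (W t).left) from ξ t)
  have hχ : ∀ (t : K.left) {Z : Scheme.{u}} (a : Z ⟶ (W t).left), (χ t).app (op Z) a = totMap a (ξ t) :=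
    fun t Z a => rfl
  have hfac : ∀ {T : Scheme.{u}} (h : T ⟶ Spec (CommRingCat.of k)) (β : thetaPts A L (Over.mk h)),
      ∃ y : Over.mk h ⟶ K, IsOverPt β (y ≫ iK) := fun h β => by
    obtain ⟨x, hx⟩ := exists_overPt β
    obtain ⟨y, rfl⟩ := factors_of_overPt hL hK hx
    exact ⟨y, hx⟩
  have hopen : ∀ t, IsOpenImmersion.presheaf (χ t) := fun t => by
    refine MorphismProperty.relative.of_exists fun T g => ?_
    obtain ⟨⟨h, β⟩, hp⟩ : ∃ p : Tot A L T, p = yonedaEquiv g := ⟨_, rfl⟩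
    have hg : ∀ {T' : Scheme.{u}} (c : T' ⟶ T), g.app (op T') c = totMap c (⟨h, β⟩ : Tot A L T) := fun c => by
      have : g.app _ c = (totFun (A := A) hL).map c.op (yonedaEquiv g) := by
        rw [yonedaEquiv_naturality, yonedaEquiv_apply]
        simp
        rfl
      rw [this, hp]
      rfl
    obtain ⟨y, hy⟩ := hfac h β
    obtain ⟨a, ha, huniq⟩ := exists_chart_lift hL hK (hβ₀ t) hy
    refine ⟨(y.left ⁻¹ᵁ V t).toScheme, yoneda.map a.left, (y.left ⁻¹ᵁ V t).ι,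
      IsPullback.of_forall_isPullback_app fun T' => ?_, inferInstance⟩
    rw [Types.isPullback_iff]
    refine ⟨?_, fun c c' hc => (cancel_mono (y.left ⁻¹ᵁ V t).ι).mp hc.2, fun a₀ (c : T'.unop ⟶ T) hac => ?_⟩
    · ext c
      change (χ t).app (op T'.unop) (c ≫ a.left) = g.app (op T'.unop) (c ≫ (y.left ⁻¹ᵁ V t).ι)
      rw [hχ, hg, totMap_totMap hL, totMap_totMap hL]
      exact congrArg (totMap c) ha
    · obtain ⟨k', h1, h2⟩ := huniq c a₀ ((hχ t a₀).symm.trans (hac.trans (hg c)))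
      exact ⟨k', h1, h2⟩
  have : Presheaf.IsLocallySurjective Scheme.zariskiTopology (Sigma.desc χ) := by
    refine ⟨fun {T} p => ?_⟩
    obtain ⟨⟨h, β⟩, rfl⟩ : ∃ q : Tot A L T, q = p := ⟨p, rfl⟩
    obtain ⟨y, hy⟩ := hfac h β
    let 𝒰 : T.OpenCover := T.openCoverOfIsOpenCover (fun t : T => y.left ⁻¹ᵁ V (y.left t))
      (IsOpenCover.mk (eq_top_iff.mpr fun t _ => Opens.mem_iSup.mpr ⟨t, hV (y.left t)⟩))
    refine GrothendieckTopology.superset_covering _ ?_ 𝒰.mem_grothendieckTopology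
    rintro T' g ⟨_, c, _, ⟨t⟩, rfl⟩
    obtain ⟨a, ha, -⟩ := exists_chart_lift hL hK (hβ₀ (y.left t)) hy
    refine ⟨(Sigma.ι (fun t => yoneda.obj (W t).left) (y.left t)).app (op T') (c ≫ a.left), ?_⟩
    rw [← NatTrans.comp_app_apply, Sigma.ι_desc]
    change (χ (y.left t)).app (op T') (c ≫ a.left) = totMap (c ≫ (y.left ⁻¹ᵁ V (y.left t)).ι) ⟨h, β⟩
    rw [hχ, totMap_totMap hL, totMap_totMap hL]
    exact congrArg (totMap c) ha
  obtain ⟨Z₀, ⟨r⟩⟩ : (totFun (A := A) hL).IsRepresentable :=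
    @Scheme.LocalRepresentability.isRepresentable F _ _ χ hopen this
  obtain ⟨⟨π, u⟩, hu⟩ : ∃ q : Tot A L Z₀, q = r.homEquiv (𝟙 Z₀) := ⟨_, rfl⟩
  have key : ∀ {T : Scheme.{u}} (g : T ⟶ Z₀), r.homEquiv g = totMap g (⟨π, u⟩ : Tot A L Z₀) := fun {T} g => by
    have := r.homEquiv_comp g (𝟙 Z₀)
    rw [Category.comp_id] at this
    rw [this, hu]
    rfl
  let G : Sk := Over.mk π
  have hbij : ∀ T : Sk, Function.Bijective (fun g : T ⟶ G => bc g u) := fun T => by
    refine ⟨fun g g' hgg => Over.OverMorphism.ext (r.homEquiv.injective ?_), fun β => ?_⟩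
    · rw [key, key]
      exact (totFun_map hL g u).trans ((congrArg (fun z => (⟨T.hom, z⟩ : Tot A L T.left)) hgg).trans
        (totFun_map hL g' u).symm)
    · obtain ⟨g₀, hg₀⟩ := r.homEquiv.surjective (⟨T.hom, β⟩ : Tot A L T.left)
      rw [key] at hg₀
      let g : T ⟶ G := Over.homMk g₀ (congrArg Sigma.fst hg₀)
      exact ⟨g, eq_of_heq (Sigma.mk.inj ((totFun_map hL g u).symm.trans hg₀)).2⟩
  let Fn : Skᵒᵖ ⥤ GrpCat.{u} :=
    { obj := fun T => GrpCat.of (thetaPts A L T.unop)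
      map := fun f => GrpCat.ofHom (bcHom f.unop)
      map_id := fun T => GrpCat.hom_ext (MonoidHom.ext fun β => bc_id hL β)
      map_comp := fun f f' => GrpCat.hom_ext (MonoidHom.ext fun β => bc_comp hL f'.unop f.unop β) }
  let α : (Fn ⋙ forget GrpCat).RepresentableBy G :=
    { homEquiv := fun {T} => Equiv.ofBijective _ (hbij T)
      homEquiv_comp := fun f g => bc_comp hL f g u }
  letI : GrpObj G := GrpObj.ofRepresentableBy G Fn α
  refine ⟨G, ‹_›, u, ⟨fun T β => ?_, fun T g => ?_, fun T g h β₁ β₂ h₁ h₂ => ?_⟩⟩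
  · obtain ⟨g, hg⟩ := (hbij T).2 β
    exact ⟨g, isBaseChange_iff.2 hg.symm, fun g' hg' => (hbij T).1 ((isBaseChange_iff.1 hg').symm.trans hg.symm)⟩
  · exact ⟨bc g u, isBaseChange_bc g u, fun β hβ => isBaseChange_iff.1 hβ⟩
  · rw [isBaseChange_iff] at h₁ h₂ ⊢
    subst h₁ h₂
    exact ((((yonedaGrpObjIsoOfRepresentableBy G Fn α).hom.app (op T)).hom).map_mul g h).symm

end Groth.Agent.ThetaG
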