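import Groth.Agent.ThetaG.Pts
import Groth.Agent.InvX.Tensor

/-!
Local lifts of points of K(L) to the theta group, and commutators.
-/

set_option autoImplicit false
set_option linter.style.haveILetI false
set_option backward.isDefEq.respectTransparency false
set_option backward.isDefEq.respectTransparency.types false
set_option maxHeartbeats 400000

universe u

open CategoryTheory CategoryTheory.Limits MonoidalCategory CartesianMonoidalCategory MonObj AlgebraicGeometry
  TopologicalSpace
open scoped Groth.Agent.H23.PicMul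

noncomputable section

namespace Groth.Agent.ThetaG

open Groth.Agent.AModX Groth.Agent.InvX ThetaGrp Groth.Agent.H23

variable {k : Type u} [Field k] {A : Over (Spec (CommRingCat.of k))} [GrpObj A]
  [IsProper A.hom] [GeometricallyIntegral A.hom] {L : A.left.Modules}
  {T U K : Over (Spec (CommRingCat.of k))}

omit [IsProper A.hom] [GeometricallyIntegral A.hom] in
theorem eq_comp {x : T ⟶ A} {c : PicF.Cl T.left} (h : KLBasic.Eq L T x c) (r : U ⟶ T) :
    KLBasic.Eq L U (r ≫ x) (PicF.pullCl r.left c) := by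
  have h' := congrArg (PicF.pullCl (A ◁ r).left) h
  rw [PicMul.pullCl_mul, PicClLib.pullCl_comp, PicClLib.pullCl_comp, PicClLib.pullCl_comp, ← Over.comp_left,
    ← Over.comp_left, ← Over.comp_left, ← Category.assoc, whiskerLeft_transl, Category.assoc, whiskerLeft_fst,
    whiskerLeft_snd, Over.comp_left, ← PicClLib.pullCl_comp] at h'
  unfold KLBasic.Eq
  simp only [Over.comp_left, ← PicClLib.pullCl_comp] at h' ⊢
  exact h'

/-- A class is trivial near every point. -/
theorem exists_res_triv {M : T.left.Modules} (hM : PicF.IsInvertible M) (t : T.left) :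
    ∃ V : T.left.Opens, t ∈ V ∧ PicF.pullCl (resι T V).left (PicF.cl M) = 1 := by
  obtain ⟨V, hV, e, he⟩ := InvX.exists_frame hM t
  refine ⟨V, hV, (PicGrp.cl_eq_cl_iff _ _).2 ?_⟩
  have : ∀ {W : (V : Scheme.{u}).Opens} {e' : Γ((Scheme.Modules.pullback V.ι).obj M, W)}, W = ⊤ → InvX.IsFrame e' →
      Nonempty ((Scheme.Modules.pullback V.ι).obj M ≅ Coh.structureModule _) := by
    rintro W e' rfl he'
    exact InvUfdLib.nonempty_iso_of_frame he'
  exact this V.ι_preimage_self (InvX.isFrame_pullElt V.ι he)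

/-- Points of `K(L)` lift to the theta group locally. -/
theorem exists_local_lift (hL : PicF.IsInvertible L) {iK : K ⟶ A} (hK : IsKL A L iK) {x : T ⟶ A}
    (hx : ∃ y : T ⟶ K, y ≫ iK = x) (t : T.left) :
    ∃ V : T.left.Opens, t ∈ V ∧ ∃ β : thetaPts A L (res T V), IsOverPt β (resι T V ≫ x) := by
  haveI : Subsingleton (Spec (CommRingCat.of k) : Scheme.{u}) := inferInstanceAs (Subsingleton (PrimeSpectrum k))
  have h := (KLBasic.iff_eq_pull hL x).1 ((hK.univ T x).2 hx)
  obtain ⟨V, hV, e⟩ := exists_res_triv (PicClLib.isInvertible_pullback x.left hL) t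
  refine ⟨V, hV, (exists_isOverPt_iff _).2 ?_⟩
  have h' := eq_comp h (resι T V)
  rwa [show PicF.pullCl (resι T V).left (PicF.pullCl x.left (PicF.cl L)) = 1 from e] at h'

/-- A point with a lift lies in `K(L)`. -/
theorem factors_of_overPt (hL : PicF.IsInvertible L) {iK : K ⟶ A} (hK : IsKL A L iK) {x : T ⟶ A}
    {β : thetaPts A L T} (hβ : IsOverPt β x) : ∃ y : T ⟶ K, y ≫ iK = x :=
  (hK.univ T x).1 ((KLBasic.mumford_iff hL x).2
    ⟨1, ⟨_, rfl, InvX.isInvertible_structureModule⟩, (exists_isOverPt_iff x).1 ⟨β, hβ⟩⟩)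

/-- A point locally in a closed subscheme is in it. -/
theorem factors_of_local {iK : K ⟶ A} [IsClosedImmersion iK.left] {x : T ⟶ A}
    (h : ∀ t : T.left, ∃ V : T.left.Opens, t ∈ V ∧ ∃ y : res T V ⟶ K, y ≫ iK = resι T V ≫ x) :
    ∃ y : T ⟶ K, y ≫ iK = x := by
  choose V hV y hy using h
  let c := T.left.openCoverOfIsOpenCover V (by
    rw [IsOpenCover, eq_top_iff]
    exact fun t _ => Opens.mem_iSup.2 ⟨t, hV t⟩)
  have hy' : ∀ i, (y i).left ≫ iK.left = c.f i ≫ x.left := fun i => congrArg CommaMorphism.left (hy i)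
  let g := c.glueMorphisms (fun i => (y i).left) fun i j => by
    rw [← cancel_mono iK.left, Category.assoc, Category.assoc, hy', hy', pullback.condition_assoc]
  have hg : g ≫ iK.left = x.left := c.hom_ext _ _ fun i => by
    rw [← Category.assoc, c.ι_glueMorphisms, hy']
  exact ⟨Over.homMk g (by rw [← Over.w iK, ← Category.assoc, hg, Over.w x]), Over.OverMorphism.ext hg⟩

/-- Two lifts commute up to a scalar. -/
theorem existsUnique_comm [IsCommMonObj A] (hL : PicF.IsInvertible L) (α β : thetaPts A L T) :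
    ∃! s, α * β = scal hL s * (β * α) := by
  obtain ⟨x, hx⟩ := exists_overPt α
  obtain ⟨y, hy⟩ := exists_overPt β
  obtain ⟨s, hs⟩ := exists_scal_mul hL (isOverPt_mul hy hx) (mul_comm x y ▸ isOverPt_mul hx hy)
  exact ⟨s, hs, fun s' hs' => scal_injective hL (mul_right_cancel (hs'.symm.trans hs))⟩

/-- The commutator of two lifts. -/
def cm [IsCommMonObj A] (hL : PicF.IsInvertible L) (α β : thetaPts A L T) : Γ(T.left, ⊤)ˣ :=
  (existsUnique_comm hL α β).exists.choose

theorem cm_spec [IsCommMonObj A] (hL : PicF.IsInvertible L) (α β : thetaPts A L T) :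
    α * β = scal hL (cm hL α β) * (β * α) :=
  (existsUnique_comm hL α β).exists.choose_spec

theorem cm_eq [IsCommMonObj A] (hL : PicF.IsInvertible L) {α β : thetaPts A L T} {s : Γ(T.left, ⊤)ˣ}
    (h : α * β = scal hL s * (β * α)) : cm hL α β = s :=
  (existsUnique_comm hL α β).unique (cm_spec hL α β) h

theorem cm_eq_one_iff [IsCommMonObj A] (hL : PicF.IsInvertible L) {α β : thetaPts A L T} :
    cm hL α β = 1 ↔ α * β = β * α := by
  refine ⟨fun h => ?_, fun h => cm_eq hL (by rw [map_one, _root_.one_mul, h])⟩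
  have := cm_spec hL α β
  rwa [h, map_one, _root_.one_mul] at this

theorem cm_bc [IsCommMonObj A] (hL : PicF.IsInvertible L) (r : U ⟶ T) (α β : thetaPts A L T) :
    cm hL (bc r α) (bc r β) = Units.map r.left.appTop.hom.toMonoidHom (cm hL α β) := by
  refine cm_eq hL ?_
  rw [← bc_scal, ← bc_mul, ← bc_mul, ← bc_mul, ← cm_spec]

theorem cm_congr [IsCommMonObj A] (hL : PicF.IsInvertible L) {α α' β β' : thetaPts A L T} {x y : T ⟶ A}
    (hα : IsOverPt α x) (hα' : IsOverPt α' x) (hβ : IsOverPt β y) (hβ' : IsOverPt β' y) :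
    cm hL α β = cm hL α' β' := by
  obtain ⟨s, rfl⟩ := exists_scal_mul hL hα hα'
  obtain ⟨t, rfl⟩ := exists_scal_mul hL hβ hβ'
  refine (cm_eq hL ?_).symm
  have hs : ∀ w, Commute (scal hL s) w := scal_comm hL s
  have ht : ∀ w, Commute (scal hL t) w := scal_comm hL t
  have hc : ∀ w, Commute (scal hL (cm hL α β)) w := scal_comm hL _
  calc (scal hL s * α) * (scal hL t * β) = scal hL s * scal hL t * (α * β) := by
        rw [_root_.mul_assoc, ← _root_.mul_assoc α, ← (ht α).eq]; simp only [_root_.mul_assoc]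
    _ = scal hL s * scal hL t * (scal hL (cm hL α β) * (β * α)) := by rw [← cm_spec]
    _ = scal hL (cm hL α β) * (scal hL t * scal hL s * (β * α)) := by
        rw [← _root_.mul_assoc, ← (hc _).eq, (hs (scal hL t)).eq]; simp only [_root_.mul_assoc]
    _ = scal hL (cm hL α β) * ((scal hL t * β) * (scal hL s * α)) := by
        congr 1
        rw [_root_.mul_assoc (scal hL t) β, ← _root_.mul_assoc β, ← (hs β).eq]; simp only [_root_.mul_assoc]

end Groth.Agent.ThetaG
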