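import Groth.Agent.ThetaG.Perp
import Groth.Agent.ThetaG.EffDesc

/-!
An invertible module descends along a surjective homomorphism iff the kernel lifts to the theta group.
-/

set_option autoImplicit false
set_option linter.style.haveILetI false
set_option backward.isDefEq.respectTransparency false
set_option backward.isDefEq.respectTransparency.types false
set_option maxHeartbeats 1600000

universe u

open CategoryTheory CategoryTheory.Limits MonoidalCategory CartesianMonoidalCategory MonObj AlgebraicGeometry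
  TopologicalSpace
open scoped Groth.Agent.H23.PicMul

noncomputable section

namespace Groth.Agent.ThetaG

open ThetaGrp Groth.Agent.AModX Groth.Agent.InvX

variable {k : Type u} [Field k] {A : Over (Spec (CommRingCat.of k))} [GrpObj A] {L : A.left.Modules}

/-- The pair `(A, L)`. -/
abbrev basePair (A : Over (Spec (CommRingCat.of k))) (L : A.left.Modules) :
    Pseudofunctor.CoGrothendieck modPF.{u} := ⟨A.left, L⟩

variable (A L) in
/-- The projection `(A ×ₖ T, L_T) ⟶ (A, L)`. -/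
def proj (T : Over (Spec (CommRingCat.of k))) : thetaObj A L T ⟶ basePair A L :=
  ⟨(fst A T).left, 𝟙 _⟩

instance isIso_proj_fiber (T : Over (Spec (CommRingCat.of k))) : IsIso (proj A L T).fiber :=
  inferInstanceAs (IsIso (𝟙 ((Scheme.Modules.pullback (fst A T).left).obj L)))

theorem bcLift_proj (hL : PicF.IsInvertible L) {T G : Over (Spec (CommRingCat.of k))} (g : T ⟶ G) :
    bcLift A L g ≫ proj A L G = proj A L T := by
  haveI := isIso_bcLift_fiber (A := A) (L := L) g
  haveI := fib_comp_isIso (bcLift A L g) (proj A L G)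
  have hb : (A ◁ g).left ≫ (fst A G).left = (fst A T).left := by rw [← Over.comp_left, whiskerLeft_fst]
  refine hom_ext hb fun p => ?_
  obtain ⟨V, hV, l, hl⟩ := InvX.exists_frame hL ((fst A T).left p)
  have e₁ : (fst A T).left ⁻¹ᵁ V ≤ (A ◁ g).left ⁻¹ᵁ ((fst A G).left ⁻¹ᵁ V) := by
    intro z hz
    show ((A ◁ g).left ≫ (fst A G).left) z ∈ V
    rwa [hb]
  refine ⟨V, (fst A T).left ⁻¹ᵁ V, _, l, QCoh.pullSec (fst A T).left L le_rfl l, hV, hl,
    rel_comp (show Rel (proj A L G) (le_refl ((fst A G).left ⁻¹ᵁ V)) l (QCoh.pullSec (fst A G).left L le_rfl l) from rfl)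
      (rel_bcLift g le_rfl le_rfl e₁ l), rfl⟩

variable {B N : Over (Spec (CommRingCat.of k))} [GrpObj B] [GrpObj N] [IsProper A.hom] [GeometricallyIntegral A.hom]
  [IsProper B.hom] [GeometricallyIntegral B.hom] [IsCommMonObj A] {f : A ⟶ B} [IsMonHom f] {i : N ⟶ A} [IsMonHom i]

theorem kernel_mono (hN : AlgGrp.IsKernel i f) : Mono i :=
  ⟨fun _ _ h => hN.hom_ext h (toUnit_unique _ _)⟩

/-- The fibre square of a surjective homomorphism is the action of its kernel. -/
theorem isPullback_transl (hN : AlgGrp.IsKernel i f) :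
    IsPullback (fst A N) (transl A i ≫ fst A N) f f := by
  haveI := kernel_mono hN
  refine IsPullback.of_isLimit' ⟨by
    rw [transl_fst, MonObj.mul_comp, Category.assoc, hN.w, ← Category.assoc, toUnit_unique (snd A N ≫ toUnit N) (toUnit _)]
    exact (_root_.mul_one _).symm⟩ ?_
  have hker : ∀ c : PullbackCone f f, (c.fst⁻¹ * c.snd) ≫ f = 1 := fun c => by
    rw [MonObj.mul_comp, GrpObj.inv_comp, c.condition, inv_mul_cancel]
  refine PullbackCone.IsLimit.mk _ (fun c => lift c.fst (hN.lift (c.fst⁻¹ * c.snd) (toUnit _) (hker c))) ?_ ?_ ?_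
  · exact fun c => lift_fst _ _
  · intro c
    rw [transl_fst, MonObj.comp_mul, lift_fst, lift_snd_assoc, hN.lift_fst, mul_inv_cancel_left]
  · intro c m h1 h2
    apply CartesianMonoidalCategory.hom_ext
    · rw [lift_fst, h1]
    · rw [lift_snd, ← cancel_mono i, hN.lift_fst, ← h2, transl_fst, MonObj.comp_mul, h1, inv_mul_cancel_left,
        Category.assoc]

/-- A lift of the kernel to the theta group gives a descended module. -/
theorem exists_descent (hL : PicF.IsInvertible L) (hf : Surjective f.left) (hN : AlgGrp.IsKernel i f)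
    {G : Over (Spec (CommRingCat.of k))} [GrpObj G] {u : thetaPts A L G} (hG : IsThetaGrpSch A L G u) (j : N ⟶ G)
    [IsMonHom j]
    (hover : ∀ (T : Over (Spec (CommRingCat.of k))) (n : T ⟶ N) (β : thetaPts A L T),
      IsBaseChange β (n ≫ j) u → IsOverPt β (n ≫ i)) :
    ∃ M : B.left.Modules, PicF.IsInvertible M ∧ Nonempty ((Scheme.Modules.pullback f.left).obj M ≅ L) := by
  haveI := hf
  haveI := AVIsog3.flat_of_surjective f
  haveI := AVIsog3.lfp_left f
  haveI : QuasiCompact f.left := by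
    haveI : QuasiCompact (f.left ≫ B.hom) := by rw [Over.w]; infer_instance
    exact QuasiCompact.of_comp f.left B.hom
  haveI := kernel_mono hN
  let pt : ∀ {T : Over (Spec (CommRingCat.of k))}, (T ⟶ N) → thetaPts A L T := fun n => bc (n ≫ j) u
  have hpt : ∀ {T : Over (Spec (CommRingCat.of k))} (n : T ⟶ N), IsOverPt (pt n) (n ≫ i) := fun n =>
    hover _ n _ (isBaseChange_bc _ u)
  have hptmul : ∀ {T : Over (Spec (CommRingCat.of k))} (n m : T ⟶ N), pt (n * m) = pt n * pt m := fun n m => by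
    show bc ((n * m) ≫ j) u = _
    rw [MonObj.mul_comp]
    exact (isBaseChange_iff.1 (hG.mul _ _ _ _ _ (isBaseChange_bc _ u) (isBaseChange_bc _ u))).symm
  have hpt1 : ∀ {T : Over (Spec (CommRingCat.of k))}, pt (1 : T ⟶ N) = 1 := fun {T} => by
    have h := hptmul (1 : T ⟶ N) 1
    rw [_root_.one_mul] at h
    exact mul_eq_left.1 h.symm
  let O := thetaObj A L N
  let P := basePair A L
  let β := pt (𝟙 N)
  haveI := isIso_fiber_of_iso β.1
  let a : O ⟶ P := proj A L N
  let b : O ⟶ P := β.1.hom ≫ proj A L N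
  haveI : IsIso b.fiber := fib_comp_isIso _ _
  have hbase : b.base = (transl A i ≫ fst A N).left := by
    show β.1.hom.base ≫ (fst A N).left = _
    rw [hpt (𝟙 N), Category.id_comp, Over.comp_left]
  have H : IsPullback a.base b.base f.left f.left := by
    rw [hbase]
    exact (isPullback_transl hN).map (Over.forget _)
  -- the two morphisms at a point of `O`
  have hpts : ∀ (R : Pseudofunctor.CoGrothendieck modPF.{u}) (c : R ⟶ O) (Z : Over (Spec (CommRingCat.of k)))
      (pa : Z ⟶ A) (n : Z ⟶ N) (hR : R.base = Z.left) (_ : c.base = eqToHom hR ≫ (lift pa n).left),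
      ∃ c₀ : R ⟶ thetaObj A L Z, c₀.base = eqToHom hR ≫ (lift pa (𝟙 Z)).left ∧ c₀ ≫ proj A L Z = c ≫ a ∧
        c₀ ≫ (pt n).1.hom ≫ proj A L Z = c ≫ b := by
    intro R c Z pa n hR hc
    haveI := isIso_bcLift_fiber (A := A) (L := L) n
    obtain ⟨c₀, ⟨h0, h0c⟩, -⟩ := existsUnique_lift (bcLift A L n) c (eqToHom hR ≫ (lift pa (𝟙 Z)).left) (by
      show c.base = _ ≫ (A ◁ n).left
      rw [hc, Category.assoc, ← Over.comp_left]
      congr 2
      apply CartesianMonoidalCategory.hom_ext <;> simp)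
    refine ⟨c₀, h0, ?_, ?_⟩
    · rw [← bcLift_proj hL n, ← Category.assoc, h0c]
    · have h1 := isBaseChange_bc n β
      unfold ThetaGrp.IsBaseChange at h1
      have h2 : bc n β = pt n := by
        show bc n (bc (𝟙 N ≫ j) u) = bc (n ≫ j) u
        rw [Category.id_comp, bc_comp hL]
      rw [h2] at h1
      rw [← bcLift_proj hL n, ← Category.assoc (pt n).1.hom, h1, Category.assoc, ← Category.assoc, h0c]
  have hcoord : ∀ (R : Pseudofunctor.CoGrothendieck modPF.{u}) (c : R ⟶ O) (Z : Over (Spec (CommRingCat.of k)))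
      (hR : R.base = Z.left) (hw : eqToHom hR.symm ≫ c.base ≫ (A ⊗ N).hom = Z.hom),
      ∃ (pa : Z ⟶ A) (n : Z ⟶ N), c.base = eqToHom hR ≫ (lift pa n).left ∧ (c ≫ a).base = eqToHom hR ≫ pa.left ∧
        (c ≫ b).base = eqToHom hR ≫ (pa * (n ≫ i)).left := by
    intro R c Z hR hw
    let cz : Z ⟶ A ⊗ N := Over.homMk (eqToHom hR.symm ≫ c.base) (by rw [Category.assoc]; exact hw)
    have hc : c.base = eqToHom hR ≫ cz.left := by simp [cz]
    refine ⟨cz ≫ fst A N, cz ≫ snd A N, ?_, ?_, ?_⟩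
    · rw [hc]; congr 2; apply CartesianMonoidalCategory.hom_ext <;> simp
    · show c.base ≫ (fst A N).left = _
      rw [hc, Category.assoc, ← Over.comp_left]
    · show c.base ≫ b.base = _
      rw [hbase, hc, Category.assoc, ← Over.comp_left]
      congr 2
      rw [transl_fst, MonObj.comp_mul, Category.assoc]
  have hdiag : ∀ (R : Pseudofunctor.CoGrothendieck modPF.{u}) (c : R ⟶ O), IsIso c.fiber →
      (c ≫ a).base = (c ≫ b).base → c ≫ a = c ≫ b := by
    intro R c _ hab
    let Z : Over (Spec (CommRingCat.of k)) := Over.mk (c.base ≫ (A ⊗ N).hom)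
    obtain ⟨pa, n, hc, ha, hb⟩ := hcoord R c Z rfl (Category.id_comp _)
    rw [ha, hb, cancel_epi] at hab
    have hn : n = 1 := by
      have h1 : pa * (n ≫ i) = pa := Over.OverMorphism.ext hab.symm
      rw [← cancel_mono i, mul_eq_left.1 h1, MonObj.one_comp]
    obtain ⟨c₀, -, h1, h2⟩ := hpts R c Z pa n rfl hc
    rw [← h1, ← h2, hn, hpt1]
    show c₀ ≫ proj A L Z = c₀ ≫ 𝟙 _ ≫ proj A L Z
    rw [Category.id_comp]
  have htrans : ∀ (R : Pseudofunctor.CoGrothendieck modPF.{u}) (z₁ z₂ z₃ : R ⟶ O), IsIso z₁.fiber → IsIso z₂.fiber →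
      IsIso z₃.fiber → z₁ ≫ b = z₂ ≫ a → z₁ ≫ a = z₃ ≫ a → (z₂ ≫ b).base = (z₃ ≫ b).base → z₂ ≫ b = z₃ ≫ b := by
    intro R z₁ z₂ z₃ _ _ _ h12 h13 hb23
    have hstr : ∀ z : R ⟶ O, z.base ≫ (A ⊗ N).hom = (z ≫ a).base ≫ A.hom ∧ z.base ≫ (A ⊗ N).hom = (z ≫ b).base ≫ A.hom :=
      fun z => ⟨by show _ = (z.base ≫ (fst A N).left) ≫ A.hom; rw [Category.assoc, Over.w],
        by show _ = (z.base ≫ b.base) ≫ A.hom; rw [hbase, Category.assoc, Over.w]⟩
    let Z : Over (Spec (CommRingCat.of k)) := Over.mk (z₁.base ≫ (A ⊗ N).hom)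
    have w2 : z₂.base ≫ (A ⊗ N).hom = Z.hom := ((hstr z₂).1.trans (by rw [← h12, ← (hstr z₁).2]; rfl)).trans rfl
    have w3 : z₃.base ≫ (A ⊗ N).hom = Z.hom := ((hstr z₃).1.trans (by rw [← h13, ← (hstr z₁).1]; rfl)).trans rfl
    obtain ⟨p1, n1, hc1, ha1, hb1⟩ := hcoord R z₁ Z rfl (Category.id_comp _)
    obtain ⟨p2, n2, hc2, ha2, hb2⟩ := hcoord R z₂ Z rfl ((Category.id_comp _).trans w2)
    obtain ⟨p3, n3, hc3, ha3, hb3⟩ := hcoord R z₃ Z rfl ((Category.id_comp _).trans w3)
    obtain ⟨d1, hd1, d1a, d1b⟩ := hpts R z₁ Z p1 n1 rfl hc1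
    obtain ⟨d2, hd2, d2a, d2b⟩ := hpts R z₂ Z p2 n2 rfl hc2
    obtain ⟨d3, hd3, d3a, d3b⟩ := hpts R z₃ Z p3 n3 rfl hc3
    have ep2 : p2 = p1 * (n1 ≫ i) := by
      have h := congrArg Pseudofunctor.CoGrothendieck.Hom.base h12
      rw [hb1, ha2, cancel_epi] at h
      exact (Over.OverMorphism.ext h).symm
    have ep3 : p3 = p1 := by
      have h := congrArg Pseudofunctor.CoGrothendieck.Hom.base h13
      rw [ha1, ha3, cancel_epi] at h
      exact (Over.OverMorphism.ext h).symm
    have en : n3 = n2 * n1 := by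
      rw [hb2, hb3, cancel_epi] at hb23
      have h : p2 * (n2 ≫ i) = p3 * (n3 ≫ i) := Over.OverMorphism.ext hb23
      rw [ep2, ep3, _root_.mul_assoc, mul_right_inj] at h
      rw [← cancel_mono i, ← h, MonObj.mul_comp, mul_comm]
    have hshift : d2 = d1 ≫ (pt n1).1.hom := by
      obtain ⟨l, -, hl⟩ := existsUnique_lift (proj A L Z) (z₂ ≫ a) d2.base (congrArg Pseudofunctor.CoGrothendieck.Hom.base d2a).symm
      refine (hl _ ⟨rfl, d2a⟩).trans (hl _ ⟨?_, ?_⟩).symm
      · show d1.base ≫ (pt n1).1.hom.base = d2.base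
        rw [hd1, hpt n1, hd2, Category.assoc, ← Over.comp_left, ep2]
        congr 2
        apply CartesianMonoidalCategory.hom_ext
        · simp only [Category.assoc, transl_fst, MonObj.comp_mul, lift_fst, lift_snd_assoc, Category.id_comp]
        · simp only [Category.assoc, transl_snd, lift_snd]
      · rw [Category.assoc, d1b, h12]
    have h31 : d3 = d1 := by
      obtain ⟨l, -, hl⟩ := existsUnique_lift (proj A L Z) (z₃ ≫ a) d3.base (congrArg Pseudofunctor.CoGrothendieck.Hom.base d3a).symm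
      refine (hl _ ⟨rfl, d3a⟩).trans (hl _ ⟨by rw [hd1, hd3, ep3], ?_⟩).symm
      rw [d1a, h13]
    rw [← d2b, ← d3b, hshift, h31, en, hptmul]
    show (d1 ≫ (pt n1).1.hom) ≫ _ = d1 ≫ ((pt n1).1.hom ≫ (pt n2).1.hom) ≫ _
    simp only [Category.assoc]
  obtain ⟨M, hM, π, hπ, hπf⟩ := exists_eff_desc (Y := B.left) (P := P) (O := O) f.left a b H hdiag htrans hL
  obtain ⟨g, m⟩ := π
  obtain rfl : g = f.left := hπ
  refine ⟨M, hM, ⟨?_⟩⟩
  haveI : IsIso (show L ⟶ (Scheme.Modules.pullback f.left).obj M from m) := hπf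
  exact (asIso (show L ⟶ (Scheme.Modules.pullback f.left).obj M from m)).symm

/-- A descended module gives a lift of the kernel to the theta group. -/
theorem exists_lift_of_descent (hL : PicF.IsInvertible L) (hN : AlgGrp.IsKernel i f) {M : B.left.Modules}
    (hM : PicF.IsInvertible M) (e : (Scheme.Modules.pullback f.left).obj M ≅ L)
    {G : Over (Spec (CommRingCat.of k))} [GrpObj G] {u : thetaPts A L G} (hG : IsThetaGrpSch A L G u) :
    ∃ j : N ⟶ G, IsMonHom j ∧ ∀ (T : Over (Spec (CommRingCat.of k))) (n : T ⟶ N) (β : thetaPts A L T),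
      IsBaseChange β (n ≫ j) u → IsOverPt β (n ≫ i) := by
  obtain ⟨α, ⟨hα, hα1⟩, -⟩ := existsUnique_above (f := f) (e := e) (1 : thetaPts B M N) i (by
    have := isOverPt_one_comp (M := M) hN (𝟙 N)
    rwa [Category.id_comp] at this)
  obtain ⟨j, hj, -⟩ := hG.univ N α
  obtain rfl := isBaseChange_iff.1 hj
  have hpt : ∀ {T : Over (Spec (CommRingCat.of k))} (n : T ⟶ N),
      IsOverPt (bc (n ≫ j) u) (n ≫ i) ∧ Above f e (bc (n ≫ j) u) 1 := fun n => by
    rw [bc_comp hL]
    exact ⟨isOverPt_bc n hα, by simpa only [bc_one] using hα1.bc hM n⟩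
  have hmul : ∀ {T : Over (Spec (CommRingCat.of k))} (n m : T ⟶ N), (n * m) ≫ j = (n ≫ j) * (m ≫ j) := fun {T} n m => by
    refine (hG.univ T _).unique (isBaseChange_bc _ u) ?_
    have h1 := isBaseChange_iff.1 (hG.mul T _ _ _ _ (isBaseChange_bc (n ≫ j) u) (isBaseChange_bc (m ≫ j) u))
    rw [isBaseChange_iff, ← h1]
    refine (existsUnique_above (f := f) (e := e) (1 : thetaPts B M T) ((n * m) ≫ i) (isOverPt_one_comp hN _)).unique
      (hpt _) ⟨?_, ?_⟩
    · rw [MonObj.mul_comp, mul_comm]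
      exact isOverPt_mul (hpt n).1 (hpt m).1
    · have := (hpt n).2.mul (hpt m).2
      rwa [_root_.mul_one] at this
  have h1 : η[N] ≫ j = η[G] := by
    have h := hmul (1 : 𝟙_ (Over (Spec (CommRingCat.of k))) ⟶ N) 1
    rw [_root_.one_mul] at h
    have h' : (1 : 𝟙_ (Over (Spec (CommRingCat.of k))) ⟶ N) ≫ j = 1 := mul_eq_left.1 h.symm
    simpa [MonObj.one_eq_one] using h'
  refine ⟨j, ⟨h1, ?_⟩, fun T n β hβ => isBaseChange_iff.1 hβ ▸ (hpt n).1⟩
  rw [MonObj.mul_eq_mul, hmul, Hom.mul_def]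
  congr 1

end Groth.Agent.ThetaG
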