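import Groth.Agent.ThetaG.DegKL
import Groth.Agent.ThetaG.Rep
import Groth.Agent.S19948
import Mathlib.Algebra.DualNumber
import Mathlib.RingTheory.Nullstellensatz

/-!
Non-degeneracy of the theta group over an algebraically closed field.
-/

set_option autoImplicit false
set_option linter.style.haveILetI false
set_option linter.unusedSectionVars false
set_option backward.isDefEq.respectTransparency false
set_option backward.isDefEq.respectTransparency.types false
set_option maxHeartbeats 1600000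

universe u

open CategoryTheory CategoryTheory.Limits MonoidalCategory CartesianMonoidalCategory MonObj GrpObj AlgebraicGeometry TensorProduct

noncomputable section

namespace Groth.Agent.ThetaG

open ThetaGrp

variable {k : Type u} [Field k]

theorem rk_pos {Z : Over (Spec (CommRingCat.of k))} [IsFinite Z.hom] (o : 𝟙_ (Over (Spec (CommRingCat.of k))) ⟶ Z) :
    0 < rk Z := by
  have h := Scheme.Hom.one_le_finrank_map Z.hom (o.left (IsLocalRing.closedPoint k))
  rw [finrank_eq_rk] at h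
  exact h

theorem eq_one_of_rk_one {Z : Over (Spec (CommRingCat.of k))} [GrpObj Z] [IsFinite Z.hom] (h : rk Z = 1)
    {T : Over (Spec (CommRingCat.of k))} (y : T ⟶ Z) : y = 1 := by
  haveI : Flat Z.hom := inferInstance
  haveI : LocallyOfFinitePresentation Z.hom := inferInstance
  haveI : IsIso Z.hom := (Scheme.Hom.isIso_iff_finrank_eq Z.hom).2 (funext fun s => (finrank_eq_rk Z s).trans h)
  refine Over.OverMorphism.ext ?_
  rw [← cancel_mono Z.hom, Over.w, Over.w]

/-- A finite scheme over a field with finitely many points. -/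
theorem finite_left (X : Over (Spec (CommRingCat.of k))) [IsFinite X.hom] : Finite X.left := by
  haveI : Subsingleton (Spec (CommRingCat.of k) : Scheme.{u}) := inferInstanceAs (Subsingleton (PrimeSpectrum k))
  refine Set.finite_univ_iff.1 ((X.hom.finite_preimage_singleton (IsLocalRing.closedPoint k)).subset fun x _ => ?_)
  exact Subsingleton.elim _ _

/-- A closed subscheme whose inverse image is finite is finite. -/
theorem isFinite_of_preimage {A B K KM : Over (Spec (CommRingCat.of k))} [IsFinite K.hom] [IsProper B.hom]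
    (f : A ⟶ B) [Surjective f.left] (iK : K ⟶ A) (iM : KM ⟶ B) [IsClosedImmersion iM.left]
    (h : ∀ {T : Over (Spec (CommRingCat.of k))} (x : T ⟶ A), (∃ y : T ⟶ KM, y ≫ iM = x ≫ f) → ∃ y : T ⟶ K, y ≫ iK = x) :
    IsFinite KM.hom := by
  let R : Over (Spec (CommRingCat.of k)) := Over.mk (pullback.fst f.left iM.left ≫ A.hom)
  let r : R ⟶ A := Over.homMk (pullback.fst f.left iM.left) rfl
  let r' : R ⟶ KM := Over.homMk (pullback.snd f.left iM.left) (by
    show pullback.snd f.left iM.left ≫ KM.hom = pullback.fst f.left iM.left ≫ A.hom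
    rw [← Over.w iM, ← pullback.condition_assoc, Over.w f])
  obtain ⟨y, hy⟩ := h r ⟨r', Over.OverMorphism.ext pullback.condition.symm⟩
  haveI := finite_left K
  haveI : IsClosedImmersion r.left := inferInstanceAs (IsClosedImmersion (pullback.fst f.left iM.left))
  haveI : Finite R.left := Finite.of_injective y.left fun a b hab => r.left.isEmbedding.injective (by
    rw [← hy, Over.comp_left, Scheme.Hom.comp_apply, Scheme.Hom.comp_apply, hab])
  haveI : Surjective r'.left := inferInstanceAs (Surjective (pullback.snd f.left iM.left))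
  haveI : Finite KM.left := Finite.of_surjective _ r'.left.surjective
  haveI : IsProper KM.hom := by rw [← Over.w iM]; infer_instance
  haveI : LocallyQuasiFinite KM.hom := LocallyQuasiFinite.of_finite_preimage_singleton KM.hom fun _ => Set.toFinite _
  exact IsFinite.of_isProper_of_locallyQuasiFinite KM.hom

variable {A : Over (Spec (CommRingCat.of k))} [GrpObj A]
  [IsProper A.hom] [GeometricallyIntegral A.hom] [IsCommMonObj A] {L : A.left.Modules}
  {K : Over (Spec (CommRingCat.of k))} {iK : K ⟶ A}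

/-- Orthogonality is symmetric. -/
theorem isPerpPt_symm {P P' : Over (Spec (CommRingCat.of k))} {p : P ⟶ A} {p' : P' ⟶ A}
    (h : IsPerpPt L p p') : IsPerpPt L p' p := fun T' f y β₁ β₂ h₁ h₂ => (h T' y f β₂ β₁ h₂ h₁).symm

/-- An isotropic finite subgroup of `K(L)` gives a descent. -/
theorem exists_isotropic_descent [IsAlgClosed k] (hL : PicF.IsInvertible L) (hK : IsKL A L iK) [IsFinite K.hom]
    {Z : Over (Spec (CommRingCat.of k))} [GrpObj Z] [IsFinite Z.hom] (z : Z ⟶ A) [IsMonHom z]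
    [IsClosedImmersion z.left] (hzK : ∃ y : Z ⟶ K, y ≫ iK = z) (hiso : IsIsotropic L z) :
    ∃ (B : Over (Spec (CommRingCat.of k))) (_ : GrpObj B) (_ : IsProper B.hom) (_ : GeometricallyIntegral B.hom)
      (_ : IsCommMonObj B) (f : A ⟶ B) (M : B.left.Modules) (_ : (Scheme.Modules.pullback f.left).obj M ≅ L)
      (KM : Over (Spec (CommRingCat.of k))) (iM : KM ⟶ B),
      IsMonHom f ∧ IsFinite f.left ∧ Surjective f.left ∧ AlgGrp.IsKernel z f ∧ PicF.IsInvertible M ∧
      IsKL B M iM ∧ IsFinite KM.hom ∧ rk K = rk Z ^ 2 * rk KM ∧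
      (∀ {T : Over (Spec (CommRingCat.of k))} (x : T ⟶ A),
        (∃ y : T ⟶ KM, y ≫ iM = x ≫ f) ↔ ((∃ y : T ⟶ K, y ≫ iK = x) ∧ IsPerpPt L z x)) := by
  obtain ⟨B, _, f, hB1, hB2, hf1, hf2, hf3, hf4, hfpts⟩ := AVQuot.exists_quotient A Z z
  haveI := hB1
  haveI := hB2
  haveI := hf1
  haveI := hf2
  haveI := hf3
  haveI := hf4
  haveI : IsCommMonObj B := isCommMonObj_of_isProper_of_geometricallyIntegral B
  haveI : Mono z := mono_of_closed z
  have hN : AlgGrp.IsKernel z f := isKernel_of_points z f fun a => hfpts a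
  obtain ⟨M, hM, ⟨e⟩⟩ := (Groth.Agent.S19948.result k A B f hf2 Z z hN L hL K iK hK).2 ⟨hzK, hiso⟩
  obtain ⟨KM, iM, hKM⟩ := exists_KL (A := B) hM
  haveI := hKM.closed
  have hpts := fun {T : Over (Spec (CommRingCat.of k))} (x : T ⟶ A) => factors_iff_perp hL hM e hf2 hN hK hKM x
  haveI : IsFinite KM.hom := isFinite_of_preimage f iK iM fun x hx => ((hpts x).1 hx).1
  exact ⟨B, inferInstance, inferInstance, inferInstance, inferInstance, f, M, e, KM, iM, hf1, hf4, hf2, hN, hM, hKM,
    inferInstance, (rk_KL_pullback hM f hN hL e hK hKM).2, hpts⟩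

/-- The pairing on `K(L)` is non-degenerate. -/
theorem eq_one_of_perp_KL [IsAlgClosed k] (hL : PicF.IsInvertible L) (hK : IsKL A L iK) [IsFinite K.hom]
    {T : Over (Spec (CommRingCat.of k))} (y : T ⟶ K) (hy : IsPerpPt L iK (y ≫ iK)) : y ≫ iK = 1 := by
  obtain ⟨Z, _, z, hz1, hz2, hz3, hzpts⟩ := exists_perp_sub hL hK iK ⟨𝟙 K, Category.id_comp _⟩
  haveI := hz1
  haveI := hz2
  haveI := hz3
  obtain ⟨⟨a, ha⟩, hzperp⟩ := (hzpts z).1 ⟨𝟙 Z, Category.id_comp _⟩
  have hiso : IsIsotropic L z := fun T' x x' β₁ β₂ h₁ h₂ =>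
    hzperp T' x (x' ≫ a) β₁ β₂ h₁ (by rw [Category.assoc, ha]; exact h₂)
  obtain ⟨B, _, _, _, _, f, M, e, KM, iM, hf1, hf4, hf2, hN, hM, hKM, hKMf, hrk, hpts⟩ :=
    exists_isotropic_descent hL hK z ⟨a, ha⟩ hiso
  haveI := hf1
  haveI := hf2
  haveI := hf4
  haveI := hKMf
  haveI := hKM.closed
  haveI := hK.closed
  haveI := AVIsog3.flat_of_surjective f
  haveI := AVIsog3.lfp_left f
  haveI : Mono iK := mono_of_closed iK
  obtain ⟨P, p, hp, hPf, hP, hPpts⟩ := exists_preimage hN iM
  haveI := hp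
  haveI := hPf
  haveI := mono_of_closed p
  have hKP : rk K = rk Z * rk KM := (rk_congr_points iK p fun {T} x => by
    rw [hPpts, hpts]
    refine ⟨fun hx => ⟨hx, ?_⟩, fun h => h.1⟩
    obtain ⟨b, rfl⟩ := hx
    exact isPerpPt_comp (isPerpPt_symm hzperp) b).2.trans hP
  have hpos : 0 < rk Z * rk KM := by
    obtain ⟨o, ho⟩ := factors_one hM hKM (𝟙_ _)
    exact Nat.mul_pos (rk_pos η[Z]) (rk_pos o)
  have h1 : rk Z = 1 := by
    have h2 : 1 * (rk Z * rk KM) = rk Z * (rk Z * rk KM) := by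
      calc 1 * (rk Z * rk KM) = rk K := by rw [hKP, _root_.one_mul]
        _ = rk Z * (rk Z * rk KM) := by rw [hrk]; ring
    exact (Nat.eq_of_mul_eq_mul_right hpos h2).symm
  obtain ⟨w, hw⟩ := (hzpts (y ≫ iK)).2 ⟨⟨y, rfl⟩, hy⟩
  rw [← hw, eq_one_of_rk_one h1 w, MonObj.one_comp]

/-- A nontrivial finite `K(L)` contains a nontrivial isotropic point. -/
theorem exists_self_comm [IsAlgClosed k] (hL : PicF.IsInvertible L) (hK : IsKL A L iK) [IsFinite K.hom]
    (hne : iK ≠ 1) :
    ∃ (P : Over (Spec (CommRingCat.of k))) (p : P ⟶ A), IsFinite P.hom ∧ (∃ y : P ⟶ K, y ≫ iK = p) ∧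
      IsIsotropic L p ∧ p ≠ 1 := by
  haveI := hK.closed
  haveI : Mono iK := mono_of_closed iK
  haveI : IsAffine K.left := isAffine_of_isAffineHom K.hom
  obtain ⟨O, _, _, e₀, _, hfinO⟩ := exists_model K
  haveI := hfinO inferInstance
  let ptK : ∀ {R : Type u} [CommRing R] [Algebra k R], (O →ₐ[k] R) → (SpA (k := k) R ⟶ K) := fun x => spMap x ≫ e₀
  have ptK_comp : ∀ {R R' : Type u} [CommRing R] [Algebra k R] [CommRing R'] [Algebra k R'] (g : R →ₐ[k] R')
      (x : O →ₐ[k] R), spMap g ≫ ptK x = ptK (g.comp x) := fun g x => by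
    simp only [ptK, ← Category.assoc, spMap_comp]
  have ptK_inj : ∀ {R : Type u} [CommRing R] [Algebra k R] {x y : O →ₐ[k] R}, ptK x = ptK y → x = y := fun h =>
    spMap_injective ((cancel_mono e₀).1 h)
  obtain ⟨o, ho⟩ := factors_one hL hK (SpA (k := k) k)
  obtain ⟨x₁, hx₁'⟩ := exists_spMap (o ≫ inv e₀)
  have hx₁ : ptK x₁ ≫ iK = 1 := by
    rw [show ptK x₁ = o by simp [ptK, hx₁'], ho]
  have hofId : ∀ {R : Type u} [CommRing R] [Algebra k R], ptK ((Algebra.ofId k R).comp x₁) ≫ iK = 1 := by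
    intro R _ _
    rw [← ptK_comp, Category.assoc, hx₁, MonObj.comp_one]
  have hisfin : ∀ (R : Type u) [CommRing R] [Algebra k R] [Module.Finite k R], IsFinite (SpA (k := k) R).hom :=
    fun R _ _ _ => (IsFinite.SpecMap_iff _).2 (RingHom.finite_algebraMap.2 inferInstance)
  by_cases hpts : ∀ x : O →ₐ[k] k, x = x₁
  swap
  · push_neg at hpts
    obtain ⟨x, hx⟩ := hpts
    refine ⟨SpA (k := k) k, ptK x ≫ iK, hisfin k, ⟨_, rfl⟩, fun T a b β₁ β₂ h₁ h₂ => ?_,
      fun h => hx (ptK_inj ((cancel_mono iK).1 (h.trans hx₁.symm)))⟩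
    have hab : a = b := by
      refine Over.OverMorphism.ext ?_
      haveI : IsIso (SpA (k := k) k).hom := by
        show IsIso (Spec.map _)
        rw [show CommRingCat.ofHom (algebraMap k k) = 𝟙 (CommRingCat.of k) from rfl, Spec.map_id]
        infer_instance
      rw [← cancel_mono (SpA (k := k) k).hom, Over.w, Over.w]
    subst hab
    exact commute_of_overPt hL h₁ h₁ h₁ h₂ rfl
  -- only one point: a tangent vector
  obtain ⟨σ, hσ⟩ := exists_global_lift hL hK (x := iK) ⟨𝟙 K, Category.id_comp _⟩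
  let m : Ideal O := RingHom.ker x₁.toRingHom
  have hmax : ∀ I : Ideal O, I.IsMaximal → I = m := fun I hI => by
    letI := Ideal.Quotient.field I
    have hb : Function.Bijective (algebraMap k (O ⧸ I)) :=
      IsAlgClosed.algebraMap_bijective_of_isIntegral (k := k) (K := O ⧸ I)
    let x : O →ₐ[k] k := (AlgEquiv.ofBijective (Algebra.ofId k (O ⧸ I)) hb).symm.toAlgHom.comp (Ideal.Quotient.mkₐ k I)
    have := hpts x
    ext a
    show a ∈ I ↔ x₁ a = 0
    rw [← this, ← Ideal.Quotient.eq_zero_iff_mem]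
    exact (map_eq_zero_iff _ (AlgEquiv.ofBijective (Algebra.ofId k (O ⧸ I)) hb).symm.injective).symm
  haveI hmmax : m.IsMaximal := RingHom.ker_isMaximal_of_surjective _ fun a => ⟨algebraMap k O a, x₁.commutes a⟩
  have hm2 : m ^ 2 ≠ m := by
    intro h
    have hj : m ≤ Ideal.jacobson (⊥ : Ideal O) := le_sInf fun I hI => (hmax I hI.2).ge
    haveI : IsNoetherianRing O := isNoetherian_of_tower k (inferInstance : IsNoetherian k O)
    have hb : m = ⊥ := Submodule.eq_bot_of_le_smul_of_le_jacobson_bot m m (IsNoetherian.noetherian m)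
      (by rw [smul_eq_mul, ← pow_two, h]) hj
    refine hne ?_
    rw [← cancel_epi e₀]
    have hid : (Algebra.ofId k O).comp x₁ = AlgHom.id k O := by
      ext a
      have h2 : a - algebraMap k O (x₁ a) ∈ m := by
        show x₁ _ = 0
        simp
      rw [hb, Ideal.mem_bot, sub_eq_zero] at h2
      exact h2.symm
    have := hofId (R := O)
    rw [hid] at this
    simp only [ptK, spMap_id, Category.id_comp] at this
    rw [this, MonObj.comp_one]
  obtain ⟨a₀, ha₀, ha₀2⟩ : ∃ a ∈ m, a ∉ m ^ 2 := by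
    by_contra h
    push_neg at h
    exact hm2 (le_antisymm (Ideal.pow_le_self two_ne_zero) h)
  obtain ⟨v, hv0, hv⟩ := Submodule.exists_dual_map_eq_bot_of_notMem (p := (m ^ 2).restrictScalars k) ha₀2 inferInstance
  have hvm : ∀ b ∈ m ^ 2, v b = 0 := fun b hb => by
    have : v b ∈ Submodule.map v ((m ^ 2).restrictScalars k) := Submodule.mem_map_of_mem hb
    rwa [hv, Submodule.mem_bot] at this
  let w : O →ₗ[k] k := v - (v 1) • x₁.toLinearMap
  have hw : ∀ a b, w (a * b) = x₁ a * w b + w a * x₁ b := fun a b => by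
    have h1 : (a - algebraMap k O (x₁ a)) * (b - algebraMap k O (x₁ b)) ∈ m ^ 2 := by
      rw [pow_two]
      refine Ideal.mul_mem_mul ?_ ?_ <;> (show x₁ _ = 0; simp)
    have h2 := hvm _ h1
    rw [sub_mul, mul_sub, mul_sub, mul_comm a (algebraMap k O (x₁ b))] at h2
    simp only [← Algebra.smul_def, map_sub, map_smul, smul_eq_mul, Algebra.algebraMap_eq_smul_one, smul_smul,
      smul_mul_assoc, _root_.one_mul] at h2
    simp only [w, LinearMap.sub_apply, LinearMap.smul_apply, AlgHom.toLinearMap_apply, map_mul, smul_eq_mul]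
    linear_combination h2
  let t : O →ₐ[k] DualNumber k := AlgHom.ofLinearMap
    (x₁.toLinearMap.smulRight (1 : DualNumber k) + w.smulRight DualNumber.eps)
    (by simp [w]) (fun a b => by
      apply TrivSqZeroExt.ext <;> simp [TrivSqZeroExt.fst_mul, DualNumber.snd_mul, hw, mul_comm])
  have ht : t ≠ (Algebra.ofId k _).comp x₁ := fun h => hv0 (by
    have h1 := congrArg (fun g : O →ₐ[k] DualNumber k => TrivSqZeroExt.snd (g a₀)) h
    simp [t, w, show x₁ a₀ = 0 from ha₀, Algebra.ofId_apply, TrivSqZeroExt.algebraMap_eq_inl] at h1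
    exact h1)
  haveI : Module.Finite k (DualNumber k) := inferInstanceAs (Module.Finite k (k × k))
  haveI := hisfin (DualNumber k)
  let ε₀ : (DualNumber k) →ₐ[k] k := TrivSqZeroExt.fstHom k k k
  have hεt : ε₀.comp t = x₁ := by
    ext a
    simp [ε₀, t, AlgHom.ofLinearMap, TrivSqZeroExt.fstHom]
  let τ : thetaPts A L (SpA (k := k) (DualNumber k)) := bc (ptK t) σ
  have hτ : IsOverPt τ (ptK t ≫ iK) := isOverPt_bc _ hσ
  refine ⟨SpA (k := k) (DualNumber k), ptK t ≫ iK, inferInstance, ⟨_, rfl⟩, ?_,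
    fun h => ht (ptK_inj ((cancel_mono iK).1 (h.trans hofId.symm)))⟩
  let i₁ : (DualNumber k) →ₐ[k] (DualNumber k) ⊗[k] (DualNumber k) := Algebra.TensorProduct.includeLeft
  let i₂ : (DualNumber k) →ₐ[k] (DualNumber k) ⊗[k] (DualNumber k) := Algebra.TensorProduct.includeRight
  let τ₁ := bc (spMap (R := DualNumber k) (R' := (DualNumber k) ⊗[k] (DualNumber k)) i₁) τ
  let τ₂ := bc (spMap (R := DualNumber k) (R' := (DualNumber k) ⊗[k] (DualNumber k)) i₂) τ
  obtain ⟨yp, hyp⟩ := factors_mul hL hK (x := spMap (R := DualNumber k) (R' := (DualNumber k) ⊗[k] (DualNumber k)) i₂ ≫ ptK t ≫ iK) (x' := spMap (R := DualNumber k) (R' := (DualNumber k) ⊗[k] (DualNumber k)) i₁ ≫ ptK t ≫ iK)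
    ⟨spMap (R := DualNumber k) (R' := (DualNumber k) ⊗[k] (DualNumber k)) i₂ ≫ ptK t, Category.assoc _ _ _⟩ ⟨spMap (R := DualNumber k) (R' := (DualNumber k) ⊗[k] (DualNumber k)) i₁ ≫ ptK t, Category.assoc _ _ _⟩
  have hprod : IsOverPt (τ₁ * τ₂) (yp ≫ iK) := by
    rw [hyp]
    exact isOverPt_mul (isOverPt_bc _ hτ) (isOverPt_bc _ hτ)
  have hσp : IsOverPt (bc yp σ) (yp ≫ iK) := isOverPt_bc _ hσ
  obtain ⟨c, hc⟩ : ∃ c : ((DualNumber k) ⊗[k] (DualNumber k))ˣ, τ₁ * τ₂ = scalA hL _ c * bc yp σ := by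
    have h2 := isOverPt_mul hprod (isOverPt_inv hσp)
    rw [inv_mul_cancel] at h2
    obtain ⟨c, hc⟩ := exists_scalA hL h2
    exact ⟨c, by rw [← hc, inv_mul_cancel_right]⟩
  obtain ⟨t₀, ht₀⟩ : ∃ t₀ : kˣ, bc (spMap (R := DualNumber k) (R' := k) ε₀) τ = scalA hL k t₀ := exists_scalA hL (by
    have := isOverPt_bc (spMap (R := DualNumber k) (R' := k) ε₀) hτ
    rwa [← Category.assoc, ptK_comp, hεt, hx₁] at this)
  -- specialisations of `c`
  have hspec : ∀ (g : (DualNumber k) ⊗[k] (DualNumber k) →ₐ[k] (DualNumber k)),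
      (g.comp i₁ = AlgHom.id k (DualNumber k) ∧ g.comp i₂ = (Algebra.ofId k (DualNumber k)).comp ε₀) ∨
      (g.comp i₂ = AlgHom.id k (DualNumber k) ∧ g.comp i₁ = (Algebra.ofId k (DualNumber k)).comp ε₀) →
      g (c : (DualNumber k) ⊗[k] (DualNumber k)) = algebraMap k (DualNumber k) t₀ := by
    intro g hg
    have h := congrArg (bc (spMap g)) hc
    simp only [τ₁, τ₂, bc_mul, bc_scalA, ← bc_comp hL, spMap_comp] at h
    have hy : spMap g ≫ yp = ptK t := by
      rw [← cancel_mono iK, Category.assoc, hyp, MonObj.comp_mul]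
      simp only [← Category.assoc, spMap_comp]
      rcases hg with ⟨h1, h2⟩ | ⟨h1, h2⟩
      · rw [h1, h2, ptK_comp, ptK_comp, AlgHom.id_comp, AlgHom.comp_assoc, hεt, hofId, _root_.one_mul]
      · rw [h1, h2, ptK_comp, ptK_comp, AlgHom.id_comp, AlgHom.comp_assoc, hεt, hofId, _root_.mul_one]
    rw [hy] at h
    have hcst : bc (spMap ((Algebra.ofId k (DualNumber k)).comp ε₀)) τ = scalA hL (DualNumber k) (Units.map (Algebra.ofId k (DualNumber k)).toRingHom.toMonoidHom t₀) := by
      rw [← spMap_comp, bc_comp hL, ht₀, bc_scalA]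
    have hscal : scalA hL (DualNumber k) (Units.map (Algebra.ofId k (DualNumber k)).toRingHom.toMonoidHom t₀) * τ =
        scalA hL (DualNumber k) (Units.map g.toRingHom.toMonoidHom c) * τ := by
      rcases hg with ⟨h1, h2⟩ | ⟨h1, h2⟩
      · rw [h1, h2, hcst, spMap_id, bc_id hL] at h
        exact (scal_comm hL _ τ).trans h
      · rw [h1, h2, hcst, spMap_id, bc_id hL] at h
        exact h
    exact (congrArg Units.val (scalA_injective hL (mul_right_cancel hscal))).symm
  -- symmetry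
  let sw : (DualNumber k) ⊗[k] (DualNumber k) →ₐ[k] (DualNumber k) ⊗[k] (DualNumber k) := (Algebra.TensorProduct.comm k (DualNumber k) (DualNumber k)).toAlgHom
  have hsym : sw (c : (DualNumber k) ⊗[k] (DualNumber k)) = c := by
    obtain ⟨a, b, hab⟩ : ∃ a b : (DualNumber k), (c : (DualNumber k) ⊗[k] (DualNumber k)) = a ⊗ₜ[k] (1 : (DualNumber k)) + b ⊗ₜ[k] (DualNumber.eps : (DualNumber k)) := by
      generalize (c : (DualNumber k) ⊗[k] (DualNumber k)) = u
      induction u using TensorProduct.induction_on with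
      | zero => exact ⟨0, 0, by simp⟩
      | tmul x y =>
        refine ⟨y.fst • x, y.snd • x, ?_⟩
        rw [TensorProduct.smul_tmul, TensorProduct.smul_tmul, ← TensorProduct.tmul_add]
        congr 1
        apply TrivSqZeroExt.ext <;> simp
      | add u u' hu hu' =>
        obtain ⟨a, b, rfl⟩ := hu
        obtain ⟨a', b', rfl⟩ := hu'
        exact ⟨a + a', b + b', by simp only [TensorProduct.add_tmul]; abel⟩
    have h1 := hspec (Algebra.TensorProduct.lift (AlgHom.id k (DualNumber k)) ((Algebra.ofId k (DualNumber k)).comp ε₀) fun _ _ => Commute.all _ _)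
      (Or.inl ⟨by simp [i₁], by simp [i₂]⟩)
    have h2 := hspec (Algebra.TensorProduct.lift ((Algebra.ofId k (DualNumber k)).comp ε₀) (AlgHom.id k (DualNumber k)) fun _ _ => Commute.all _ _)
      (Or.inr ⟨by simp [i₂], by simp [i₁]⟩)
    rw [hab] at h1 h2 ⊢
    have ha : a.snd = 0 := by
      have := congrArg TrivSqZeroExt.snd h1
      simpa [ε₀, TrivSqZeroExt.algebraMap_eq_inl] using this
    have hb : b.fst = 0 := by
      have := congrArg TrivSqZeroExt.snd h2
      simpa [ε₀, TrivSqZeroExt.algebraMap_eq_inl] using this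
    have ha' : a = a.fst • (1 : (DualNumber k)) := by apply TrivSqZeroExt.ext <;> simp [ha]
    have hb' : b = b.snd • (DualNumber.eps : (DualNumber k)) := by apply TrivSqZeroExt.ext <;> simp [hb]
    rw [ha', hb']
    simp [sw, TensorProduct.smul_tmul, TensorProduct.tmul_smul]
  have hcomm : τ₁ * τ₂ = τ₂ * τ₁ := by
    have hs1 : sw.comp i₁ = i₂ := by ext b <;> simp [sw, i₁, i₂]
    have hs2 : sw.comp i₂ = i₁ := by ext b <;> simp [sw, i₁, i₂]
    have h := congrArg (bc (spMap (R := DualNumber k ⊗[k] DualNumber k) (R' := DualNumber k ⊗[k] DualNumber k) sw)) hc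
    simp only [τ₁, τ₂, bc_mul, bc_scalA, ← bc_comp hL, spMap_comp, hs1, hs2] at h
    have hy : spMap (R := DualNumber k ⊗[k] DualNumber k) (R' := DualNumber k ⊗[k] DualNumber k) sw ≫ yp = yp := by
      rw [← cancel_mono iK, Category.assoc, hyp, MonObj.comp_mul]
      simp only [← Category.assoc, spMap_comp, hs1, hs2]
      exact mul_comm _ _
    rw [hy, show Units.map sw.toRingHom.toMonoidHom c = c from Units.ext hsym] at h
    show bc (spMap (R := DualNumber k) (R' := (DualNumber k) ⊗[k] (DualNumber k)) i₁) τ * bc (spMap (R := DualNumber k) (R' := (DualNumber k) ⊗[k] (DualNumber k)) i₂) τ = bc (spMap (R := DualNumber k) (R' := (DualNumber k) ⊗[k] (DualNumber k)) i₂) τ * bc (spMap (R := DualNumber k) (R' := (DualNumber k) ⊗[k] (DualNumber k)) i₁) τ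
    rw [h]
    exact hc
  intro T a b β₁ β₂ h₁ h₂
  refine comm_of_bc hL fun s => ?_
  obtain ⟨V, hV, hVs, -⟩ := exists_isAffineOpen_mem_and_subset (TopologicalSpace.Opens.mem_top s)
  refine ⟨V, hVs, ?_⟩
  haveI : IsAffine (res T V).left := hV
  obtain ⟨R, _, _, e', _, -⟩ := exists_model (res T V)
  obtain ⟨x, hx⟩ := exists_spMap (e' ≫ resι T V ≫ a)
  obtain ⟨y, hy⟩ := exists_spMap (e' ≫ resι T V ≫ b)
  have h := congrArg (bc (spMap (Algebra.TensorProduct.lift x y fun _ _ => Commute.all _ _))) hcomm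
  simp only [τ₁, τ₂, bc_mul, ← bc_comp hL, spMap_comp,
    show (Algebra.TensorProduct.lift x y fun _ _ => Commute.all _ _).comp i₁ = x by simp [i₁],
    show (Algebra.TensorProduct.lift x y fun _ _ => Commute.all _ _).comp i₂ = y by simp [i₂], hx, hy] at h
  have h' := congrArg (bc (inv e')) h
  simp only [bc_mul, ← bc_comp hL, IsIso.inv_hom_id_assoc] at h'
  refine commute_of_overPt hL ?_ (isOverPt_bc _ h₁) ?_ (isOverPt_bc _ h₂) h'
  · rw [← Category.assoc (resι T V) a]; exact isOverPt_bc _ hτ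
  · rw [← Category.assoc (resι T V) b]; exact isOverPt_bc _ hτ

end Groth.Agent.ThetaG
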