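import Groth.Agent.ThetaG.Rel
import Groth.Agent.H23.EndInv
import Groth.Agent.Lib.CurveEnd

/-!
Scalar automorphisms of (scheme, module) pairs.
-/

set_option autoImplicit false
set_option backward.isDefEq.respectTransparency false
set_option backward.isDefEq.respectTransparency.types false

universe u

open CategoryTheory CategoryTheory.Limits AlgebraicGeometry TopologicalSpace Opposite
open Pseudofunctor Bicategory

noncomputable section

namespace Groth.Agent.ThetaG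

open Groth.Agent.AModX Groth.Agent.InvX ThetaGrp

variable {P Q R : Pseudofunctor.CoGrothendieck modPF.{u}}

/-- Restriction of a global function. -/
abbrev resT {X : Scheme.{u}} (c : Γ(X, ⊤)) (W : X.Opens) : Γ(X, W) := resR (le_top : W ≤ ⊤) c

theorem resT_appTop {X Y : Scheme.{u}} (f : X ⟶ Y) (c : Γ(Y, ⊤)) {V : Y.Opens} {W : X.Opens} (h : W ≤ f ⁻¹ᵁ V) :
    f.appLE V W h (resT c V) = resT (f.appTop c) W := by
  show f.appLE V W h (Y.presheaf.map (homOfLE le_top).op c) = X.presheaf.map (homOfLE le_top).op (f.appTop c)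
  rw [← ConcreteCategory.comp_apply, ← ConcreteCategory.comp_apply]
  congr 2
  rw [Scheme.Hom.map_appLE, Scheme.Hom.appTop, Scheme.Hom.app_eq_appLE, Scheme.Hom.appLE_map]

variable (P) in
/-- Multiplication by a global unit, as an endomorphism of the pair. -/
def sc (c : Γ(P.base, ⊤)ˣ) : P ⟶ P :=
  ⟨𝟙 P.base, CurveEnd.smulMod (mod P) c ≫ (Scheme.Modules.pullbackId P.base).inv.app (mod P)⟩

theorem sc_base (c : Γ(P.base, ⊤)ˣ) : (sc P c).base = 𝟙 P.base := rfl

theorem rel_sc (c : Γ(P.base, ⊤)ˣ) {V W : P.base.Opens} (h : W ≤ (𝟙 P.base : P.base ⟶ P.base) ⁻¹ᵁ V)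
    (x : Γ(mod P, V)) : Rel (sc P c) h x (resT (c⁻¹ : Γ(P.base, ⊤)ˣ) W • AModX.res (mod P) h x) := by
  show ((Scheme.Modules.pullbackId P.base).inv.app (mod P)).app W
    ((CurveEnd.smulMod (mod P) c).app W (resT (c⁻¹ : Γ(P.base, ⊤)ˣ) W • AModX.res (mod P) h x)) = _
  rw [Scheme.Modules.Hom.app_smul, CurveEnd.smulMod_app, ← mul_smul]
  have : resT (c⁻¹ : Γ(P.base, ⊤)ˣ) W * resT (c : Γ(P.base, ⊤)) W = 1 := by
    rw [← map_mul, Units.inv_mul, map_one]
  exact (congrArg _ ((congrArg (· • AModX.res (mod P) h x) this).trans (one_smul _ _))).trans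
    (pullbackId_inv_pullSec _ h x)

theorem rel_sc_self (c : Γ(P.base, ⊤)ˣ) {V : P.base.Opens} (x : Γ(mod P, V)) :
    Rel (sc P c) (V := V) (W := V) (le_refl V) x (resT (c⁻¹ : Γ(P.base, ⊤)ˣ) V • x) := by
  have h := rel_sc c (V := V) (W := V) le_rfl x
  have e : AModX.res (mod P) (le_refl V) x = x := AModX.res_self x
  exact (congrArg (fun t => resT (c⁻¹ : Γ(P.base, ⊤)ˣ) V • t) e) ▸ h

instance isIso_sc_fiber (c : Γ(P.base, ⊤)ˣ) : IsIso (sc P c).fiber := by
  have : IsIso (CurveEnd.smulMod (mod P) c) := by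
    refine ⟨CurveEnd.smulMod (mod P) (c⁻¹ : Γ(P.base, ⊤)ˣ), ?_, ?_⟩
    · exact ((map_mul (CurveEnd.scalar (mod P)) ((c⁻¹ : Γ(P.base, ⊤)ˣ) : Γ(P.base, ⊤)) c).symm.trans
        (by rw [Units.inv_mul, map_one]; rfl))
    · exact ((map_mul (CurveEnd.scalar (mod P)) (c : Γ(P.base, ⊤)) (c⁻¹ : Γ(P.base, ⊤)ˣ)).symm.trans
        (by rw [Units.mul_inv, map_one]; rfl))
  show IsIso (CurveEnd.smulMod (mod P) c ≫ (Scheme.Modules.pullbackId P.base).inv.app (mod P))
  infer_instance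

theorem fib_comp_isIso (φ : P ⟶ Q) (ψ : Q ⟶ R) [IsIso φ.fiber] [IsIso ψ.fiber] : IsIso (φ ≫ ψ).fiber := by
  have : IsIso (fib φ) := ‹IsIso φ.fiber›
  have : IsIso (fib ψ) := ‹IsIso ψ.fiber›
  show IsIso (fib φ ≫ (Scheme.Modules.pullback φ.base).map (fib ψ) ≫
    (Scheme.Modules.pullbackComp φ.base ψ.base).hom.app (mod R))
  infer_instance

/-- Frames of the target through a point. -/
theorem exists_frame_through {φ : P ⟶ Q} [IsIso φ.fiber] (hQ : PicF.IsInvertible (mod Q)) (p : P.base) :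
    ∃ (V : Q.base.Opens) (W : P.base.Opens) (h : W ≤ φ.base ⁻¹ᵁ V) (x : Γ(mod Q, V)) (d : Γ(mod P, W)),
      p ∈ W ∧ IsFrame x ∧ Rel φ h x d := by
  obtain ⟨V, hV, x, hx⟩ := InvX.exists_frame hQ (φ.base p)
  obtain ⟨d, hd, -⟩ := exists_rel φ (W := φ.base ⁻¹ᵁ V) le_rfl x
  exact ⟨V, _, le_rfl, x, d, hV, hx, hd⟩

/-- Scalars are natural. -/
theorem comp_sc (hQ : PicF.IsInvertible (mod Q)) (φ : P ⟶ Q) [IsIso φ.fiber] (c : Γ(Q.base, ⊤)ˣ) :
    φ ≫ sc Q c = sc P (Units.map φ.base.appTop.hom.toMonoidHom c) ≫ φ := by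
  have := fib_comp_isIso φ (sc Q c)
  refine hom_ext (Category.comp_id φ.base |>.trans (Category.id_comp φ.base).symm) fun p => ?_
  obtain ⟨V, W, h, x, d, hp, hx, hr⟩ := exists_frame_through (φ := φ) hQ p
  refine ⟨V, W, h, x, resT (Units.map φ.base.appTop.hom.toMonoidHom c⁻¹ : Γ(P.base, ⊤)ˣ) W • d, hp, hx, ?_, ?_⟩
  · have h1 := rel_sc_self c x
    have h2 := rel_smul φ (resT (c⁻¹ : Γ(Q.base, ⊤)ˣ) V) hr
    rw [resT_appTop] at h2
    exact rel_comp h1 h2
  · have h1 := rel_sc_self (Units.map φ.base.appTop.hom.toMonoidHom c) d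
    exact rel_comp hr h1

theorem sc_mul (hP : PicF.IsInvertible (mod P)) (a b : Γ(P.base, ⊤)ˣ) : sc P a ≫ sc P b = sc P (a * b) := by
  have := fib_comp_isIso (sc P a) (sc P b)
  refine hom_ext (Category.id_comp (𝟙 P.base)) fun p => ?_
  obtain ⟨U, hU, e, he⟩ := InvX.exists_frame hP p
  refine ⟨U, U, le_rfl, e, resT ((a * b)⁻¹ : Γ(P.base, ⊤)ˣ) U • e, hU, he, ?_, ?_⟩
  · have h1 := rel_sc_self b e
    have h2 := rel_sc_self a (resT (b⁻¹ : Γ(P.base, ⊤)ˣ) U • e)
    rw [mul_inv_rev, Units.val_mul, resT, map_mul, mul_comm, mul_smul]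
    exact rel_comp h1 h2
  · exact rel_sc_self (a * b) e

theorem sc_one (hP : PicF.IsInvertible (mod P)) : sc P 1 = 𝟙 P := by
  refine hom_ext rfl fun p => ?_
  obtain ⟨U, hU, e, he⟩ := InvX.exists_frame hP p
  have h := rel_sc_self (1 : Γ(P.base, ⊤)ˣ) e
  rw [inv_one, Units.val_one, resT, map_one, one_smul] at h
  have h' : Rel (𝟙 P) (le_refl U) e (AModX.res (mod P) (le_refl U) e) := rel_id le_rfl e
  rw [AModX.res_self] at h'
  exact ⟨U, U, le_rfl, e, e, hU, he, h, h'⟩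

theorem sc_injective (hP : PicF.IsInvertible (mod P)) {a b : Γ(P.base, ⊤)ˣ} (h : sc P a = sc P b) : a = b := by
  refine Units.ext ?_
  refine eq_of_locally (M := Coh.structureModule P.base) _ _ fun p _ => ?_
  obtain ⟨U, hU, e, he⟩ := InvX.exists_frame hP p
  refine ⟨U, le_top, hU, ?_⟩
  have e' : fib (sc P a) = CurveEnd.smulMod (mod P) a ≫ (Scheme.Modules.pullbackId P.base).inv.app (mod P) := rfl
  have h' : CurveEnd.smulMod (mod P) a ≫ (Scheme.Modules.pullbackId P.base).inv.app (mod P) =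
      CurveEnd.smulMod (mod P) b ≫ (Scheme.Modules.pullbackId P.base).inv.app (mod P) :=
    eq_of_heq (Pseudofunctor.CoGrothendieck.Hom.mk.inj (show (⟨𝟙 P.base, _⟩ : P ⟶ P) = ⟨𝟙 P.base, _⟩ from h)).2
  have h2 : CurveEnd.smulMod (mod P) a = CurveEnd.smulMod (mod P) b :=
    (cancel_mono ((Scheme.Modules.pullbackId P.base).inv.app (mod P))).1 h'
  have h3 := congrArg (fun v => Scheme.Modules.Hom.app v U e) h2
  simp only [CurveEnd.smulMod_app] at h3
  rw [← AModX.res_self (M := mod P) e] at h3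
  exact he.coord_unique le_rfl h3

/-- An automorphism over the identity of an invertible module is a scalar. -/
theorem exists_sc (hP : PicF.IsInvertible (mod P)) (φ : P ⟶ P) [IsIso φ.fiber] (hφ : φ.base = 𝟙 P.base) :
    ∃ c, φ = sc P c := by
  obtain ⟨f, m⟩ := φ
  obtain rfl : f = 𝟙 P.base := hφ
  let v : mod P ⟶ mod P := (show mod P ⟶ _ from m) ≫ (Scheme.Modules.pullbackId P.base).hom.app (mod P)
  have : IsIso (show mod P ⟶ (Scheme.Modules.pullback (𝟙 P.base)).obj (mod P) from m) := ‹_›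
  have : IsIso v := by
    show IsIso (_ ≫ _)
    infer_instance
  obtain ⟨s, hs⟩ := H23.EndInv.exists_coeff hP v
  obtain ⟨t, ht⟩ := H23.EndInv.exists_coeff hP (inv v)
  have hu : s * t = 1 := by
    refine eq_of_locally (M := Coh.structureModule P.base) _ _ fun p _ => ?_
    obtain ⟨U, hU, e, he⟩ := InvX.exists_frame hP p
    refine ⟨U, le_top, hU, ?_⟩
    have h1 := congrArg (fun w => Scheme.Modules.Hom.app w U e) (IsIso.inv_hom_id v)
    change v.app U ((inv v).app U e) = e at h1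
    rw [ht, Scheme.Modules.Hom.app_smul, hs, ← mul_smul] at h1
    rw [← AModX.res_self (M := mod P) e] at h1
    have h2 := he.coord_unique le_rfl (h1.trans (one_smul Γ(P.base, U) _).symm)
    show resR le_top (s * t) = resR le_top 1
    rw [map_one, map_mul, mul_comm]
    exact h2
  let c : Γ(P.base, ⊤)ˣ := ⟨s, t, hu, by rw [mul_comm]; exact hu⟩
  refine ⟨c, ?_⟩
  have hv : v = CurveEnd.smulMod (mod P) c := by
    refine Scheme.Modules.hom_ext _ _ fun W => ?_
    ext l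
    exact hs W l
  show (⟨𝟙 P.base, m⟩ : P ⟶ P) = _
  unfold sc
  congr 1
  rw [← hv]
  symm
  refine (Category.assoc _ _ _).trans ?_
  refine (congrArg ((show mod P ⟶ _ from m) ≫ ·) ((Scheme.Modules.pullbackId P.base).hom_inv_id_app (mod P))).trans ?_
  exact Category.comp_id _

end Groth.Agent.ThetaG
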