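import Groth.Agent.ThetaG.Rep
import Mathlib.AlgebraicGeometry.Morphisms.FiniteType
import Mathlib.AlgebraicGeometry.Noetherian

/-!
The theta group scheme is of finite type.
-/

set_option autoImplicit false
set_option linter.style.haveILetI false
set_option backward.isDefEq.respectTransparency false
set_option backward.isDefEq.respectTransparency.types false
set_option maxHeartbeats 800000

universe u

open CategoryTheory CategoryTheory.Limits MonoidalCategory CartesianMonoidalCategory MonObj AlgebraicGeometry
  TopologicalSpace Opposite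
open scoped Groth.Agent.H23.PicMul

noncomputable section

namespace Groth.Agent.ThetaG

open ThetaGrp Groth.Agent.H23

variable {k : Type u} [Field k] {A : Over (Spec (CommRingCat.of k))} [GrpObj A]
  [IsProper A.hom] [GeometricallyIntegral A.hom] {L : A.left.Modules}

instance : IsAffine (unitsSch k).left := inferInstanceAs (IsAffine (Spec (CommRingCat.of (LaurentPolynomial k))))

instance : LocallyOfFiniteType (unitsSch k).hom := by
  show LocallyOfFiniteType (Spec.map _)
  rw [HasRingHomProperty.Spec_iff (P := @LocallyOfFiniteType)]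
  exact RingHom.finiteType_algebraMap.2 (inferInstance : Algebra.FiniteType k (LaurentPolynomial k))

/-- A representing scheme of the theta group is of finite type and quasi-compact. -/
theorem finiteType_thetaGrpSch (hL : PicF.IsInvertible L) {G : Over (Spec (CommRingCat.of k))} [GrpObj G]
    {u : thetaPts A L G} (hG : IsThetaGrpSch A L G u) : LocallyOfFiniteType G.hom ∧ IsNoetherian G.left := by
  obtain ⟨K, iK, hK⟩ := exists_KL (A := A) hL
  haveI := hK.closed
  haveI : Mono iK := (Over.forget _).mono_of_mono_map (inferInstanceAs (Mono iK.left))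
  haveI : IsProper K.hom := by rw [← Over.w iK]; infer_instance
  haveI : IsNoetherian K.left := by
    haveI : IsLocallyNoetherian K.left := LocallyOfFiniteType.isLocallyNoetherian K.hom
    haveI : CompactSpace K.left := QuasiCompact.compactSpace_of_compactSpace K.hom
    exact {}
  obtain ⟨x, hx⟩ := exists_overPt u
  obtain ⟨y, rfl⟩ := factors_of_overPt hL hK hx
  choose V hV β₀ hβ₀ using fun t : K.left => exists_local_lift hL hK (x := iK) ⟨𝟙 K, Category.id_comp _⟩ t
  let O : K.left → G.left.Opens := fun t => y.left ⁻¹ᵁ V t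
  have key : ∀ t, ∃ e : res G (O t) ⟶ res K (V t) ⊗ unitsSch k, IsIso e := fun t => by
    obtain ⟨a, ha, -⟩ := exists_chart_lift hL hK (hβ₀ t) hx
    have ha' : bc a (chartPt (V t) (β₀ t) hL) = bc (resι G (O t)) u :=
      eq_of_heq (Sigma.mk.inj ((totFun_map hL a _).symm.trans (ha.trans (totFun_map hL _ u)))).2
    obtain ⟨g, hg, -⟩ := hG.univ _ (chartPt (V t) (β₀ t) hL)
    rw [isBaseChange_iff] at hg
    have h0 := isOverPt_chartPt hL (hβ₀ t) (𝟙 (res K (V t) ⊗ unitsSch k))
    rw [bc_id hL, Category.id_comp] at h0
    have hgy := overPt_unique h0 (hg.symm ▸ isOverPt_bc g hx)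
    rw [← Category.assoc g, cancel_mono iK] at hgy
    have hr : Set.range g.left ⊆ Set.range (O t).ι := by
      rw [Scheme.Opens.range_ι]
      rintro _ ⟨z, rfl⟩
      show y.left (g.left z) ∈ V t
      have e3 := congrArg (fun f => f.left z) hgy
      change (V t).ι _ = y.left (g.left z) at e3
      rw [← e3]
      exact Subtype.prop _
    let g' : res K (V t) ⊗ unitsSch k ⟶ res G (O t) := Over.homMk (IsOpenImmersion.lift (O t).ι g.left hr)
      ((IsOpenImmersion.lift_fac_assoc (O t).ι g.left hr G.hom).trans (Over.w g))
    have hg' : g' ≫ resι G (O t) = g := Over.OverMorphism.ext (IsOpenImmersion.lift_fac _ _ _)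
    haveI : Mono (resι G (O t)) := (Over.forget _).mono_of_mono_map (inferInstanceAs (Mono (O t).ι))
    refine ⟨a, g', ?_, ?_⟩
    · rw [← cancel_mono (resι G (O t)), Category.assoc, hg', Category.id_comp]
      refine (hG.univ _ (bc (resι G (O t)) u)).unique (isBaseChange_iff.2 ?_) (isBaseChange_bc _ _)
      rw [bc_comp hL, ← hg, ha']
    · have e1 : bc (g' ≫ a) (chartPt (V t) (β₀ t) hL) = chartPt (V t) (β₀ t) hL := by
        rw [bc_comp hL, ha', ← bc_comp hL, hg', ← hg]
      obtain ⟨b, -, hb⟩ := existsUnique_chart hL hK (hβ₀ t) h0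
        (fst (res K (V t)) (unitsSch k)) rfl
      exact (hb _ e1).trans (hb _ (bc_id hL _)).symm
  choose e he using key
  have hcov : ∀ z : G.left, z ∈ O (y.left z) := fun z => hV (y.left z)
  have hW : ∀ t, LocallyOfFiniteType (res K (V t) ⊗ unitsSch k).hom := fun t => by
    haveI : LocallyOfFiniteType (res K (V t)).hom := inferInstanceAs (LocallyOfFiniteType ((V t).ι ≫ K.hom))
    exact inferInstanceAs (LocallyOfFiniteType (pullback.fst (res K (V t)).hom (unitsSch k).hom ≫ _))
  have hlft : LocallyOfFiniteType G.hom := by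
    rw [IsZariskiLocalAtSource.iff_of_iSup_eq_top (P := @LocallyOfFiniteType) O
      (eq_top_iff.2 fun z _ => Opens.mem_iSup.2 ⟨_, hcov z⟩)]
    intro t
    haveI := hW t
    haveI := he t
    haveI : IsIso (e t).left := inferInstanceAs (IsIso ((Over.forget _).map (e t)))
    have h1 : (O t).ι ≫ G.hom = (e t).left ≫ (res K (V t) ⊗ unitsSch k).hom := (Over.w (e t)).symm
    rw [h1]
    infer_instance
  refine ⟨hlft, ?_⟩
  haveI : IsLocallyNoetherian G.left := LocallyOfFiniteType.isLocallyNoetherian G.hom
  haveI : CompactSpace G.left := by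
    obtain ⟨s, hs⟩ := isCompact_univ.elim_finite_subcover (fun t => (V t : Set K.left)) (fun t => (V t).isOpen)
      (fun z _ => Set.mem_iUnion.2 ⟨z, hV z⟩)
    have hOc : ∀ t, IsCompact (O t : Set G.left) := fun t => by
      haveI : CompactSpace (res K (V t)).left :=
        isCompact_iff_compactSpace.1 (NoetherianSpace.isCompact (V t : Set K.left))
      haveI : QuasiCompact (unitsSch k).hom := inferInstanceAs (QuasiCompact (Spec.map _))
      haveI : CompactSpace (res K (V t) ⊗ unitsSch k).left :=
        QuasiCompact.compactSpace_of_compactSpace (pullback.fst (res K (V t)).hom (unitsSch k).hom)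
      haveI := he t
      haveI : IsIso (e t).left := inferInstanceAs (IsIso ((Over.forget _).map (e t)))
      haveI : CompactSpace (res G (O t)).left := (e t).left.homeomorph.symm.compactSpace
      exact isCompact_iff_compactSpace.2 (inferInstanceAs (CompactSpace (res G (O t)).left))
    refine ⟨(s.isCompact_biUnion fun t _ => hOc t).of_isClosed_subset isClosed_univ fun z _ => ?_⟩
    obtain ⟨t, ht, hzt⟩ := Set.mem_iUnion₂.1 (hs (Set.mem_univ (y.left z)))
    exact Set.mem_iUnion₂.2 ⟨t, ht, hzt⟩
  exact {}

end Groth.Agent.ThetaG
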