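import Groth.Agent.ThetaG.Pull
import Groth.Prelude.Def_AlgGrp
import Mathlib.AlgebraicGeometry.Morphisms.Immersion

/-!
The level subgroup attached to a descended module.
-/

set_option autoImplicit false
set_option linter.style.haveILetI false
set_option backward.isDefEq.respectTransparency false
set_option backward.isDefEq.respectTransparency.types false
set_option maxHeartbeats 400000

universe u

open CategoryTheory CategoryTheory.Limits MonoidalCategory CartesianMonoidalCategory MonObj AlgebraicGeometry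
open scoped Groth.Agent.H23.PicMul

noncomputable section

namespace Groth.Agent.ThetaG

open ThetaGrp

variable {k : Type u} [Field k] {A B : Over (Spec (CommRingCat.of k))} [GrpObj A] [GrpObj B]
  [IsProper A.hom] [GeometricallyIntegral A.hom] [IsProper B.hom] [GeometricallyIntegral B.hom]
  {f : A ⟶ B} [IsMonHom f] {N G T : Over (Spec (CommRingCat.of k))} [GrpObj N] {i : N ⟶ A} [IsMonHom i]
  [GrpObj G] {L : A.left.Modules} {u : thetaPts A L G}

omit [IsProper A.hom] [GeometricallyIntegral A.hom] [IsProper B.hom] [GeometricallyIntegral B.hom]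
  [IsMonHom f] [GrpObj N] [IsMonHom i] in
theorem comp_comp_kernel (hN : AlgGrp.IsKernel i f) (n : T ⟶ N) : n ≫ i ≫ f = 1 := by
  rw [hN.w, ← Category.assoc, Hom.one_def]
  congr 1
  exact toUnit_unique _ _

omit [GeometricallyIntegral A.hom] [IsProper A.hom] [GeometricallyIntegral B.hom]
  [IsMonHom f] [GrpObj N] [IsMonHom i] in
theorem isClosedImmersion_kernel (hN : AlgGrp.IsKernel i f) : IsClosedImmersion i.left := by
  haveI : IsSeparated B.hom := inferInstance
  haveI : IsClosedImmersion η[B].left := isClosedImmersion_of_comp_eq_id B.hom η[B].left (Over.w η[B])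
  exact MorphismProperty.of_isPullback (P := @IsClosedImmersion) (hN.map (Over.forget _)).flip ‹_›

variable [IsCommMonObj A]

/-- A descended module gives a level subgroup. -/
theorem exists_level (hN : AlgGrp.IsKernel i f) (hL : PicF.IsInvertible L) {M : B.left.Modules}
    (hM : PicF.IsInvertible M) (e : (Scheme.Modules.pullback f.left).obj M ≅ L)
    (hG : IsThetaGrpSch A L G u) :
    ∃ j : N ⟶ G, IsMonHom j ∧ IsLevelSubgrp u j ∧
      ∀ (T : Over (Spec (CommRingCat.of k))) (n : T ⟶ N) (β : thetaPts A L T),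
        ThetaGrp.IsBaseChange β (n ≫ j) u → IsOverPt β (n ≫ i) ∧ Above f e β 1 := by
  have hone : ∀ {T : Over (Spec (CommRingCat.of k))} (n : T ⟶ N),
      IsOverPt (1 : thetaPts B M T) ((n ≫ i) ≫ f) := fun n => by
    rw [Category.assoc, comp_comp_kernel hN]
    exact isOverPt_one
  obtain ⟨β₀, ⟨hβ₀, hA₀⟩, -⟩ := existsUnique_above (e := e) (1 : thetaPts B M N) i (by simpa using hone (𝟙 N))
  obtain ⟨j, hj, -⟩ := hG.univ N β₀
  rw [isBaseChange_iff] at hj
  have hover : ∀ (T : Over (Spec (CommRingCat.of k))) (n : T ⟶ N) (β : thetaPts A L T),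
      ThetaGrp.IsBaseChange β (n ≫ j) u → IsOverPt β (n ≫ i) ∧ Above f e β 1 := by
    intro T n β hβ
    rw [isBaseChange_iff] at hβ
    rw [hβ, bc_comp hL, ← hj]
    refine ⟨isOverPt_bc n hβ₀, ?_⟩
    rw [← bc_one n]
    exact hA₀.bc hM n
  have hmul : ∀ {T : Over (Spec (CommRingCat.of k))} (a b : T ⟶ N), (a * b) ≫ j = (a ≫ j) * (b ≫ j) := by
    intro T a b
    have ha := hover T a _ (isBaseChange_bc (a ≫ j) u)
    have hb := hover T b _ (isBaseChange_bc (b ≫ j) u)
    have hba := hover T (a * b) _ (isBaseChange_bc ((a * b) ≫ j) u)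
    refine ((hG.univ T (bc ((a * b) ≫ j) u)).unique (isBaseChange_bc _ u) ?_)
    have h := hG.mul T (a ≫ j) (b ≫ j) _ _ (isBaseChange_bc _ u) (isBaseChange_bc _ u)
    convert h using 1
    have h1 := ha.2.mul hb.2
    rw [_root_.mul_one] at h1
    refine (existsUnique_above (1 : thetaPts B M T) ((a * b) ≫ i) (hone _)).unique hba ⟨?_, h1⟩
    have := isOverPt_mul ha.1 hb.1
    rwa [mul_comm, ← MonObj.mul_comp] at this
  have hi : ∀ (T : Over (Spec (CommRingCat.of k))) (n : T ⟶ N), n ≫ i = 1 → n = 1 := fun T n hn => by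
    haveI : Mono i := by
      haveI := isClosedImmersion_kernel hN
      exact (Over.forget _).mono_of_mono_map (inferInstanceAs (Mono i.left))
    exact (cancel_mono i).1 (hn.trans (MonObj.one_comp i).symm)
  have hjm : IsMonHom j := by
    refine ⟨?_, ?_⟩
    · have h : ((1 : 𝟙_ (Over (Spec (CommRingCat.of k))) ⟶ N) ≫ j) = 1 := by
        have h' := hmul (1 : 𝟙_ (Over (Spec (CommRingCat.of k))) ⟶ N) 1
        rw [_root_.mul_one] at h'
        exact mul_eq_left.1 h'.symm
      have e1 : ∀ (X : Over (Spec (CommRingCat.of k))) [GrpObj X],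
          (1 : 𝟙_ (Over (Spec (CommRingCat.of k))) ⟶ X) = η[X] := fun X _ => by
        rw [Hom.one_def, toUnit_unique (toUnit _) (𝟙 _), Category.id_comp]
      rwa [e1, e1] at h
    · have h := hmul (fst N N) (snd N N)
      have h1 : fst N N * snd N N = μ[N] := by rw [Hom.mul_def, lift_fst_snd, Category.id_comp]
      have h2 : lift (fst N N ≫ j) (snd N N ≫ j) = j ⊗ₘ j := by
        apply CartesianMonoidalCategory.hom_ext <;> simp
      rwa [h1, Hom.mul_def, h2] at h
  obtain ⟨x, hx⟩ := exists_overPt u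
  have hji : j ≫ x = i := by
    have h := (hover N (𝟙 N) _ (isBaseChange_bc (𝟙 N ≫ j) u)).1
    rw [Category.id_comp, Category.id_comp] at h
    exact overPt_unique (isOverPt_bc j hx) h
  refine ⟨j, hjm, ⟨?_, hjm, fun T n β hβ h1 => hi T n (overPt_unique (hover T n β hβ).1 h1)⟩, hover⟩
  haveI := isClosedImmersion_kernel hN
  haveI : IsImmersion (j.left ≫ x.left) := by
    rw [← Over.comp_left, hji]; infer_instance
  exact IsImmersion.of_comp j.left x.left

end Groth.Agent.ThetaG
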