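import Groth.Agent.ThetaG.Local

/-!
Descended modules and inverse images of points of the theta group along homomorphisms.
-/

set_option autoImplicit false
set_option linter.style.haveILetI false
set_option backward.isDefEq.respectTransparency false
set_option backward.isDefEq.respectTransparency.types false
set_option maxHeartbeats 400000

universe u

open CategoryTheory CategoryTheory.Limits MonoidalCategory CartesianMonoidalCategory MonObj AlgebraicGeometry
  TopologicalSpace
open Pseudofunctor Bicategory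
open scoped Groth.Agent.H23.PicMul

noncomputable section

namespace Groth.Agent.ThetaG

open Groth.Agent.AModX Groth.Agent.InvX ThetaGrp

variable {S : Scheme.{u}} {A B : Over S} [GrpObj A] [GrpObj B] {M : B.left.Modules} {L : A.left.Modules}
  (f : A ⟶ B) (e : (Scheme.Modules.pullback f.left).obj M ≅ L) {T U : Over S}

variable (T) in
/-- The projection of `(A ×ₛ T, L_T)` onto `(B ×ₛ T, M_T)`. -/
def pr : thetaObj A L T ⟶ thetaObj B M T where
  base := (f ▷ T).left
  fiber := (Scheme.Modules.pullback (fst A T).left).map e.inv ≫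
    (Scheme.Modules.pullbackComp (fst A T).left f.left).hom.app M ≫
    (Scheme.Modules.pullbackCongr (show (fst A T).left ≫ f.left = (f ▷ T).left ≫ (fst B T).left by
      rw [← Over.comp_left, ← Over.comp_left, whiskerRight_fst])).hom.app M ≫
    (Scheme.Modules.pullbackComp (f ▷ T).left (fst B T).left).inv.app M

theorem isIso_pr_fiber (T : Over S) : IsIso (pr f e T).fiber := by
  show IsIso (_ ≫ _ ≫ _ ≫ _)
  infer_instance

omit [GrpObj A] [GrpObj B] in
theorem pullSec_factor' {X X' Y Y' : Scheme.{u}} (p : X ⟶ X') (f' : X' ⟶ Y) (q : X ⟶ Y') (g : Y' ⟶ Y)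
    (h : p ≫ f' = q ≫ g) (M : Y.Modules) (L : X'.Modules) (e : (Scheme.Modules.pullback f').obj M ≅ L)
    {V : Y.Opens} {V' : X'.Opens} {W : X.Opens} {W' : Y'.Opens} (hV' : V' ≤ f' ⁻¹ᵁ V) (hW : W ≤ p ⁻¹ᵁ V')
    (hW' : W' ≤ g ⁻¹ᵁ V) (hWW : W ≤ q ⁻¹ᵁ W') (l : Γ(M, V)) :
    ((Scheme.Modules.pullback p).map e.inv ≫ (Scheme.Modules.pullbackComp p f').hom.app M ≫
      (Scheme.Modules.pullbackCongr h).hom.app M ≫ (Scheme.Modules.pullbackComp q g).inv.app M).app W
        (QCoh.pullSec p L hW (e.hom.app V' (QCoh.pullSec f' M hV' l))) =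
      QCoh.pullSec q ((Scheme.Modules.pullback g).obj M) hWW (QCoh.pullSec g M hW' l) := by
  show ((Scheme.Modules.pullbackComp q g).inv.app M).app W (((Scheme.Modules.pullbackCongr h).hom.app M).app W
    (((Scheme.Modules.pullbackComp p f').hom.app M).app W (((Scheme.Modules.pullback p).map e.inv).app W
      (QCoh.pullSec p L hW (e.hom.app V' (QCoh.pullSec f' M hV' l)))))) = _
  rw [ExistEasy.pullSec_natural,
    show e.inv.app V' (e.hom.app V' (QCoh.pullSec f' M hV' l)) = QCoh.pullSec f' M hV' l from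
      congrArg (fun t => Scheme.Modules.Hom.app t V' _) e.hom_inv_id,
    ExistEasy.pullSec_comp, ExistEasy.pullSec_congr, ← ExistEasy.pullSec_comp q g M hW' hWW l]
  exact congrArg (fun t => Scheme.Modules.Hom.app t W _) ((Scheme.Modules.pullbackComp q g).hom_inv_id_app M)

theorem rel_pr (T : Over S) {V : B.left.Opens} {V' : A.left.Opens} {W : (A ⊗ T).left.Opens}
    {W' : (B ⊗ T).left.Opens} (hV' : V' ≤ f.left ⁻¹ᵁ V) (hW : W ≤ (fst A T).left ⁻¹ᵁ V')
    (hW' : W' ≤ (fst B T).left ⁻¹ᵁ V) (hWW : W ≤ (f ▷ T).left ⁻¹ᵁ W') (l : Γ(M, V)) :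
    Rel (pr f e T) hWW (QCoh.pullSec (fst B T).left M hW' l)
      (QCoh.pullSec (fst A T).left L hW (e.hom.app V' (QCoh.pullSec f.left M hV' l))) :=
  pullSec_factor' (fst A T).left f.left (f ▷ T).left (fst B T).left _ M L e hV' hW hW' hWW l

theorem isFrame_image {X : Scheme.{u}} {N N' : X.Modules} (e : N ≅ N') {V : X.Opens} {x : Γ(N, V)}
    (hx : IsFrame x) : IsFrame (e.hom.app V x) := fun W hW => by
  have hb : Function.Bijective (e.hom.app W) :=
    (ConcreteCategory.isIso_iff_bijective _).1 (Scheme.Modules.Hom.isIso_iff_isIso_app.1 inferInstance W)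
  have he : (fun r : Γ(X, W) => r • AModX.res _ hW (e.hom.app V x)) =
      (e.hom.app W) ∘ fun r => r • AModX.res _ hW x := by
    funext r
    show _ = e.hom.app W (r • _)
    rw [Scheme.Modules.Hom.app_smul, app_res]
  rw [he]
  exact hb.comp (hx W hW)

/-- The projections are natural in the parameter. -/
theorem bcLift_pr (hM : PicF.IsInvertible M) (g : T ⟶ U) :
    bcLift A L g ≫ pr f e U = pr f e T ≫ bcLift B M g := by
  haveI := isIso_pr_fiber f e U
  haveI := fib_comp_isIso (bcLift A L g) (pr f e U)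
  have hb : (A ◁ g).left ≫ (f ▷ U).left = (f ▷ T).left ≫ (B ◁ g).left := by
    rw [← Over.comp_left, ← Over.comp_left, MonoidalCategory.whisker_exchange]
  refine hom_ext hb fun p => ?_
  obtain ⟨V, hV, l, hl⟩ := InvX.exists_frame hM (f.left ((fst A T).left p))
  have e₁ : (fst A T).left ⁻¹ᵁ (f.left ⁻¹ᵁ V) ≤ (A ◁ g).left ⁻¹ᵁ ((fst A U).left ⁻¹ᵁ (f.left ⁻¹ᵁ V)) := by
    intro q hq
    show f.left (((A ◁ g).left ≫ (fst A U).left) q) ∈ V
    rw [← Over.comp_left, whiskerLeft_fst]
    exact hq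
  have e₂ : (fst A U).left ⁻¹ᵁ (f.left ⁻¹ᵁ V) ≤ (f ▷ U).left ⁻¹ᵁ ((fst B U).left ⁻¹ᵁ V) := by
    intro q hq
    show ((f ▷ U).left ≫ (fst B U).left) q ∈ V
    rw [← Over.comp_left, whiskerRight_fst]
    exact hq
  have e₃ : (fst A T).left ⁻¹ᵁ (f.left ⁻¹ᵁ V) ≤ (f ▷ T).left ⁻¹ᵁ ((fst B T).left ⁻¹ᵁ V) := by
    intro q hq
    show ((f ▷ T).left ≫ (fst B T).left) q ∈ V
    rw [← Over.comp_left, whiskerRight_fst]
    exact hq
  have e₄ : (fst B T).left ⁻¹ᵁ V ≤ (B ◁ g).left ⁻¹ᵁ ((fst B U).left ⁻¹ᵁ V) := by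
    intro q hq
    show ((B ◁ g).left ≫ (fst B U).left) q ∈ V
    rwa [← Over.comp_left, whiskerLeft_fst]
  exact ⟨_, (fst A T).left ⁻¹ᵁ (f.left ⁻¹ᵁ V), _, QCoh.pullSec (fst B U).left M le_rfl l,
    QCoh.pullSec (fst A T).left L le_rfl (e.hom.app _ (QCoh.pullSec f.left M le_rfl l)), hV, isFrame_pullSec _ _ hl,
    rel_comp (rel_pr f e U le_rfl le_rfl le_rfl e₂ l) (rel_bcLift g le_rfl le_rfl e₁ _),
    rel_comp (rel_bcLift g le_rfl le_rfl e₄ l) (rel_pr f e T le_rfl le_rfl le_rfl e₃ l)⟩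

variable [IsMonHom f]

theorem transl_whiskerRight (x : T ⟶ A) : transl A x ≫ f ▷ T = f ▷ T ≫ transl B (x ≫ f) := by
  apply CartesianMonoidalCategory.hom_ext
  · rw [Category.assoc, whiskerRight_fst, ← Category.assoc, transl_fst, MonObj.mul_comp, Category.assoc,
      Category.assoc, transl_fst, MonObj.comp_mul, whiskerRight_fst, whiskerRight_snd_assoc]
  · simp only [Category.assoc, whiskerRight_snd, transl_snd]

/-- A point of the theta group of `L` mapping to a point of that of `M`. -/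
def Above (α : thetaPts A L T) (β : thetaPts B M T) : Prop :=
  α.1.hom ≫ pr f e T = pr f e T ≫ β.1.hom

variable {f e}

theorem Above.one : Above f e (1 : thetaPts A L T) (1 : thetaPts B M T) := by
  show 𝟙 _ ≫ _ = _ ≫ 𝟙 _
  rw [Category.id_comp, Category.comp_id]

theorem Above.mul {α α' : thetaPts A L T} {β β' : thetaPts B M T} (h : Above f e α β) (h' : Above f e α' β') :
    Above f e (α * α') (β * β') := by
  show (α'.1.hom ≫ α.1.hom) ≫ _ = _ ≫ β'.1.hom ≫ β.1.hom
  unfold Above at h h'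
  rw [Category.assoc, h, ← Category.assoc, h', Category.assoc]

theorem Above.bc (hM : PicF.IsInvertible M) (g : T ⟶ U) {α : thetaPts A L U} {β : thetaPts B M U}
    (h : Above f e α β) : Above f e (bc g α) (bc g β) := by
  haveI := isIso_pr_fiber f e T
  have h1 := isBaseChange_bc g α
  have h2 := isBaseChange_bc g β
  unfold ThetaGrp.IsBaseChange at h1 h2
  unfold Above at h ⊢
  obtain ⟨x, hx⟩ := exists_overPt α
  obtain ⟨y, hy⟩ := exists_overPt β
  obtain ⟨ψ, -, huniq⟩ := existsUnique_lift (bcLift B M g) ((ThetaG.bc g α).1.hom ≫ pr f e T ≫ bcLift B M g)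
    ((ThetaG.bc g α).1.hom.base ≫ (f ▷ T).left) (Category.assoc _ _ _).symm
  have hb : ((ThetaG.bc g α).1.hom ≫ pr f e T).base = (pr f e T ≫ (ThetaG.bc g β).1.hom).base := by
    show (ThetaG.bc g α).1.hom.base ≫ (f ▷ T).left = (f ▷ T).left ≫ (ThetaG.bc g β).1.hom.base
    have hxy : (transl A x ≫ f ▷ U).left = (f ▷ U ≫ transl B y).left := by
      rw [Over.comp_left, Over.comp_left, ← hx, ← hy]
      exact congrArg Pseudofunctor.CoGrothendieck.Hom.base h
    rw [transl_whiskerRight] at hxy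
    have h3 := congrArg (fun m => lift (1 : U ⟶ A) (𝟙 U) ≫ m ≫ fst B U) (Over.OverMorphism.ext hxy)
    have hxy' : x ≫ f = y := by simpa [comp_mul, MonObj.one_comp] using h3
    rw [isOverPt_bc g hx, isOverPt_bc g hy, ← Over.comp_left, transl_whiskerRight, Over.comp_left, Category.assoc, hxy']
  refine (huniq _ ⟨rfl, Category.assoc _ _ _⟩).trans (huniq _ ⟨hb.symm, ?_⟩).symm
  rw [Category.assoc, h2, ← Category.assoc, ← bcLift_pr f e hM, Category.assoc, ← h, ← Category.assoc, ← h1,
    Category.assoc, bcLift_pr f e hM]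

/-- A point above `β` over a given translation. -/
theorem existsUnique_above (β : thetaPts B M T) (x : T ⟶ A) (hβ : IsOverPt β (x ≫ f)) :
    ∃! α : thetaPts A L T, IsOverPt α x ∧ Above f e α β := by
  haveI := isIso_pr_fiber f e T
  haveI : IsIso β.1.hom.fiber := isIso_fiber_of_iso β.1
  haveI := fib_comp_isIso (pr f e T) β.1.hom
  have hb : (pr f e T ≫ β.1.hom).base = (transl A x).left ≫ (pr f e T).base := by
    show (f ▷ T).left ≫ β.1.hom.base = (transl A x).left ≫ (f ▷ T).left
    rw [hβ, ← Over.comp_left, ← transl_whiskerRight, Over.comp_left]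
  obtain ⟨ψ, ⟨hψb, hψ⟩, huniq⟩ := existsUnique_lift (pr f e T) _ _ hb
  haveI : IsIso (ψ ≫ pr f e T).fiber := by rw [hψ]; infer_instance
  haveI := lift_fiber_isIso (pr f e T) ψ
  exact ⟨ofHom ψ x hψb, ⟨hψb, hψ⟩, fun α hα => ext_hom (huniq _ hα)⟩

section Field

variable {k : Type u} [Field k] {A B : Over (Spec (CommRingCat.of k))} [GrpObj A] [GrpObj B]
  [IsProper A.hom] [GeometricallyIntegral A.hom] [IsProper B.hom] [GeometricallyIntegral B.hom]
  {M : B.left.Modules} {L : A.left.Modules} {f : A ⟶ B}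
  {e : (Scheme.Modules.pullback f.left).obj M ≅ L} {T : Over (Spec (CommRingCat.of k))}

theorem above_scal (hL : PicF.IsInvertible L) (hM : PicF.IsInvertible M) (s : Γ(T.left, ⊤)ˣ) :
    Above f e (scal hL s : thetaPts A L T) (scal hM s : thetaPts B M T) := by
  haveI := isIso_pr_fiber f e T
  show _ ≫ pr f e T = pr f e T ≫ _
  rw [scal_hom, scal_hom, comp_sc (isInvertible_obj hM T)]
  congr 2
  refine Units.ext ?_
  show (snd A T).left.appTop (s : Γ(T.left, ⊤)) = (f ▷ T).left.appTop ((snd B T).left.appTop (s : Γ(T.left, ⊤)))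
  rw [← ConcreteCategory.comp_apply, ← Scheme.Hom.comp_appTop]
  exact congrArg (fun g : (A ⊗ T).left ⟶ T.left => g.appTop (s : Γ(T.left, ⊤)))
    (congrArg CommaMorphism.left (whiskerRight_snd f T).symm)

variable [IsMonHom f] [IsCommMonObj A] [IsCommMonObj B]

/-- The commutator of points above is the commutator. -/
theorem cm_above (hL : PicF.IsInvertible L) (hM : PicF.IsInvertible M) {α α' : thetaPts A L T}
    {β β' : thetaPts B M T} (h : Above f e α β) (h' : Above f e α' β') : cm hL α α' = cm hM β β' := by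
  refine cm_eq hL ?_
  obtain ⟨x, hx⟩ := exists_overPt α
  obtain ⟨x', hx'⟩ := exists_overPt α'
  have hab : Above f e (scal hL (cm hM β β') * (α' * α)) (β * β') := by
    rw [cm_spec hM β β']
    exact (above_scal hL hM _).mul (h'.mul h)
  obtain ⟨y, hy⟩ := exists_overPt (β * β')
  have h1 := isOverPt_mul hx hx'
  have hlift : IsOverPt (β * β') ((x' * x) ≫ f) := by
    have hb : (transl A (x' * x) ≫ f ▷ T).left = (f ▷ T ≫ transl B y).left := by
      rw [Over.comp_left, Over.comp_left, ← h1, ← hy]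
      exact congrArg Pseudofunctor.CoGrothendieck.Hom.base (h.mul h')
    rw [transl_whiskerRight] at hb
    have h3 := congrArg (fun m => lift (1 : T ⟶ A) (𝟙 T) ≫ m ≫ fst B T) (Over.OverMorphism.ext hb)
    have hxy : (x' * x) ≫ f = y := by simpa [comp_mul, MonObj.one_comp] using h3
    rw [hxy]
    exact hy
  refine (existsUnique_above (β * β') (x' * x) hlift).unique ⟨h1, h.mul h'⟩ ⟨?_, hab⟩
  have := isOverPt_mul (isOverPt_scal hL (cm hM β β')) (isOverPt_mul hx' hx)
  rwa [_root_.mul_one, mul_comm x x'] at this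

end Field

end Groth.Agent.ThetaG
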