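import Mathlib.RingTheory.Flat.Basic
import Mathlib.RingTheory.TensorProduct.Pi
import Mathlib.LinearAlgebra.TensorProduct.Pi
import Mathlib.RingTheory.Flat.Equalizer

/-!
Invariant elements for a cocycle of a finite flat family of algebras generate the unit ideal.
-/

set_option autoImplicit false

universe u

open TensorProduct

namespace Groth.Agent.ThetaG

variable {R : Type u} [CommRing R] {ι : Type u} [Finite ι] {S : ι → Type u} [∀ i, CommRing (S i)]
  [∀ i, Algebra R (S i)]

omit [Finite ι] in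
theorem piRight_lTensor {κ : Type u} [Fintype κ] [DecidableEq κ] {M : κ → Type u}
    [∀ a, AddCommGroup (M a)] [∀ a, Module R (M a)] {P : Type u} [AddCommGroup P] [Module R P]
    {Q : Type u} [AddCommGroup Q] [Module R Q] (F : Q →ₗ[R] ∀ a, M a) (t : P ⊗[R] Q) (a : κ) :
    TensorProduct.piRight R R P M (F.lTensor P t) a = ((LinearMap.proj a).comp F).lTensor P t := by
  induction t using TensorProduct.induction_on with
  | zero => simp
  | tmul p q => simp
  | add x y hx hy => rw [map_add, map_add, map_add, Pi.add_apply, hx, hy]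

/-- The elements invariant under a cocycle generate the unit ideal of each member. -/
theorem span_inv_eq_top (u : ∀ i j, S i ⊗[R] S j) (hflat : ∀ i, Module.Flat R (S i))
    (hcoc : ∀ l i j, Algebra.TensorProduct.map (AlgHom.id R (S l)) Algebra.TensorProduct.includeRight (u l j) =
      (1 : S l) ⊗ₜ[R] u i j *
        Algebra.TensorProduct.map (AlgHom.id R (S l)) Algebra.TensorProduct.includeLeft (u l i))
    (huu : ∀ i, Algebra.TensorProduct.lmul' R (u i i) = 1) (l : ι) :
    Ideal.span {x : S l | ∃ m : ∀ i, S i, (∀ i j, (1 : S i) ⊗ₜ[R] m j = u i j * (m i ⊗ₜ[R] (1 : S j))) ∧ m l = x} = ⊤ := by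
  classical
  haveI := Fintype.ofFinite ι
  let lhs : ∀ p : ι × ι, (∀ i, S i) →ₗ[R] S p.1 ⊗[R] S p.2 := fun p =>
    (Algebra.TensorProduct.includeRight : S p.2 →ₐ[R] S p.1 ⊗[R] S p.2).toLinearMap.comp (LinearMap.proj p.2)
  let rhs : ∀ p : ι × ι, (∀ i, S i) →ₗ[R] S p.1 ⊗[R] S p.2 := fun p =>
    (LinearMap.mulLeft R (u p.1 p.2)).comp
      ((Algebra.TensorProduct.includeLeft : S p.1 →ₐ[R] S p.1 ⊗[R] S p.2).toLinearMap.comp (LinearMap.proj p.1))
  let F : (∀ i, S i) →ₗ[R] ∀ p : ι × ι, S p.1 ⊗[R] S p.2 := LinearMap.pi fun p => lhs p - rhs p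
  let z : S l ⊗[R] (∀ i, S i) := (TensorProduct.piRight R R (S l) S).symm fun i => u l i
  have hz : ∀ i, (LinearMap.proj i : (∀ i, S i) →ₗ[R] S i).lTensor (S l) z = u l i := fun i => by
    have h := piRight_lTensor (R := R) (κ := ι) (M := S) (P := S l) (LinearMap.id : (∀ i, S i) →ₗ[R] ∀ i, S i) z i
    rw [LinearMap.lTensor_id, LinearMap.id_coe, id_eq, LinearEquiv.apply_symm_apply, LinearMap.comp_id] at h
    exact h.symm
  have hFz : F.lTensor (S l) z = 0 := by
    apply (TensorProduct.piRight R R (S l) fun p : ι × ι => S p.1 ⊗[R] S p.2).injective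
    ext p
    rw [map_zero, Pi.zero_apply, piRight_lTensor]
    have e1 : ∀ (i : ι) (φ : S i →ₐ[R] S p.1 ⊗[R] S p.2),
        (φ.toLinearMap.comp (LinearMap.proj i : (∀ i, S i) →ₗ[R] S i)).lTensor (S l) z =
          Algebra.TensorProduct.map (AlgHom.id R (S l)) φ (u l i) := fun i φ => by
      rw [LinearMap.lTensor_comp, LinearMap.comp_apply, hz]
      rfl
    have e2 : ∀ t : S l ⊗[R] (S p.1 ⊗[R] S p.2), (LinearMap.mulLeft R (u p.1 p.2)).lTensor (S l) t =
        (1 : S l) ⊗ₜ[R] u p.1 p.2 * t := fun t => by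
      induction t using TensorProduct.induction_on with
      | zero => simp
      | tmul a b => simp [Algebra.TensorProduct.tmul_mul_tmul]
      | add x y hx hy => rw [map_add, hx, hy, mul_add]
    rw [show (LinearMap.proj p).comp F = lhs p - rhs p from LinearMap.proj_pi _ p, LinearMap.lTensor_sub,
      LinearMap.sub_apply, e1, LinearMap.lTensor_comp, LinearMap.comp_apply, e1, e2, ← hcoc, sub_self]
  haveI := hflat l
  have hex : Function.Exact ((LinearMap.ker F).subtype.lTensor (S l)) (F.lTensor (S l)) :=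
    Module.Flat.lTensor_exact (S l) (LinearMap.exact_subtype_ker_map F)
  obtain ⟨t, ht⟩ := (hex z).1 hFz
  let I := Ideal.span {x : S l |
    ∃ m : ∀ i, S i, (∀ i j, (1 : S i) ⊗ₜ[R] m j = u i j * (m i ⊗ₜ[R] (1 : S j))) ∧ m l = x}
  have key : ∀ t : S l ⊗[R] LinearMap.ker F, Algebra.TensorProduct.lmul' R
      (((LinearMap.proj l).comp (LinearMap.ker F).subtype).lTensor (S l) t) ∈ I := fun t => by
    induction t using TensorProduct.induction_on with
    | zero => simp
    | tmul a m =>
      rw [LinearMap.lTensor_tmul, Algebra.TensorProduct.lmul'_apply_tmul]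
      refine Ideal.mul_mem_left _ _ (Ideal.subset_span ⟨(m : ∀ i, S i), fun i j => ?_, rfl⟩)
      have h := congrFun (LinearMap.mem_ker.1 m.2) (i, j)
      exact sub_eq_zero.1 h
    | add x y hx hy => rw [map_add, map_add]; exact I.add_mem hx hy
  refine (Ideal.eq_top_iff_one _).2 ?_
  have h := key t
  rwa [LinearMap.lTensor_comp, LinearMap.comp_apply, ht, hz, huu] at h

end Groth.Agent.ThetaG
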