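import Groth.Agent.ThetaG.Rel

/-!
Sections of inverse images along open immersions.
-/

set_option autoImplicit false
set_option backward.isDefEq.respectTransparency false
set_option backward.isDefEq.respectTransparency.types false

universe u

open CategoryTheory CategoryTheory.Limits AlgebraicGeometry TopologicalSpace Opposite

noncomputable section

namespace Groth.Agent.ThetaG

open Groth.Agent.AModX Groth.Agent.InvX

variable {X Y : Scheme.{u}} (q : Y ⟶ X) {N : X.Modules}

/-- Restriction commutes with inverse image of sections. -/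
theorem pullSec_res_left {W' W : X.Opens} (h : W' ≤ W) (x : Γ(N, W)) :
    AModX.res _ ((Opens.map q.base).monotone h) (QCoh.pullSec q N (le_refl (q ⁻¹ᵁ W)) x) =
      QCoh.pullSec q N (le_refl (q ⁻¹ᵁ W')) (AModX.res N h x) :=
  ExistEasy.pullSec_res q N h ((Opens.map q.base).monotone h) le_rfl le_rfl x

/-- A local coordinate description of pulled back sections. -/
theorem bijective_pullSec_frame [IsOpenImmersion q] {W : X.Opens} (hW : W ≤ q.opensRange) {e : Γ(N, W)}
    (he : IsFrame e) : Function.Bijective (QCoh.pullSec q N (le_refl (q ⁻¹ᵁ W))) := by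
  have hf := isFrame_pullSec q (le_refl (q ⁻¹ᵁ W)) he
  have ha : Function.Bijective (q.appLE W (q ⁻¹ᵁ W) le_rfl) := by
    rw [← Scheme.Hom.app_eq_appLE]
    haveI := q.isIso_app W hW
    exact ConcreteCategory.bijective_of_isIso _
  have hc : Function.Bijective fun r : Γ(X, W) => r • e := by
    have := he W le_rfl
    simpa only [AModX.res_self] using this
  have hc' : Function.Bijective fun r : Γ(Y, q ⁻¹ᵁ W) => r • QCoh.pullSec q N (le_refl (q ⁻¹ᵁ W)) e := by
    have := hf (q ⁻¹ᵁ W) le_rfl
    simpa only [AModX.res_self] using this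
  refine (Function.Bijective.of_comp_iff _ hc).1 ?_
  have he2 : (QCoh.pullSec q N (le_refl (q ⁻¹ᵁ W))) ∘ (fun r : Γ(X, W) => r • e) =
      (fun r : Γ(Y, q ⁻¹ᵁ W) => r • QCoh.pullSec q N (le_refl (q ⁻¹ᵁ W)) e) ∘ q.appLE W (q ⁻¹ᵁ W) le_rfl :=
    funext fun r => QCoh.pullSec_smul q N le_rfl r e
  rw [he2]
  exact hc'.comp ha

/-- Sections of an invertible module over an open in the image of an open immersion. -/
theorem bijective_pullSec [IsOpenImmersion q] (hN : PicF.IsInvertible N) {W : X.Opens} (hW : W ≤ q.opensRange) :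
    Function.Bijective (QCoh.pullSec q N (le_refl (q ⁻¹ᵁ W))) := by
  choose U hU e he using fun p : X => InvX.exists_frame hN p
  have hb : ∀ (V : X.Opens) (hV : V ≤ W) (p : X), V ≤ U p →
      Function.Bijective (QCoh.pullSec q N (le_refl (q ⁻¹ᵁ V))) := fun V hV p hVU =>
    bijective_pullSec_frame q (hV.trans hW) ((he p).res hVU)
  have hinj : ∀ (V : X.Opens), V ≤ W → Function.Injective (QCoh.pullSec q N (le_refl (q ⁻¹ᵁ V))) := by
    intro V hV a b hab
    refine eq_of_locally _ _ fun p hp => ⟨V ⊓ U p, inf_le_left, ⟨hp, hU p⟩, ?_⟩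
    refine (hb _ (inf_le_left.trans hV) p inf_le_right).1 ?_
    rw [← pullSec_res_left, ← pullSec_res_left, hab]
  refine ⟨hinj W le_rfl, fun z => ?_⟩
  choose y hy using fun p : X => (hb (W ⊓ U p) inf_le_left p inf_le_right).2
    (AModX.res _ ((Opens.map q.base).monotone inf_le_left) z)
  obtain ⟨s, hs, -⟩ := existsUnique_glue (M := N) (V := W) (fun p => W ⊓ U p) (fun _ => inf_le_left)
    (fun p hp => ⟨p, hp, hU p⟩) y fun p p' => by
      refine hinj _ (inf_le_left.trans inf_le_left) ?_
      rw [← pullSec_res_left, ← pullSec_res_left, hy, hy, res_res, res_res]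
  refine ⟨s, eq_of_locally _ _ fun w hw => ?_⟩
  refine ⟨q ⁻¹ᵁ (W ⊓ U (q w)), (Opens.map q.base).monotone inf_le_left, ⟨hw, hU _⟩, ?_⟩
  rw [pullSec_res_left q (inf_le_left : W ⊓ U (q w) ≤ W) s, hs, hy]

end Groth.Agent.ThetaG
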