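import Groth.Agent.ThetaG.EffAlg
import Groth.Agent.ThetaG.Desc
import Groth.Agent.ThetaG.Open
import Groth.Agent.LogModGeo.Basic

/-!
Invariant frames for descent data of invertible modules along flat quasi-compact open morphisms.
-/

set_option autoImplicit false
set_option linter.style.haveILetI false
set_option backward.isDefEq.respectTransparency false
set_option backward.isDefEq.respectTransparency.types false
set_option maxHeartbeats 1600000

universe u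

open CategoryTheory CategoryTheory.Limits AlgebraicGeometry TopologicalSpace Opposite
open Pseudofunctor Bicategory TensorProduct

noncomputable section

namespace Groth.Agent.ThetaG

open Groth.Agent.AModX Groth.Agent.InvX ThetaGrp

variable {Y : Scheme.{u}} {O P : Pseudofunctor.CoGrothendieck modPF.{u}}

/-- The section has the same inverse images along the two morphisms. -/
def Inv (a b : O ⟶ P) {D : P.base.Opens} (x : Γ(mod P, D)) : Prop :=
  ∀ (W : O.base.Opens) (ha : W ≤ a.base ⁻¹ᵁ D) (hb : W ≤ b.base ⁻¹ᵁ D) (d : Γ(mod O, W)),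
    Rel a ha x d → Rel b hb x d

theorem appLE_appLE {X₁ X₂ X₃ : Scheme.{u}} (g : X₁ ⟶ X₂) (f : X₂ ⟶ X₃) {U : X₃.Opens} {V : X₂.Opens}
    {W : X₁.Opens} (h₁ : V ≤ f ⁻¹ᵁ U) (h₂ : W ≤ g ⁻¹ᵁ V) (h₃ : W ≤ (g ≫ f) ⁻¹ᵁ U) (s : Γ(X₃, U)) :
    g.appLE V W h₂ (f.appLE U V h₁ s) = (g ≫ f).appLE U W h₃ s := by
  rw [← Scheme.Hom.appLE_comp_appLE g f U V W h₁ h₂]
  rfl

theorem appLE_of_eq {X₁ X₂ : Scheme.{u}} {f g : X₁ ⟶ X₂} (h : f = g) {U : X₂.Opens} {W : X₁.Opens}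
    (h₁ : W ≤ f ⁻¹ᵁ U) (h₂ : W ≤ g ⁻¹ᵁ U) (s : Γ(X₂, U)) : f.appLE U W h₁ s = g.appLE U W h₂ s := by
  subst h; rfl

/-- The ring map of an affine point. -/
theorem exists_point {X : Scheme.{u}} {W : X.Opens} (hW : IsAffineOpen W) {B : CommRingCat.{u}} (σ : Γ(X, W) ⟶ B) :
    ∃ h : (⊤ : (Spec B).Opens) ≤ (Spec.map σ ≫ hW.fromSpec) ⁻¹ᵁ W,
      ∀ s, (Spec.map σ ≫ hW.fromSpec).appLE W ⊤ h s = (Scheme.ΓSpecIso B).inv (σ s) := by
  have h : (⊤ : (Spec B).Opens) ≤ (Spec.map σ ≫ hW.fromSpec) ⁻¹ᵁ W := by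
    show ⊤ ≤ (Spec.map σ) ⁻¹ᵁ (hW.fromSpec ⁻¹ᵁ W)
    rw [hW.fromSpec_preimage_self]
    exact le_rfl
  refine ⟨h, fun s => ?_⟩
  have e1 : hW.fromSpec.appLE W ⊤ (by rw [hW.fromSpec_preimage_self]) = (Scheme.ΓSpecIso Γ(X, W)).inv := by
    rw [Scheme.Hom.appLE, hW.fromSpec_app_self, Category.assoc, ← Functor.map_comp]
    conv_rhs => rw [← Category.comp_id (Scheme.ΓSpecIso Γ(X, W)).inv, ← (Spec Γ(X, W)).presheaf.map_id]
    congr 2
  rw [← appLE_appLE (Spec.map σ) hW.fromSpec (V := ⊤) (by rw [hW.fromSpec_preimage_self]) le_top h s, e1,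
    ← ConcreteCategory.comp_apply, ← ConcreteCategory.comp_apply]
  refine ConcreteCategory.congr_hom ?_ s
  rw [Scheme.Hom.appLE, ← Scheme.Hom.appTop]
  have : (Spec B).presheaf.map (homOfLE (le_top : (⊤ : (Spec B).Opens) ≤ ⊤)).op = 𝟙 _ :=
    (congrArg _ (Subsingleton.elim _ (𝟙 _))).trans ((Spec B).presheaf.map_id _)
  erw [this, Category.comp_id]
  exact (Scheme.ΓSpecIso_inv_naturality σ).symm

variable (q : P.base ⟶ Y) (a b : O ⟶ P) [IsIso a.fiber] [IsIso b.fiber]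

/-- Coordinates of the two images of frames are natural. -/
theorem coord_pull {W₁ W₂ : P.base.Opens} {e₁ : Γ(mod P, W₁)} {e₂ : Γ(mod P, W₂)}
    {U : O.base.Opens} (hU₁ : U ≤ a.base ⁻¹ᵁ W₁) (hU₂ : U ≤ b.base ⁻¹ᵁ W₂) {d₁ d₂ : Γ(mod O, U)}
    (hd₁ : Rel a hU₁ e₁ d₁) (hd₂ : Rel b hU₂ e₂ d₂) {w : Γ(O.base, U)} (hw : d₁ = w • d₂)
    {R : Pseudofunctor.CoGrothendieck modPF.{u}} (g : R ⟶ O) [IsIso g.fiber] (c₁ c₂ : R ⟶ P)
    [IsIso c₁.fiber] [IsIso c₂.fiber] (h₁ : g ≫ a = c₁) (h₂ : g ≫ b = c₂) {U' : R.base.Opens}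
    (hg : U' ≤ g.base ⁻¹ᵁ U) (hc₁ : U' ≤ c₁.base ⁻¹ᵁ W₁) (hc₂ : U' ≤ c₂.base ⁻¹ᵁ W₂)
    {f₁ f₂ : Γ(mod R, U')} (hf₁ : Rel c₁ hc₁ e₁ f₁) (hf₂ : Rel c₂ hc₂ e₂ f₂) :
    f₁ = g.base.appLE U U' hg w • f₂ := by
  obtain ⟨t, ht, -⟩ := exists_rel g hg d₂
  have hs := rel_smul g w ht
  rw [← hw] at hs
  rw [(exists_rel c₁ hc₁ e₁).unique hf₁ (rel_congr h₁ (rel_comp hd₁ hs)),
    (exists_rel c₂ hc₂ e₂).unique hf₂ (rel_congr h₂ (rel_comp hd₂ ht))]

variable (H : IsPullback a.base b.base q q)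
  (hdiag : ∀ (R : Pseudofunctor.CoGrothendieck modPF.{u}) (c : R ⟶ O), IsIso c.fiber →
    (c ≫ a).base = (c ≫ b).base → c ≫ a = c ≫ b)
  (htrans : ∀ (R : Pseudofunctor.CoGrothendieck modPF.{u}) (z₁ z₂ z₃ : R ⟶ O), IsIso z₁.fiber → IsIso z₂.fiber →
    IsIso z₃.fiber → z₁ ≫ b = z₂ ≫ a → z₁ ≫ a = z₃ ≫ a → (z₂ ≫ b).base = (z₃ ≫ b).base → z₂ ≫ b = z₃ ≫ b)

include H hdiag htrans in
theorem exists_inv_frames [Flat q] [QuasiCompact q] [UniversallyOpen q] [Surjective q]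
    (hP : PicF.IsInvertible (mod P)) (y : Y) :
    ∃ (U : Y.Opens) (x : Γ(mod P, q ⁻¹ᵁ U)), y ∈ U ∧ IsFrame x ∧ Inv a b x := by
  classical
  obtain ⟨x₀, rfl⟩ := q.surjective y
  obtain ⟨_, ⟨V, hV, rfl⟩, hxV, -⟩ := Y.isBasis_affineOpens.exists_subset_of_mem_open (Set.mem_univ (q x₀)) isOpen_univ
  have hloc : ∀ p : (q ⁻¹ᵁ V : P.base.Opens), ∃ W : P.base.Opens, p.1 ∈ W ∧ IsAffineOpen W ∧ W ≤ q ⁻¹ᵁ V ∧
      ∃ e : Γ(mod P, W), IsFrame e := fun p => by
    obtain ⟨U, hU, e, he⟩ := InvX.exists_frame hP p.1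
    obtain ⟨_, ⟨W, hW, rfl⟩, hpW, hWU⟩ :=
      P.base.isBasis_affineOpens.exists_subset_of_mem_open (show p.1 ∈ U ⊓ q ⁻¹ᵁ V from ⟨hU, p.2⟩) (U ⊓ q ⁻¹ᵁ V).2
    exact ⟨W, hpW, hW, fun z hz => (hWU hz).2, _, he.res (fun z hz => (hWU hz).1)⟩
  choose W hpW hWaff hWV e he using hloc
  obtain ⟨T, hT⟩ := (q.isCompact_preimage hV.isCompact).elim_finite_subcover (fun p => (W p : Set P.base))
    (fun p => (W p).2) (fun p hp => Set.mem_iUnion.2 ⟨⟨p, hp⟩, hpW ⟨p, hp⟩⟩)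
  let R₀ := Γ(Y, V)
  let S : T → Type u := fun i => Γ(P.base, W i.1)
  letI : ∀ i, Algebra R₀ (S i) := fun i => (q.appLE V (W i.1) (hWV _)).hom.toAlgebra
  haveI hflat : ∀ i, Module.Flat R₀ (S i) := fun i => by
    show (q.appLE V (W i.1) (hWV _)).hom.Flat
    exact HasRingHomProperty.appLE @Flat q ‹_› ⟨V, hV⟩ ⟨W i.1, hWaff _⟩ (hWV _)
  -- the coordinates of the frames
  let WW : T → T → O.base.Opens := fun i j => a.base ⁻¹ᵁ W i.1 ⊓ b.base ⁻¹ᵁ W j.1
  choose dA hdA _hA using fun i j : T => exists_rel a (inf_le_left : WW i j ≤ a.base ⁻¹ᵁ W i.1) (e i.1)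
  choose dB hdB _hB using fun i j : T => exists_rel b (inf_le_right : WW i j ≤ b.base ⁻¹ᵁ W j.1) (e j.1)
  choose w hw using fun i j : T => isUnit_coord (rel_isFrame (hdA i j) (he _)) (rel_isFrame (hdB i j) (he _))
  have hep : ∀ i j : T, ∃ eps : S i ⊗[R₀] S j ≃+* Γ(O.base, WW i j), ∀ (s : S i) (t : S j),
      eps (s ⊗ₜ[R₀] t) = a.base.appLE (W i.1) (WW i j) inf_le_left s * b.base.appLE (W j.1) (WW i j) inf_le_right t := by
    intro i j
    have hpo : IsPushout (q.appLE V (W i.1) (hWV _)) (q.appLE V (W j.1) (hWV _))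
        (a.base.appLE (W i.1) (WW i j) inf_le_left) (b.base.appLE (W j.1) (WW i j) inf_le_right) :=
      (isIso_pushoutSection_iff H (hWV _) (hWV _) rfl).1
        (isIso_pushoutSection_of_isAffineOpen H (hWV _) (hWV _) rfl hV (hWaff _) (hWaff _))
    let T₂ := Γ(O.base, WW i j)
    letI : Algebra (S i) T₂ := (a.base.appLE (W i.1) (WW i j) inf_le_left).hom.toAlgebra
    letI : Algebra (S j) T₂ := (b.base.appLE (W j.1) (WW i j) inf_le_right).hom.toAlgebra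
    letI : Algebra R₀ T₂ := ((algebraMap (S i) T₂).comp (algebraMap R₀ (S i))).toAlgebra
    haveI : IsScalarTower R₀ (S i) T₂ := IsScalarTower.of_algebraMap_eq' rfl
    haveI : IsScalarTower R₀ (S j) T₂ := IsScalarTower.of_algebraMap_eq' (congrArg CommRingCat.Hom.hom hpo.w)
    haveI : Algebra.IsPushout R₀ (S i) (S j) T₂ := CommRingCat.isPushout_iff_isPushout.1 hpo
    exact ⟨(Algebra.IsPushout.equiv R₀ (S i) (S j) T₂).toRingEquiv,
      fun s t => Algebra.IsPushout.equiv_tmul R₀ (S i) (S j) T₂ s t⟩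
  choose eps hep using hep
  let u : ∀ i j : T, S i ⊗[R₀] S j := fun i j => (eps i j).symm (w i j : Γ(O.base, WW i j))
  have hepu : ∀ i j, eps i j (u i j) = (w i j : Γ(O.base, WW i j)) := fun i j => RingEquiv.apply_symm_apply _ _
  -- the value of a tensor at a point
  have heval : ∀ (i j : T) {B : CommRingCat.{u}} (g : Spec B ⟶ O.base) (hg : (⊤ : (Spec B).Opens) ≤ g ⁻¹ᵁ WW i j)
      (h₁ : (⊤ : (Spec B).Opens) ≤ (g ≫ a.base) ⁻¹ᵁ W i.1) (h₂ : (⊤ : (Spec B).Opens) ≤ (g ≫ b.base) ⁻¹ᵁ W j.1)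
      (s : S i) (t : S j), g.appLE (WW i j) ⊤ hg (eps i j (s ⊗ₜ[R₀] t)) =
        (g ≫ a.base).appLE (W i.1) ⊤ h₁ s * (g ≫ b.base).appLE (W j.1) ⊤ h₂ t := by
    intro i j B g hg h₁ h₂ s t
    rw [hep, map_mul, appLE_appLE g a.base _ hg h₁, appLE_appLE g b.base _ hg h₂]
  have hunit : ∀ i, Algebra.TensorProduct.lmul' R₀ (u i i) = 1 := by
    intro i
    obtain ⟨hc, hcs⟩ := exists_point (hWaff i.1) (𝟙 (CommRingCat.of (S i)))
    set c : Spec (CommRingCat.of (S i)) ⟶ P.base := Spec.map (𝟙 (CommRingCat.of (S i))) ≫ (hWaff i.1).fromSpec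
    let z : Spec (CommRingCat.of (S i)) ⟶ O.base := H.lift c c rfl
    have hza : z ≫ a.base = c := H.lift_fst _ _ _
    have hzb : z ≫ b.base = c := H.lift_snd _ _ _
    let R' : Pseudofunctor.CoGrothendieck modPF.{u} := ⟨_, (Scheme.Modules.pullback c).obj (mod P)⟩
    let c' : R' ⟶ P := ⟨c, 𝟙 _⟩
    haveI : IsIso c'.fiber := inferInstanceAs (IsIso (𝟙 ((Scheme.Modules.pullback c).obj (mod P))))
    obtain ⟨z', ⟨hz', hz'a⟩, -⟩ := existsUnique_lift a c' z hza.symm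
    haveI : IsIso (z' ≫ a).fiber := by rw [hz'a]; infer_instance
    haveI := lift_fiber_isIso a z'
    have hz'b : z' ≫ b = c' := by
      rw [← hdiag R' z' inferInstance (by show z'.base ≫ _ = z'.base ≫ _; rw [hz', hza, hzb]), hz'a]
    obtain ⟨f, hf, -⟩ := exists_rel c' hc (e i.1)
    have za : z'.base ≫ a.base = c := by rw [hz', hza]
    have zb : z'.base ≫ b.base = c := by rw [hz', hzb]
    have hc1 : (⊤ : (Spec (CommRingCat.of (S i))).Opens) ≤ (z'.base ≫ a.base) ⁻¹ᵁ W i.1 := by rw [za]; exact hc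
    have hc2 : (⊤ : (Spec (CommRingCat.of (S i))).Opens) ≤ (z'.base ≫ b.base) ⁻¹ᵁ W i.1 := by rw [zb]; exact hc
    have hzW : (⊤ : (Spec (CommRingCat.of (S i))).Opens) ≤ z'.base ⁻¹ᵁ WW i i := fun p hp => ⟨hc1 hp, hc2 hp⟩
    have h1 := coord_pull a b _ _ (hdA i i) (hdB i i) (hw i i) z' c' c' hz'a hz'b hzW hc hc hf hf
    have h2 : z'.base.appLE (WW i i) ⊤ hzW (w i i : Γ(O.base, WW i i)) = 1 :=
      (rel_isFrame hf (he _)).coord_unique le_rfl (by rw [AModX.res_self, ← h1, one_smul])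
    have h3 : ∀ t : S i ⊗[R₀] S i, z'.base.appLE (WW i i) ⊤ hzW (eps i i t) =
        (Scheme.ΓSpecIso (CommRingCat.of (S i))).inv (Algebra.TensorProduct.lmul' R₀ t) := fun t => by
      induction t using TensorProduct.induction_on with
      | zero => simp
      | tmul s t =>
        refine (heval i i z'.base hzW hc1 hc2 s t).trans ((congrArg₂ (· * ·) ((appLE_of_eq za hc1 hc s).trans (hcs s))
          ((appLE_of_eq zb hc2 hc t).trans (hcs t))).trans ?_)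
        rw [Algebra.TensorProduct.lmul'_apply_tmul]
        exact (map_mul _ _ _).symm
      | add x y hx hy => rw [map_add, map_add, hx, hy, map_add, map_add]
    refine (ConcreteCategory.bijective_of_isIso (Scheme.ΓSpecIso (CommRingCat.of (S i))).inv).1 ?_
    rw [← h3, hepu, h2, map_one]
  have hcoc : ∀ l i j, Algebra.TensorProduct.map (AlgHom.id R₀ (S l)) Algebra.TensorProduct.includeRight (u l j) =
      (1 : S l) ⊗ₜ[R₀] u i j *
        Algebra.TensorProduct.map (AlgHom.id R₀ (S l)) Algebra.TensorProduct.includeLeft (u l i) := by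
    intro l i j
    let B := CommRingCat.of (S l ⊗[R₀] (S i ⊗[R₀] S j))
    let σl : CommRingCat.of (S l) ⟶ B :=
      CommRingCat.ofHom (Algebra.TensorProduct.includeLeft : S l →ₐ[R₀] S l ⊗[R₀] (S i ⊗[R₀] S j)).toRingHom
    let σi : CommRingCat.of (S i) ⟶ B :=
      CommRingCat.ofHom ((Algebra.TensorProduct.includeRight : S i ⊗[R₀] S j →ₐ[R₀] S l ⊗[R₀] (S i ⊗[R₀] S j)).comp
        (Algebra.TensorProduct.includeLeft : S i →ₐ[R₀] S i ⊗[R₀] S j)).toRingHom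
    let σj : CommRingCat.of (S j) ⟶ B :=
      CommRingCat.ofHom ((Algebra.TensorProduct.includeRight : S i ⊗[R₀] S j →ₐ[R₀] S l ⊗[R₀] (S i ⊗[R₀] S j)).comp
        (Algebra.TensorProduct.includeRight : S j →ₐ[R₀] S i ⊗[R₀] S j)).toRingHom
    have halg : ∀ (m : T) (σ : CommRingCat.of (S m) ⟶ B) (hσ : ∀ r, σ (algebraMap R₀ (S m) r) = algebraMap R₀ _ r),
        (Spec.map σ ≫ (hWaff m.1).fromSpec) ≫ q =
          Spec.map (CommRingCat.ofHom (algebraMap R₀ (S l ⊗[R₀] (S i ⊗[R₀] S j)))) ≫ hV.fromSpec := by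
      intro m σ hσ
      rw [Category.assoc, ← IsAffineOpen.SpecMap_appLE_fromSpec q hV (hWaff m.1) (hWV _), ← Category.assoc,
        ← Spec.map_comp]
      congr 2
      ext r
      exact hσ r
    obtain ⟨hcl, hcls⟩ := exists_point (hWaff l.1) σl
    obtain ⟨hci, hcis⟩ := exists_point (hWaff i.1) σi
    obtain ⟨hcj, hcjs⟩ := exists_point (hWaff j.1) σj
    set cl : Spec B ⟶ P.base := Spec.map σl ≫ (hWaff l.1).fromSpec
    set ci : Spec B ⟶ P.base := Spec.map σi ≫ (hWaff i.1).fromSpec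
    set cj : Spec B ⟶ P.base := Spec.map σj ≫ (hWaff j.1).fromSpec
    have ql := halg l σl fun r => (Algebra.TensorProduct.includeLeft : S l →ₐ[R₀] S l ⊗[R₀] (S i ⊗[R₀] S j)).commutes r
    have qi := halg i σi fun r => AlgHom.commutes _ r
    have qj := halg j σj fun r => AlgHom.commutes _ r
    let R' : Pseudofunctor.CoGrothendieck modPF.{u} := ⟨Spec B, (Scheme.Modules.pullback cl).obj (mod P)⟩
    let cl' : R' ⟶ P := ⟨cl, 𝟙 _⟩
    haveI : IsIso cl'.fiber := inferInstanceAs (IsIso (𝟙 ((Scheme.Modules.pullback cl).obj (mod P))))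
    let z12 : Spec B ⟶ O.base := H.lift cl ci (ql.trans qi.symm)
    let z23 : Spec B ⟶ O.base := H.lift ci cj (qi.trans qj.symm)
    let z13 : Spec B ⟶ O.base := H.lift cl cj (ql.trans qj.symm)
    obtain ⟨g12, ⟨hg12, hg12a⟩, -⟩ := existsUnique_lift a cl' z12 (H.lift_fst _ _ _).symm
    haveI : IsIso (g12 ≫ a).fiber := by rw [hg12a]; infer_instance
    haveI := lift_fiber_isIso a g12
    haveI := fib_comp_isIso g12 b
    have b12 : (g12 ≫ b).base = ci := by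
      show g12.base ≫ b.base = ci
      rw [hg12]; exact H.lift_snd _ _ _
    obtain ⟨g23, ⟨hg23, hg23a⟩, -⟩ := existsUnique_lift a (g12 ≫ b) z23 (by
      rw [b12]; exact (H.lift_fst _ _ _).symm)
    haveI : IsIso (g23 ≫ a).fiber := by rw [hg23a]; infer_instance
    haveI := lift_fiber_isIso a g23
    haveI := fib_comp_isIso g23 b
    obtain ⟨g13, ⟨hg13, hg13a⟩, -⟩ := existsUnique_lift a cl' z13 (H.lift_fst _ _ _).symm
    haveI : IsIso (g13 ≫ a).fiber := by rw [hg13a]; infer_instance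
    haveI := lift_fiber_isIso a g13
    haveI := fib_comp_isIso g13 b
    have b23 : (g23 ≫ b).base = cj := by
      show g23.base ≫ b.base = cj
      rw [hg23]; exact H.lift_snd _ _ _
    have b13 : (g13 ≫ b).base = cj := by
      show g13.base ≫ b.base = cj
      rw [hg13]; exact H.lift_snd _ _ _
    have e23 : g23 ≫ b = g13 ≫ b :=
      htrans R' g12 g23 g13 inferInstance inferInstance inferInstance hg23a.symm (hg12a.trans hg13a.symm)
        (b23.trans b13.symm)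
    obtain ⟨fl, hfl, -⟩ := exists_rel cl' hcl (e l.1)
    obtain ⟨fi, hfi, -⟩ := exists_rel (g12 ≫ b) (show ⊤ ≤ (g12 ≫ b).base ⁻¹ᵁ W i.1 by rw [b12]; exact hci) (e i.1)
    obtain ⟨fj, hfj, -⟩ := exists_rel (g13 ≫ b) (show ⊤ ≤ (g13 ≫ b).base ⁻¹ᵁ W j.1 by rw [b13]; exact hcj) (e j.1)
    have hle : ∀ (m n : T) (g : R' ⟶ O) (cm cn : Spec B ⟶ P.base), g.base ≫ a.base = cm → g.base ≫ b.base = cn →
        (⊤ : (Spec B).Opens) ≤ cm ⁻¹ᵁ W m.1 → (⊤ : (Spec B).Opens) ≤ cn ⁻¹ᵁ W n.1 →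
        (⊤ : (Spec B).Opens) ≤ g.base ⁻¹ᵁ WW m n := by
      intro m n g cm cn h1 h2 h3 h4
      subst h1 h2
      exact le_inf h3 h4
    have a12 : g12.base ≫ a.base = cl := congrArg Pseudofunctor.CoGrothendieck.Hom.base hg12a
    have a23 : g23.base ≫ a.base = ci := (congrArg Pseudofunctor.CoGrothendieck.Hom.base hg23a).trans b12
    have a13 : g13.base ≫ a.base = cl := congrArg Pseudofunctor.CoGrothendieck.Hom.base hg13a
    have k12 := hle l i g12 _ _ a12 b12 hcl hci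
    have k23 := hle i j g23 _ _ a23 b23 hci hcj
    have k13 := hle l j g13 _ _ a13 b13 hcl hcj
    have r12 := coord_pull a b _ _ (hdA l i) (hdB l i) (hw l i) g12 cl' (g12 ≫ b) hg12a rfl k12 _ _ hfl hfi
    have r23 := coord_pull a b _ _ (hdA i j) (hdB i j) (hw i j) g23 (g12 ≫ b) (g13 ≫ b) hg23a e23 k23 _ _ hfi hfj
    have r13 := coord_pull a b _ _ (hdA l j) (hdB l j) (hw l j) g13 cl' (g13 ≫ b) hg13a rfl k13 _ _ hfl hfj
    have key : g13.base.appLE (WW l j) ⊤ k13 (w l j : Γ(O.base, WW l j)) =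
        g12.base.appLE (WW l i) ⊤ k12 (w l i : Γ(O.base, WW l i)) *
          g23.base.appLE (WW i j) ⊤ k23 (w i j : Γ(O.base, WW i j)) :=
      (rel_isFrame hfj (he _)).coord_unique le_rfl (by rw [AModX.res_self, mul_smul, ← r23, ← r12, ← r13])
    let ψ := (Scheme.ΓSpecIso B).inv
    have t13 : ∀ t, g13.base.appLE (WW l j) ⊤ k13 (eps l j t) =
        ψ (Algebra.TensorProduct.map (AlgHom.id R₀ (S l)) Algebra.TensorProduct.includeRight t) := fun t => by
      induction t using TensorProduct.induction_on with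
      | zero => simp
      | tmul s t =>
        have hb1 : g13.base ≫ b.base = cj := b13
        refine (heval l j g13.base k13 (by rw [a13]; exact hcl) (by rw [hb1]; exact hcj) s t).trans
          ((congrArg₂ (· * ·) ((appLE_of_eq a13 _ hcl s).trans (hcls s))
            ((appLE_of_eq hb1 _ hcj t).trans (hcjs t))).trans ((map_mul _ _ _).symm.trans (congrArg ψ ?_)))
        show (s ⊗ₜ[R₀] (1 : S i ⊗[R₀] S j)) * ((1 : S l) ⊗ₜ[R₀] ((1 : S i) ⊗ₜ[R₀] t)) = s ⊗ₜ[R₀] ((1 : S i) ⊗ₜ[R₀] t)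
        rw [Algebra.TensorProduct.tmul_mul_tmul, mul_one, one_mul]
      | add x y hx hy => rw [map_add, map_add, hx, hy, map_add, map_add]
    have t12 : ∀ t, g12.base.appLE (WW l i) ⊤ k12 (eps l i t) =
        ψ (Algebra.TensorProduct.map (AlgHom.id R₀ (S l)) Algebra.TensorProduct.includeLeft t) := fun t => by
      induction t using TensorProduct.induction_on with
      | zero => simp
      | tmul s t =>
        have hb1 : g12.base ≫ b.base = ci := b12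
        refine (heval l i g12.base k12 (by rw [a12]; exact hcl) (by rw [hb1]; exact hci) s t).trans
          ((congrArg₂ (· * ·) ((appLE_of_eq a12 _ hcl s).trans (hcls s))
            ((appLE_of_eq hb1 _ hci t).trans (hcis t))).trans ((map_mul _ _ _).symm.trans (congrArg ψ ?_)))
        show (s ⊗ₜ[R₀] (1 : S i ⊗[R₀] S j)) * ((1 : S l) ⊗ₜ[R₀] (t ⊗ₜ[R₀] (1 : S j))) = s ⊗ₜ[R₀] (t ⊗ₜ[R₀] (1 : S j))
        rw [Algebra.TensorProduct.tmul_mul_tmul, mul_one, one_mul]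
      | add x y hx hy => rw [map_add, map_add, hx, hy, map_add, map_add]
    have t23 : ∀ t, g23.base.appLE (WW i j) ⊤ k23 (eps i j t) = ψ ((1 : S l) ⊗ₜ[R₀] t) := fun t => by
      induction t using TensorProduct.induction_on with
      | zero => simp
      | tmul s t =>
        have hb1 : g23.base ≫ b.base = cj := b23
        refine (heval i j g23.base k23 (by rw [a23]; exact hci) (by rw [hb1]; exact hcj) s t).trans
          ((congrArg₂ (· * ·) ((appLE_of_eq a23 _ hci s).trans (hcis s))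
            ((appLE_of_eq hb1 _ hcj t).trans (hcjs t))).trans ((map_mul _ _ _).symm.trans (congrArg ψ ?_)))
        show ((1 : S l) ⊗ₜ[R₀] (s ⊗ₜ[R₀] (1 : S j))) * ((1 : S l) ⊗ₜ[R₀] ((1 : S i) ⊗ₜ[R₀] t)) = (1 : S l) ⊗ₜ[R₀] (s ⊗ₜ[R₀] t)
        rw [Algebra.TensorProduct.tmul_mul_tmul, mul_one, Algebra.TensorProduct.tmul_mul_tmul, mul_one, one_mul]
      | add x y hx hy => rw [map_add, map_add, hx, hy, TensorProduct.tmul_add, map_add]
    apply (ConcreteCategory.bijective_of_isIso ψ).1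
    rw [map_mul, ← t13, ← t12, ← t23, hepu, hepu, hepu, key, mul_comm]
  -- a point of the fibre and an invariant element nonzero at it
  obtain ⟨l₀, hl₀T, hx₀⟩ : ∃ l, ∃ _ : l ∈ T, x₀ ∈ W l := by
    obtain ⟨l, hl, hx⟩ := Set.mem_iUnion₂.1 (hT hxV)
    exact ⟨l, hl, hx⟩
  let l : T := ⟨l₀, hl₀T⟩
  have hspan := span_inv_eq_top u hflat hcoc hunit l
  obtain ⟨m, hm, hmx⟩ : ∃ m : ∀ i, S i, (∀ i j, (1 : S i) ⊗ₜ[R₀] m j = u i j * (m i ⊗ₜ[R₀] (1 : S j))) ∧
      x₀ ∈ P.base.basicOpen (U := W l.1) (m l) := by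
    by_contra hn
    push Not at hn
    let ev : S l →+* P.base.residueField x₀ := ((P.base.residue x₀).hom.comp (P.base.presheaf.germ (W l.1) x₀ hx₀).hom)
    have hle : Ideal.span {x : S l | ∃ m : ∀ i, S i,
        (∀ i j, (1 : S i) ⊗ₜ[R₀] m j = u i j * (m i ⊗ₜ[R₀] (1 : S j))) ∧ m l = x} ≤ RingHom.ker ev := by
      rw [Ideal.span_le]
      rintro _ ⟨m, hm, rfl⟩
      have h := hn m hm
      rw [Scheme.mem_basicOpen _ _ _ hx₀] at h
      exact (IsLocalRing.residue_eq_zero_iff _).2 h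
    rw [hspan] at hle
    exact one_ne_zero ((map_one ev).symm.trans (hle Submodule.mem_top))
  have hwm : ∀ i j, b.base.appLE (W j.1) (WW i j) inf_le_right (m j) =
      (w i j : Γ(O.base, WW i j)) * a.base.appLE (W i.1) (WW i j) inf_le_left (m i) := fun i j => by
    have h := congrArg (eps i j) (hm i j)
    rwa [map_mul, hep, hep, hepu, map_one, map_one, one_mul, mul_one] at h
  let D : T → P.base.Opens := fun i => P.base.basicOpen (U := W i.1) (m i)
  have hDW : ∀ i, D i ≤ W i.1 := fun i => P.base.basicOpen_le _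
  let DD : P.base.Opens := ⨆ i, D i
  have hDV : DD ≤ q ⁻¹ᵁ V := iSup_le fun i => (hDW i).trans (hWV _)
  have hbase : ∀ {X₁ X₂ : Scheme.{u}} (f : X₁ ⟶ X₂) {W' : X₂.Opens} {U' : X₁.Opens} (h : U' ≤ f ⁻¹ᵁ W')
      (s : Γ(X₂, W')) (z : X₁), z ∈ U' → (z ∈ X₁.basicOpen (f.appLE W' U' h s) ↔ f z ∈ X₂.basicOpen s) := by
    intro X₁ X₂ f W' U' h s z hz
    rw [Scheme.Hom.appLE, ConcreteCategory.comp_apply, Scheme.basicOpen_res, ← Scheme.preimage_basicOpen]
    exact ⟨fun hh => hh.2, fun hh => ⟨hz, hh⟩⟩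
  have hsat : ∀ (z : O.base) (i j : T), z ∈ WW i j → (a.base z ∈ D i ↔ b.base z ∈ D j) := fun z i j hz => by
    rw [← hbase a.base inf_le_left (m i) z hz, ← hbase b.base inf_le_right (m j) z hz, hwm, Scheme.basicOpen_mul,
      Scheme.basicOpen_of_isUnit _ (w i j).isUnit]
    exact ⟨fun hh => ⟨hz, hh⟩, fun hh => hh.2⟩
  have hcovW : ∀ x ∈ q ⁻¹ᵁ V, ∃ i : T, x ∈ W i.1 := fun x hx => by
    obtain ⟨l, hl, hx⟩ := Set.mem_iUnion₂.1 (hT hx)
    exact ⟨⟨l, hl⟩, hx⟩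
  have hqq : ∀ z : O.base, q (a.base z) = q (b.base z) := fun z => by
    rw [← Scheme.Hom.comp_apply, H.w, Scheme.Hom.comp_apply]
  have hsat' : ∀ z : O.base, a.base z ∈ DD ↔ b.base z ∈ DD := by
    intro z
    constructor <;> intro h <;> obtain ⟨i, hi⟩ := Opens.mem_iSup.1 h
    · obtain ⟨j, hj⟩ := hcovW (b.base z) (show q (b.base z) ∈ V from hqq z ▸ hWV _ (hDW i hi))
      exact Opens.mem_iSup.2 ⟨j, (hsat z i j ⟨hDW i hi, hj⟩).1 hi⟩
    · obtain ⟨j, hj⟩ := hcovW (a.base z) (show q (a.base z) ∈ V from (hqq z).symm ▸ hWV _ (hDW i hi))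
      exact Opens.mem_iSup.2 ⟨j, (hsat z j i ⟨hj, hDW i hi⟩).2 hi⟩
  have hopen : IsOpen (q '' (DD : Set P.base)) := q.isOpenMap _ DD.2
  let U : Y.Opens := ⟨q '' (DD : Set P.base), hopen⟩
  have hUD : q ⁻¹ᵁ U ≤ DD := by
    rintro x ⟨x', hx', hxx'⟩
    obtain ⟨z, hz₁, hz₂⟩ := Scheme.Pullback.exists_preimage_pullback x' x hxx'
    have e1 : a.base (H.isoPullback.inv z) = x' := by
      rw [← Scheme.Hom.comp_apply, IsPullback.isoPullback_inv_fst]; exact hz₁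
    have e2 : b.base (H.isoPullback.inv z) = x := by
      rw [← Scheme.Hom.comp_apply, IsPullback.isoPullback_inv_snd]; exact hz₂
    exact e2 ▸ (hsat' _).1 (e1.symm ▸ hx')
  have hDU : ∀ i, D i ≤ q ⁻¹ᵁ U := fun i x hx => ⟨x, Opens.mem_iSup.2 ⟨i, hx⟩, rfl⟩
  let s : ∀ i, Γ(mod P, D i) := fun i =>
    resR (hDW i) (m i : Γ(P.base, W i.1)) • AModX.res (mod P) (hDW i) (e i.1)
  have hsf : ∀ i, IsFrame (s i) := fun i => ((he i.1).res _).isUnit_smul
    (RingedSpace.isUnit_res_basicOpen (X := P.base.toSheafedSpace) (m i))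
  have hglue : ∀ i j, LogModGeo.rs (mod P) (inf_le_left : D i ⊓ D j ≤ D i) (s i) =
      LogModGeo.rs (mod P) (inf_le_right : D i ⊓ D j ≤ D j) (s j) := by
    intro i j
    let U' : P.base.Opens := D i ⊓ D j
    have hi : U' ≤ W i.1 := inf_le_left.trans (hDW i)
    have hj : U' ≤ W j.1 := inf_le_right.trans (hDW j)
    let R' : Pseudofunctor.CoGrothendieck modPF.{u} := ⟨(U' : Scheme.{u}), (Scheme.Modules.pullback U'.ι).obj (mod P)⟩
    let c' : R' ⟶ P := ⟨U'.ι, 𝟙 _⟩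
    haveI : IsIso c'.fiber := inferInstanceAs (IsIso (𝟙 ((Scheme.Modules.pullback U'.ι).obj (mod P))))
    let z : (U' : Scheme.{u}) ⟶ O.base := H.lift U'.ι U'.ι rfl
    obtain ⟨z', ⟨hz', hz'a⟩, -⟩ := existsUnique_lift a c' z (H.lift_fst _ _ _).symm
    haveI : IsIso (z' ≫ a).fiber := by rw [hz'a]; infer_instance
    haveI := lift_fiber_isIso a z'
    have za : z'.base ≫ a.base = U'.ι := congrArg Pseudofunctor.CoGrothendieck.Hom.base hz'a
    have zb : z'.base ≫ b.base = U'.ι := by rw [hz']; exact H.lift_snd _ _ _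
    have hz'b : z' ≫ b = c' := by
      rw [← hdiag R' z' inferInstance (za.trans zb.symm), hz'a]
    let O' := U'.ι ⁻¹ᵁ U'
    have hi' : O' ≤ c'.base ⁻¹ᵁ W i.1 := U'.ι.preimage_mono hi
    have hj' : O' ≤ c'.base ⁻¹ᵁ W j.1 := U'.ι.preimage_mono hj
    have hza' : O' ≤ (z'.base ≫ a.base) ⁻¹ᵁ W i.1 := by rw [za]; exact hi'
    have hzb' : O' ≤ (z'.base ≫ b.base) ⁻¹ᵁ W j.1 := by rw [zb]; exact hj'
    have hzW : O' ≤ z'.base ⁻¹ᵁ WW i j := fun p hp => ⟨hza' hp, hzb' hp⟩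
    obtain ⟨fi, hfi, -⟩ := exists_rel c' hi' (e i.1)
    obtain ⟨fj, hfj, -⟩ := exists_rel c' hj' (e j.1)
    have hrel := coord_pull a b _ _ (hdA i j) (hdB i j) (hw i j) z' c' c' hz'a hz'b hzW hi' hj' hfi hfj
    have hmm : c'.base.appLE (W j.1) O' hj' (m j) =
        z'.base.appLE (WW i j) O' hzW (w i j : Γ(O.base, WW i j)) * c'.base.appLE (W i.1) O' hi' (m i) := by
      have h := congrArg (z'.base.appLE (WW i j) O' hzW) (hwm i j)
      rw [map_mul, appLE_appLE z'.base b.base _ hzW (by rw [zb]; exact hj'),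
        appLE_appLE z'.base a.base _ hzW (by rw [za]; exact hi')] at h
      simpa only [za, zb] using h
    have hpi := rel_res c' (hi) (le_refl O') le_rfl (rel_smul c' (m i : Γ(P.base, W i.1)) hfi)
    have hpj := rel_res c' (hj) (le_refl O') le_rfl (rel_smul c' (m j : Γ(P.base, W j.1)) hfj)
    rw [AModX.res_self] at hpi hpj
    rw [hrel, ← mul_smul, mul_comm, ← hmm] at hpi
    have hres : ∀ (k : T) (hk : U' ≤ D k), LogModGeo.rs (mod P) hk (s k) =
        AModX.res (mod P) (hk.trans (hDW k)) ((m k : Γ(P.base, W k.1)) • e k.1) := fun k hk => by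
      show AModX.res _ hk (resR (hDW k) (m k : Γ(P.base, W k.1)) • AModX.res _ (hDW k) (e k.1)) = _
      rw [← res_smul, res_res]
    rw [hres i inf_le_left, hres j inf_le_right]
    refine (bijective_pullSec U'.ι hP (le_of_eq U'.opensRange_ι.symm)).1 ?_
    exact hpi.symm.trans hpj
  obtain ⟨x, hx⟩ := LogModGeo.exists_glue (mod P) (U := q ⁻¹ᵁ U) D hDU
    (fun z hz => Opens.mem_iSup.1 (hUD hz)) s hglue
  refine ⟨U, x, ⟨x₀, Opens.mem_iSup.2 ⟨l, hmx⟩, rfl⟩, ?_, ?_⟩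
  · have hloc : ∀ z ∈ q ⁻¹ᵁ U, ∃ i, z ∈ D i := fun z hz => Opens.mem_iSup.1 (hUD hz)
    intro W' hW'
    have hwi : ∀ i, (W' ⊓ D i : P.base.Opens) ≤ q ⁻¹ᵁ U := fun i => inf_le_left.trans hW'
    have hxi : ∀ i, AModX.res (mod P) (hwi i) x = AModX.res (mod P) (inf_le_right : W' ⊓ D i ≤ D i) (s i) := fun i => by
      rw [← hx i]; exact (res_res _ _ _).symm
    refine ⟨fun r r' h => LogModGeo.eq_of_locally_fun r r' fun z hz => ?_, fun t => ?_⟩
    · obtain ⟨i, hi⟩ := hloc z (hW' hz)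
      refine ⟨W' ⊓ D i, inf_le_left, ⟨hz, hi⟩, (hsf i).coord_unique inf_le_right ?_⟩
      have h' := congrArg (AModX.res (mod P) (inf_le_left : W' ⊓ D i ≤ W')) h
      simp only [res_smul, res_res, hxi] at h'
      exact h'
    · choose g hg using fun i => (hsf i).exists_coord (inf_le_right : W' ⊓ D i ≤ D i) (AModX.res (mod P) inf_le_left t)
      have hc : ∀ i j, resR (inf_le_left : (W' ⊓ D i) ⊓ (W' ⊓ D j) ≤ W' ⊓ D i) (g i) =
          resR (inf_le_right : (W' ⊓ D i) ⊓ (W' ⊓ D j) ≤ W' ⊓ D j) (g j) := fun i j => by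
        refine (hsf i).coord_unique (inf_le_left.trans inf_le_right) ?_
        have h1 := congrArg (AModX.res (mod P) (inf_le_left : (W' ⊓ D i) ⊓ (W' ⊓ D j) ≤ W' ⊓ D i)) (hg i)
        have h2 := congrArg (AModX.res (mod P) (inf_le_right : (W' ⊓ D i) ⊓ (W' ⊓ D j) ≤ W' ⊓ D j)) (hg j)
        rw [res_smul, res_res, res_res] at h1 h2
        have hk : ∀ (k : T) (h : (W' ⊓ D i) ⊓ (W' ⊓ D j) ≤ W' ⊓ D k),
            AModX.res (mod P) (h.trans inf_le_right) (s k) = AModX.res (mod P) (h.trans (hwi k)) x := fun k h =>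
          (res_res (inf_le_right : W' ⊓ D k ≤ D k) h (s k)).symm.trans ((congrArg (AModX.res (mod P) h) (hxi k).symm).trans (res_res _ _ _))
        rw [hk i inf_le_left] at *
        rw [hk j inf_le_right] at h2
        exact h1.symm.trans h2
      obtain ⟨r, hr, -⟩ : ∃! r : Γ(P.base, W'), ∀ i, resR (inf_le_left : W' ⊓ D i ≤ W') r = g i :=
        AModX.existsUnique_glue (M := Coh.structureModule P.base) (V := W') (fun i => W' ⊓ D i)
        (fun i => inf_le_left) (fun z hz => (hloc z (hW' hz)).imp fun i hi => ⟨hz, hi⟩) g hc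
      refine ⟨r, AModX.eq_of_locally _ _ fun z hz => ?_⟩
      obtain ⟨i, hi⟩ := hloc z (hW' hz)
      refine ⟨W' ⊓ D i, inf_le_left, ⟨hz, hi⟩, ?_⟩
      show AModX.res _ inf_le_left (r • AModX.res _ hW' x) = _
      rw [res_smul, res_res, hxi, hg i, show resR inf_le_left r = g i from hr i]
  · intro W' ha hb d hd
    obtain ⟨d', hd', -⟩ := exists_rel b hb x
    suffices d = d' by rw [this]; exact hd'
    refine AModX.eq_of_locally _ _ fun z hz => ?_
    obtain ⟨i, hi⟩ := Opens.mem_iSup.1 (hUD (ha hz))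
    obtain ⟨j, hj⟩ := Opens.mem_iSup.1 (hUD (hb hz))
    let W'' := W' ⊓ (a.base ⁻¹ᵁ D i ⊓ b.base ⁻¹ᵁ D j)
    have hW''a : W'' ≤ a.base ⁻¹ᵁ D i := inf_le_right.trans inf_le_left
    have hW''b : W'' ≤ b.base ⁻¹ᵁ D j := inf_le_right.trans inf_le_right
    have hWW : W'' ≤ WW i j := le_inf (hW''a.trans (a.base.preimage_mono (hDW i))) (hW''b.trans (b.base.preimage_mono (hDW j)))
    refine ⟨W'', inf_le_left, ⟨hz, hi, hj⟩, ?_⟩
    have h1 : Rel a hW''a (s i) (AModX.res _ (inf_le_left : W'' ≤ W') d) := by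
      have := rel_res a (hDU i) (inf_le_left : W'' ≤ W') hW''a hd
      rwa [show AModX.res (mod P) (hDU i) x = s i from hx i] at this
    have h2 : Rel b hW''b (s j) (AModX.res _ (inf_le_left : W'' ≤ W') d') := by
      have := rel_res b (hDU j) (inf_le_left : W'' ≤ W') hW''b hd'
      rwa [show AModX.res (mod P) (hDU j) x = s j from hx j] at this
    have h3 := rel_res a (hDW i) hWW hW''a (rel_smul a (m i : Γ(P.base, W i.1)) (hdA i j))
    have h4 := rel_res b (hDW j) hWW hW''b (rel_smul b (m j : Γ(P.base, W j.1)) (hdB i j))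
    rw [res_smul] at h3 h4
    rw [(exists_rel a hW''a (s i)).unique h1 h3, (exists_rel b hW''b (s j)).unique h2 h4, hwm,
      hw, ← mul_smul, mul_comm (a.base.appLE _ _ _ _)]

end Groth.Agent.ThetaG
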