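import Groth.Agent.ThetaG.Scal
import Groth.Agent.H23.KLBasic
import Groth.Agent.H23.Rigid

/-!
Points of the theta group: base change, existence over a translation, scalars.
-/

set_option autoImplicit false
set_option linter.style.haveILetI false
set_option backward.isDefEq.respectTransparency false
set_option backward.isDefEq.respectTransparency.types false
set_option maxHeartbeats 400000

universe u

open CategoryTheory CategoryTheory.Limits MonoidalCategory CartesianMonoidalCategory MonObj AlgebraicGeometry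
  TopologicalSpace
open Pseudofunctor Bicategory
open scoped Groth.Agent.H23.PicMul

noncomputable section

namespace Groth.Agent.ThetaG

open Groth.Agent.AModX Groth.Agent.InvX ThetaGrp

variable {S : Scheme.{u}} {A : Over S} [GrpObj A] {L : A.left.Modules}

theorem isInvertible_obj (hL : PicF.IsInvertible L) (T : Over S) : PicF.IsInvertible (mod (thetaObj A L T)) :=
  PicClLib.isInvertible_pullback _ hL

theorem overPt_unique {T : Over S} {β : thetaPts A L T} {x y : T ⟶ A} (hx : IsOverPt β x) (hy : IsOverPt β y) :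
    x = y := by
  have h : transl A x = transl A y := Over.OverMorphism.ext (hx.symm.trans hy)
  have h' := congrArg (fun m => lift (1 : T ⟶ A) (𝟙 T) ≫ m ≫ fst A T) h
  simpa [comp_mul] using h'

theorem exists_overPt {T : Over S} (β : thetaPts A L T) : ∃ x, IsOverPt β x := β.2

theorem isOverPt_one {T : Over S} : IsOverPt (1 : thetaPts A L T) 1 := by
  show 𝟙 (thetaObj A L T).base = (transl A (1 : T ⟶ A)).left
  rw [transl_one]; rfl

theorem isOverPt_mul {T : Over S} {α β : thetaPts A L T} {x y : T ⟶ A} (hα : IsOverPt α x) (hβ : IsOverPt β y) :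
    IsOverPt (α * β) (y * x) := by
  show β.1.hom.base ≫ α.1.hom.base = _
  rw [hα, hβ, ← Over.comp_left, ← transl_mul]

theorem isOverPt_inv {T : Over S} {α : thetaPts A L T} {x : T ⟶ A} (hα : IsOverPt α x) : IsOverPt α⁻¹ x⁻¹ := by
  obtain ⟨y, hy⟩ := exists_overPt α⁻¹
  have h := isOverPt_mul hα hy
  rw [mul_inv_cancel] at h
  rwa [eq_inv_of_mul_eq_one_left (overPt_unique h isOverPt_one)] at hy

theorem ext_hom {T : Over S} {α β : thetaPts A L T} (h : α.1.hom = β.1.hom) : α = β :=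
  Subtype.ext (Iso.ext h)

/-- A morphism over a translation with invertible module part gives a point. -/
def ofHom {T : Over S} (φ : thetaObj A L T ⟶ thetaObj A L T) [IsIso φ.fiber] (x : T ⟶ A)
    (hx : φ.base = (transl A x).left) : thetaPts A L T :=
  haveI : IsIso (transl A x) :=
    ⟨transl A x⁻¹, by rw [← transl_mul, mul_inv_cancel, transl_one], by rw [← transl_mul, inv_mul_cancel, transl_one]⟩
  haveI : IsIso φ.base := hx ▸ (inferInstance : IsIso ((Over.forget S).map (transl A x)))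
  haveI := isIso_mk φ
  ⟨asIso φ, x, hx⟩

theorem isOverPt_ofHom {T : Over S} (φ : thetaObj A L T ⟶ thetaObj A L T) [IsIso φ.fiber] (x : T ⟶ A)
    (hx : φ.base = (transl A x).left) : IsOverPt (ofHom φ x hx) x := hx

/-- A point lies over a translation exactly when the translated module is isomorphic to the module. -/
theorem exists_isOverPt_iff_cl {T : Over S} (x : T ⟶ A) :
    (∃ β : thetaPts A L T, IsOverPt β x) ↔
      PicF.pullCl (transl A x ≫ fst A T).left (PicF.cl L) = PicF.pullCl (fst A T).left (PicF.cl L) := by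
  rw [Over.comp_left, ← PicClLib.pullCl_comp]
  constructor
  · rintro ⟨β, hβ⟩
    have : IsIso (fib β.1.hom) := isIso_fiber_of_iso β.1
    exact (PicGrp.cl_eq_cl_iff _ _).2
      ⟨((Scheme.Modules.pullbackCongr (show β.1.hom.base = _ from hβ)).app (mod (thetaObj A L T))).symm ≪≫
        (asIso (fib β.1.hom)).symm⟩
  · intro h
    obtain ⟨e⟩ := (PicGrp.cl_eq_cl_iff _ _).1 h
    let φ : thetaObj A L T ⟶ thetaObj A L T := ⟨(transl A x).left, e.inv⟩
    haveI : IsIso φ.fiber := inferInstanceAs (IsIso e.inv)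
    exact ⟨ofHom φ x rfl, rfl⟩

theorem exists_isOverPt_iff {T : Over S} (x : T ⟶ A) :
    (∃ β : thetaPts A L T, IsOverPt β x) ↔ H23.KLBasic.Eq L T x 1 := by
  rw [exists_isOverPt_iff_cl, H23.KLBasic.Eq]
  rw [H23.PicMul.pullCl_one, _root_.mul_one]

variable {T U G : Over S}

instance isIso_bcLift_fiber (g : T ⟶ G) : IsIso (bcLift A L g).fiber := by
  show IsIso ((Scheme.Modules.pullbackCongr _).hom.app L ≫
    (Scheme.Modules.pullbackComp (A ◁ g).left (fst A G).left).inv.app L)
  infer_instance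

theorem pullSec_factor {X Y Z : Scheme.{u}} (f : X ⟶ Y) (g : Y ⟶ Z) (h : X ⟶ Z) (e : h = f ≫ g) (M : Z.Modules)
    {V : Z.Opens} {W : X.Opens} {W' : Y.Opens} (hW : W ≤ h ⁻¹ᵁ V) (hW' : W' ≤ g ⁻¹ᵁ V) (hWW : W ≤ f ⁻¹ᵁ W')
    (l : Γ(M, V)) :
    ((Scheme.Modules.pullbackCongr e).hom.app M ≫ (Scheme.Modules.pullbackComp f g).inv.app M).app W
        (QCoh.pullSec h M hW l) =
      QCoh.pullSec f ((Scheme.Modules.pullback g).obj M) hWW (QCoh.pullSec g M hW' l) := by
  subst e
  show ((Scheme.Modules.pullbackComp f g).inv.app M).app W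
    (((Scheme.Modules.pullbackCongr rfl).hom.app M).app W (QCoh.pullSec (f ≫ g) M hW l)) = _
  rw [ExistEasy.pullSec_congr, ← ExistEasy.pullSec_comp f g M hW' hWW l]
  exact congrArg (fun t => Scheme.Modules.Hom.app t W _)
    ((Scheme.Modules.pullbackComp f g).hom_inv_id_app M)

theorem rel_bcLift (g : T ⟶ G) {V : A.left.Opens} {W : (A ⊗ T).left.Opens} {W' : (A ⊗ G).left.Opens}
    (hW : W ≤ (fst A T).left ⁻¹ᵁ V) (hW' : W' ≤ (fst A G).left ⁻¹ᵁ V) (h : W ≤ (A ◁ g).left ⁻¹ᵁ W')
    (l : Γ(L, V)) :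
    Rel (bcLift A L g) h (QCoh.pullSec (fst A G).left L hW' l) (QCoh.pullSec (fst A T).left L hW l) :=
  pullSec_factor (A ◁ g).left (fst A G).left (fst A T).left
    (by rw [← Over.comp_left, whiskerLeft_fst]) L hW hW' h l

theorem bcLift_comp (hL : PicF.IsInvertible L) (f : T ⟶ U) (g : U ⟶ G) :
    bcLift A L f ≫ bcLift A L g = bcLift A L (f ≫ g) := by
  have := fib_comp_isIso (bcLift A L f) (bcLift A L g)
  have hb : (A ◁ f).left ≫ (A ◁ g).left = (A ◁ (f ≫ g)).left := by rw [← Over.comp_left, ← MonoidalCategory.whiskerLeft_comp]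
  refine hom_ext hb fun p => ?_
  obtain ⟨V, hV, l, hl⟩ := InvX.exists_frame hL ((fst A T).left p)
  have e₁ : (fst A T).left ⁻¹ᵁ V ≤ (A ◁ f).left ⁻¹ᵁ ((fst A U).left ⁻¹ᵁ V) := by
    intro q hq
    show ((A ◁ f).left ≫ (fst A U).left) q ∈ V
    rwa [← Over.comp_left, whiskerLeft_fst]
  have e₂ : (fst A U).left ⁻¹ᵁ V ≤ (A ◁ g).left ⁻¹ᵁ ((fst A G).left ⁻¹ᵁ V) := by
    intro q hq
    show ((A ◁ g).left ≫ (fst A G).left) q ∈ V
    rwa [← Over.comp_left, whiskerLeft_fst]
  exact ⟨_, (fst A T).left ⁻¹ᵁ V, _, QCoh.pullSec (fst A G).left L le_rfl l,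
    QCoh.pullSec (fst A T).left L le_rfl l, hV, isFrame_pullSec _ _ hl,
    rel_comp (rel_bcLift g le_rfl le_rfl e₂ l) (rel_bcLift f le_rfl le_rfl e₁ l),
    rel_bcLift (f ≫ g) le_rfl le_rfl _ l⟩

theorem bcLift_id (hL : PicF.IsInvertible L) : bcLift A L (𝟙 T) = 𝟙 _ := by
  have hb : (A ◁ (𝟙 T)).left = 𝟙 (A ⊗ T).left := by rw [MonoidalCategory.whiskerLeft_id]; rfl
  refine hom_ext hb fun p => ?_
  obtain ⟨V, hV, l, hl⟩ := InvX.exists_frame hL ((fst A T).left p)
  refine ⟨(fst A T).left ⁻¹ᵁ V, (fst A T).left ⁻¹ᵁ V, le_of_eq ?_, _, _, hV, isFrame_pullSec _ le_rfl hl,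
    rel_bcLift (𝟙 T) le_rfl le_rfl _ l, ?_⟩
  · change _ = (A ◁ (𝟙 T)).left ⁻¹ᵁ _
    rw [hb]; rfl
  · have h := rel_id (P := thetaObj A L T) (V := (fst A T).left ⁻¹ᵁ V) le_rfl (QCoh.pullSec (fst A T).left L le_rfl l)
    rw [AModX.res_self] at h
    exact h

theorem transl_snd_assoc {Z : Over S} (x : T ⟶ A) (h : T ⟶ Z) :
    transl A x ≫ snd A T ≫ h = snd A T ≫ h := by rw [← Category.assoc, transl_snd]

theorem whiskerLeft_transl (g : T ⟶ G) (x : G ⟶ A) :
    (A ◁ g) ≫ transl A x = transl A (g ≫ x) ≫ (A ◁ g) := by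
  apply CartesianMonoidalCategory.hom_ext
  · simp [comp_mul]
  · simp only [Category.assoc, whiskerLeft_snd, transl_snd, transl_snd_assoc, whiskerLeft_snd_assoc]

theorem existsUnique_bc (g : T ⟶ G) (α : thetaPts A L G) : ∃! β : thetaPts A L T, ThetaGrp.IsBaseChange β g α := by
  obtain ⟨x, hx⟩ := exists_overPt α
  haveI : IsIso α.1.hom.fiber := isIso_fiber_of_iso α.1
  haveI := fib_comp_isIso (bcLift A L g) α.1.hom
  have hb : (bcLift A L g ≫ α.1.hom).base = (transl A (g ≫ x)).left ≫ (bcLift A L g).base := by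
    show (A ◁ g).left ≫ α.1.hom.base = _
    rw [hx, ← Over.comp_left, whiskerLeft_transl, Over.comp_left]
    rfl
  obtain ⟨ψ, ⟨hψb, hψ⟩, huniq⟩ := existsUnique_lift (bcLift A L g) _ _ hb
  haveI : IsIso (ψ ≫ bcLift A L g).fiber := by rw [hψ]; infer_instance
  haveI := lift_fiber_isIso (bcLift A L g) ψ
  refine ⟨ofHom ψ _ hψb, hψ, fun β hβ => ext_hom (huniq _ ⟨?_, hβ⟩)⟩
  obtain ⟨y, hy⟩ := exists_overPt β
  show β.1.hom.base = _
  rw [hy]
  have h' : (transl A y ≫ (A ◁ g)).left = (transl A (g ≫ x) ≫ (A ◁ g)).left := by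
    rw [Over.comp_left, Over.comp_left, ← hy]
    exact (congrArg Pseudofunctor.CoGrothendieck.Hom.base hβ).trans hb
  have h2 := congrArg (fun m => lift (1 : T ⟶ A) (𝟙 T) ≫ m ≫ fst A G) (Over.OverMorphism.ext h')
  obtain rfl : y = g ≫ x := by simpa [comp_mul] using h2
  rfl

/-- The base change of a point. -/
def bc (g : T ⟶ G) (α : thetaPts A L G) : thetaPts A L T := (existsUnique_bc g α).exists.choose

theorem isBaseChange_bc (g : T ⟶ G) (α : thetaPts A L G) : ThetaGrp.IsBaseChange (bc g α) g α :=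
  (existsUnique_bc g α).exists.choose_spec

theorem isBaseChange_iff {g : T ⟶ G} {α : thetaPts A L G} {β : thetaPts A L T} :
    ThetaGrp.IsBaseChange β g α ↔ β = bc g α :=
  ⟨fun h => (existsUnique_bc g α).unique h (isBaseChange_bc g α), fun h => h ▸ isBaseChange_bc g α⟩

theorem bc_mul (g : T ⟶ G) (α β : thetaPts A L G) : bc g (α * β) = bc g α * bc g β := by
  refine (isBaseChange_iff.1 ?_).symm
  have hα := isBaseChange_bc g α
  have hβ := isBaseChange_bc g β
  unfold ThetaGrp.IsBaseChange at hα hβ ⊢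
  show ((bc g β).1.hom ≫ (bc g α).1.hom) ≫ _ = _ ≫ β.1.hom ≫ α.1.hom
  rw [Category.assoc, hα, ← Category.assoc, hβ, Category.assoc]

/-- Base change as a homomorphism. -/
def bcHom (g : T ⟶ G) : thetaPts A L G →* thetaPts A L T :=
  MonoidHom.mk' (bc g) (bc_mul g)

theorem bc_one (g : T ⟶ G) : bc g (1 : thetaPts A L G) = 1 := map_one (bcHom g)

theorem bc_inv (g : T ⟶ G) (α : thetaPts A L G) : bc g α⁻¹ = (bc g α)⁻¹ := map_inv (bcHom g) α

theorem bc_comp (hL : PicF.IsInvertible L) (f : T ⟶ U) (g : U ⟶ G) (α : thetaPts A L G) :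
    bc (f ≫ g) α = bc f (bc g α) := by
  refine (isBaseChange_iff.1 ?_).symm
  have h1 := isBaseChange_bc g α
  have h2 := isBaseChange_bc f (bc g α)
  unfold ThetaGrp.IsBaseChange at h1 h2 ⊢
  rw [← bcLift_comp hL, reassoc_of% h2, h1, Category.assoc]

theorem bc_id (hL : PicF.IsInvertible L) (α : thetaPts A L T) : bc (𝟙 T) α = α := by
  refine (isBaseChange_iff.1 ?_).symm
  unfold ThetaGrp.IsBaseChange
  rw [bcLift_id hL, Category.comp_id, Category.id_comp]

theorem isOverPt_bc (g : T ⟶ G) {α : thetaPts A L G} {x : G ⟶ A} (hx : IsOverPt α x) :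
    IsOverPt (bc g α) (g ≫ x) := by
  obtain ⟨y, hy⟩ := exists_overPt (bc g α)
  have h := congrArg Pseudofunctor.CoGrothendieck.Hom.base (isBaseChange_bc g α)
  have h' : (transl A y ≫ (A ◁ g)).left = (transl A (g ≫ x) ≫ (A ◁ g)).left := by
    rw [← whiskerLeft_transl, Over.comp_left, Over.comp_left, ← hy, ← hx]
    exact h
  have h2 := congrArg (fun m => lift (1 : T ⟶ A) (𝟙 T) ≫ m ≫ fst A G) (Over.OverMorphism.ext h')
  obtain rfl : y = g ≫ x := by simpa [comp_mul] using h2
  exact hy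

section Field

variable {k : Type u} [Field k] {A : Over (Spec (CommRingCat.of k))} [GrpObj A]
  [IsProper A.hom] [GeometricallyIntegral A.hom] {L : A.left.Modules}
  {T U : Over (Spec (CommRingCat.of k))}

variable (A T) in
/-- Functions on the product are functions on the base. -/
theorem bijective_snd_app (V : T.left.Opens) : Function.Bijective ((snd A T).left.app V) :=
  H23.Rigid.bijective_app_snd A.hom T.hom V

variable (A L T) in
/-- The unit of `A × T` of a unit of `T`. -/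
def pullUnit : Γ(T.left, ⊤)ˣ →* Γ((thetaObj A L T).base, ⊤)ˣ :=
  Units.map (snd A T).left.appTop.hom.toMonoidHom

variable (A L T) in
theorem bijective_pullUnit : Function.Bijective (pullUnit A L T) := by
  refine ⟨Units.map_injective (bijective_snd_app A T ⊤).1, fun c => ?_⟩
  let e := RingEquiv.ofBijective (snd A T).left.appTop.hom (bijective_snd_app A T ⊤)
  exact ⟨Units.map e.symm.toRingHom.toMonoidHom c, Units.ext (e.apply_symm_apply (c : Γ((A ⊗ T).left, ⊤)))⟩

/-- The scalar point of a unit of the base. -/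
def scal (hL : PicF.IsInvertible L) : Γ(T.left, ⊤)ˣ →* thetaPts A L T where
  toFun s := @ofHom _ A _ L T (sc (thetaObj A L T) (pullUnit A L T s)) (isIso_sc_fiber _) 1
    (by rw [transl_one]; rfl)
  map_one' := ext_hom (by
    show sc (thetaObj A L T) (pullUnit A L T 1) = 𝟙 _
    rw [map_one, sc_one (isInvertible_obj hL T)])
  map_mul' a b := ext_hom (by
    show sc (thetaObj A L T) (pullUnit A L T (a * b)) = sc _ _ ≫ sc _ _
    rw [sc_mul (isInvertible_obj hL T), ← map_mul, mul_comm a b])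

theorem isOverPt_scal (hL : PicF.IsInvertible L) (s : Γ(T.left, ⊤)ˣ) : IsOverPt (scal hL s : thetaPts A L T) 1 :=
  @isOverPt_ofHom _ A _ L T (sc (thetaObj A L T) (pullUnit A L T s)) (isIso_sc_fiber _) 1
    (by rw [transl_one]; rfl)

theorem scal_hom (hL : PicF.IsInvertible L) (s : Γ(T.left, ⊤)ˣ) :
    (scal hL s : thetaPts A L T).1.hom = sc (thetaObj A L T) (pullUnit A L T s) := rfl

theorem scal_injective (hL : PicF.IsInvertible L) : Function.Injective (scal (T := T) (A := A) hL) := fun a b h =>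
  (bijective_pullUnit A L T).1 (sc_injective (isInvertible_obj hL T) ((scal_hom hL a).symm.trans ((congrArg (fun β : thetaPts A L T => β.1.hom) h).trans (scal_hom hL b))))

theorem exists_scal (hL : PicF.IsInvertible L) {β : thetaPts A L T} (hβ : IsOverPt β 1) : ∃ s, β = scal hL s := by
  have hb : β.1.hom.base = 𝟙 _ := by rw [hβ, transl_one]; rfl
  haveI := isIso_fiber_of_iso β.1
  obtain ⟨c, hc⟩ := exists_sc (isInvertible_obj hL T) β.1.hom hb
  obtain ⟨s, rfl⟩ := (bijective_pullUnit A L T).2 c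
  exact ⟨s, ext_hom (hc.trans (scal_hom hL s).symm)⟩

theorem scal_comm (hL : PicF.IsInvertible L) (s : Γ(T.left, ⊤)ˣ) (β : thetaPts A L T) :
    scal hL s * β = β * scal hL s := by
  obtain ⟨x, hx⟩ := exists_overPt β
  haveI := isIso_fiber_of_iso β.1
  refine ext_hom ?_
  show β.1.hom ≫ sc _ _ = sc _ _ ≫ β.1.hom
  rw [comp_sc (isInvertible_obj hL T)]
  congr 2
  refine Units.ext ?_
  show β.1.hom.base.appTop ((snd A T).left.appTop (s : Γ(T.left, ⊤))) = (snd A T).left.appTop (s : Γ(T.left, ⊤))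
  rw [← ConcreteCategory.comp_apply, ← Scheme.Hom.comp_appTop]
  have e : β.1.hom.base ≫ (snd A T).left = (snd A T).left := by
    rw [hx, ← Over.comp_left, transl_snd]
  exact congrArg (fun f : (A ⊗ T).left ⟶ T.left => f.appTop (s : Γ(T.left, ⊤))) e

theorem bc_scal (hL : PicF.IsInvertible L) (g : T ⟶ U) (s : Γ(U.left, ⊤)ˣ) :
    bc g (scal hL s : thetaPts A L U) = scal hL (Units.map g.left.appTop.hom.toMonoidHom s) := by
  refine (isBaseChange_iff.1 ?_).symm
  show sc _ _ ≫ bcLift A L g = bcLift A L g ≫ sc _ _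
  rw [comp_sc (isInvertible_obj hL U)]
  congr 2
  refine Units.ext ?_
  show (snd A T).left.appTop (g.left.appTop (s : Γ(U.left, ⊤))) =
    (A ◁ g).left.appTop ((snd A U).left.appTop (s : Γ(U.left, ⊤)))
  rw [← ConcreteCategory.comp_apply, ← ConcreteCategory.comp_apply, ← Scheme.Hom.comp_appTop,
    ← Scheme.Hom.comp_appTop]
  exact congrArg (fun f : (A ⊗ T).left ⟶ U.left => f.appTop (s : Γ(U.left, ⊤)))
    (congrArg CommaMorphism.left (whiskerLeft_snd A g).symm)

theorem exists_scal_mul (hL : PicF.IsInvertible L) {α β : thetaPts A L T} {x : T ⟶ A} (hα : IsOverPt α x)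
    (hβ : IsOverPt β x) : ∃ s, β = scal hL s * α := by
  have h := isOverPt_mul hβ (isOverPt_inv hα)
  rw [inv_mul_cancel] at h
  obtain ⟨s, hs⟩ := exists_scal hL h
  exact ⟨s, by rw [← hs, _root_.mul_assoc, inv_mul_cancel, _root_.mul_one]⟩

/-- Commuting is independent of the lifts. -/
theorem commute_of_overPt (hL : PicF.IsInvertible L) {α α' β β' : thetaPts A L T} {x y : T ⟶ A}
    (hα : IsOverPt α x) (hα' : IsOverPt α' x) (hβ : IsOverPt β y) (hβ' : IsOverPt β' y)
    (h : α * β = β * α) : α' * β' = β' * α' := by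
  obtain ⟨s, rfl⟩ := exists_scal_mul hL hα hα'
  obtain ⟨t, rfl⟩ := exists_scal_mul hL hβ hβ'
  have hs : ∀ w, Commute (scal hL s) w := scal_comm hL s
  have ht : ∀ w, Commute (scal hL t) w := scal_comm hL t
  exact ((hs _).mul_left ((ht α).symm.mul_right h)).eq

/-- The open subscheme as an object over the base. -/
abbrev res {S : Scheme.{u}} (T : Over S) (V : T.left.Opens) : Over S := Over.mk (V.ι ≫ T.hom)

/-- Its inclusion. -/
abbrev resι {S : Scheme.{u}} (T : Over S) (V : T.left.Opens) : res T V ⟶ T := Over.homMk V.ι rfl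

theorem overPt_ext_local {S : Scheme.{u}} {T A : Over S} {x y : T ⟶ A}
    (h : ∀ t : T.left, ∃ V : T.left.Opens, t ∈ V ∧ resι T V ≫ x = resι T V ≫ y) : x = y := by
  choose V hV h using h
  refine Over.OverMorphism.ext (Scheme.Cover.hom_ext (T.left.openCoverOfIsOpenCover V (by
    rw [IsOpenCover, eq_top_iff]
    exact fun t _ => Opens.mem_iSup.2 ⟨t, hV t⟩)) _ _ fun t => ?_)
  exact congrArg CommaMorphism.left (h t)

/-- Points of the theta group are determined locally. -/
theorem ext_local (hL : PicF.IsInvertible L) {α β : thetaPts A L T}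
    (h : ∀ t : T.left, ∃ V : T.left.Opens, t ∈ V ∧ bc (resι T V) α = bc (resι T V) β) : α = β := by
  obtain ⟨x, hx⟩ := exists_overPt α
  obtain ⟨y, hy⟩ := exists_overPt β
  have hxy : x = y := overPt_ext_local fun t => by
    obtain ⟨V, hV, e⟩ := h t
    exact ⟨V, hV, overPt_unique (e ▸ isOverPt_bc (resι T V) hx) (isOverPt_bc (resι T V) hy)⟩
  obtain ⟨s, rfl⟩ := exists_scal_mul hL hx (hxy ▸ hy)
  suffices hs : s = 1 by rw [hs, map_one, _root_.one_mul]
  refine Units.ext (eq_of_locally (M := Coh.structureModule T.left) _ _ fun t _ => ?_)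
  obtain ⟨V, hV, e⟩ := h t
  refine ⟨V, le_top, hV, ?_⟩
  rw [bc_mul, bc_scal] at e
  have e1 : Units.map (resι T V).left.appTop.hom.toMonoidHom s = 1 :=
    scal_injective hL (by rw [map_one]; exact mul_eq_right.1 e.symm)
  have e2 : V.ι.appTop (s : Γ(T.left, ⊤)) = 1 := congrArg Units.val e1
  show resR le_top (s : Γ(T.left, ⊤)) = resR le_top 1
  rw [map_one]
  rw [Scheme.Opens.ι_appTop] at e2
  refine Eq.trans ?_ ((congrArg (resR (show V ≤ V.ι ''ᵁ ⊤ by rw [Scheme.Opens.ι_image_top])) e2).trans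
    (map_one _))
  exact (resR_resR le_top _ _).symm

theorem comm_of_bc (hL : PicF.IsInvertible L) {α β : thetaPts A L T}
    (h : ∀ t : T.left, ∃ V : T.left.Opens, t ∈ V ∧
      bc (resι T V) α * bc (resι T V) β = bc (resι T V) β * bc (resι T V) α) : α * β = β * α :=
  ext_local hL fun t => (h t).imp fun V hV => ⟨hV.1, by rw [bc_mul, bc_mul]; exact hV.2⟩

end Field

end Groth.Agent.ThetaG
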