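import Groth.Agent.InvX.Pullback
import Groth.Agent.ExistEasy.PP.PullSec
import Groth.Prelude.Def_ThetaGrp

/-!
The value on sections of a morphism of (scheme, module) pairs.
-/

set_option autoImplicit false
set_option backward.isDefEq.respectTransparency false
set_option backward.isDefEq.respectTransparency.types false

universe u

open CategoryTheory CategoryTheory.Limits AlgebraicGeometry TopologicalSpace Opposite
open Pseudofunctor Bicategory

noncomputable section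

namespace Groth.Agent.ThetaG

open Groth.Agent.AModX Groth.Agent.InvX ThetaGrp

variable {X Y Z : Scheme.{u}}

theorem pullbackId_inv_pullSec (F : X.Modules) {W V : X.Opens} (hle : W ≤ V) (x : Γ(F, V)) :
    ((Scheme.Modules.pullbackId X).inv.app F).app W (AModX.res F hle x) =
      QCoh.pullSec (𝟙 X) F (show W ≤ (𝟙 X : X ⟶ X) ⁻¹ᵁ V from hle) x := by
  have h := unit_conjugateEquiv (Adjunction.id (C := X.Modules))
    (Scheme.Modules.pullbackPushforwardAdjunction (𝟙 X)) (Scheme.Modules.pullbackId X).hom F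
  rw [Scheme.Modules.conjugateEquiv_pullbackId_hom] at h
  have h' : ((Scheme.Modules.pullbackId X).hom.app F).app ((𝟙 X : X ⟶ X) ⁻¹ᵁ V)
      (((Scheme.Modules.pullbackPushforwardAdjunction (𝟙 X)).unit.app F).app V x) = x :=
    (congrArg (fun t : F ⟶ (Scheme.Modules.pushforward (𝟙 X)).obj F => t.app V x) h).symm
  have h'' := congrArg (((Scheme.Modules.pullbackId X).inv.app F).app ((𝟙 X : X ⟶ X) ⁻¹ᵁ V)) h'
  have h3 := congrArg (fun φ => Scheme.Modules.Hom.app φ ((𝟙 X : X ⟶ X) ⁻¹ᵁ V)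
    (((Scheme.Modules.pullbackPushforwardAdjunction (𝟙 X)).unit.app F).app V x))
    ((Scheme.Modules.pullbackId X).hom_inv_id_app F)
  refine (QCoh.map_app_comm ((Scheme.Modules.pullbackId X).inv.app F) (homOfLE hle) _).trans ?_
  exact congrArg (((Scheme.Modules.pullback (𝟙 X)).obj F).presheaf.map (homOfLE hle).op) (h''.symm.trans h3)

variable {P Q R : Pseudofunctor.CoGrothendieck modPF.{u}}

/-- The module of a pair. -/
abbrev mod (P : Pseudofunctor.CoGrothendieck modPF.{u}) : P.base.Modules := P.fiber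

/-- The module part of a morphism of pairs. -/
abbrev fib {P Q : Pseudofunctor.CoGrothendieck modPF.{u}} (φ : P ⟶ Q) :
    mod P ⟶ (Scheme.Modules.pullback φ.base).obj (mod Q) := φ.fiber

/-- `φ` takes the section `d` to the inverse image of the section `x`. -/
def Rel (φ : P ⟶ Q) {V : Q.base.Opens} {W : P.base.Opens} (h : W ≤ φ.base ⁻¹ᵁ V)
    (x : Γ((mod Q), V)) (d : Γ((mod P), W)) : Prop :=
  (fib φ).app W d =
    QCoh.pullSec φ.base (mod Q) h x

theorem rel_id {V W : P.base.Opens} (h : W ≤ V) (x : Γ((mod P), V)) :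
    Rel (𝟙 P) (V := V) (W := W) h x (AModX.res _ h x) :=
  pullbackId_inv_pullSec _ h x

theorem rel_comp {φ : P ⟶ Q} {ψ : Q ⟶ R} {U : R.base.Opens} {V : Q.base.Opens} {W : P.base.Opens}
    {h₁ : V ≤ ψ.base ⁻¹ᵁ U} {h₂ : W ≤ φ.base ⁻¹ᵁ V} {x : Γ((mod R), U)}
    {y : Γ((mod Q), V)} {z : Γ((mod P), W)}
    (hψ : Rel ψ h₁ x y) (hφ : Rel φ h₂ y z) :
    Rel (φ ≫ ψ) (h₂.trans ((Opens.map φ.base.base).monotone h₁)) x z := by
  unfold Rel at hψ hφ ⊢
  show ((Scheme.Modules.pullbackComp φ.base ψ.base).hom.app (mod R)).app W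
    (((Scheme.Modules.pullback φ.base).map (fib ψ)).app W
      ((fib φ).app W z)) = _
  rw [hφ, ExistEasy.pullSec_natural, hψ, ExistEasy.pullSec_comp]
  rfl

theorem rel_res (φ : P ⟶ Q) {V V' : Q.base.Opens} {W W' : P.base.Opens} {h : W ≤ φ.base ⁻¹ᵁ V}
    (hV : V' ≤ V) (hW : W' ≤ W) (h' : W' ≤ φ.base ⁻¹ᵁ V')
    {x : Γ((mod Q), V)} {d : Γ((mod P), W)}
    (hr : Rel φ h x d) : Rel φ h' (AModX.res _ hV x) (AModX.res _ hW d) := by
  unfold Rel at hr ⊢
  rw [app_res, hr]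
  exact ExistEasy.pullSec_res φ.base _ hV hW h h' x

theorem rel_smul (φ : P ⟶ Q) {V : Q.base.Opens} {W : P.base.Opens} {h : W ≤ φ.base ⁻¹ᵁ V}
    (r : Γ(Q.base, V)) {x : Γ((mod Q), V)}
    {d : Γ((mod P), W)} (hr : Rel φ h x d) :
    Rel φ h (r • x) (φ.base.appLE V W h r • d) := by
  unfold Rel at hr ⊢
  rw [Scheme.Modules.Hom.app_smul, hr, QCoh.pullSec_smul]

theorem rel_congr {φ φ' : P ⟶ Q} (e : φ = φ') {V : Q.base.Opens} {W : P.base.Opens}
    {h : W ≤ φ.base ⁻¹ᵁ V} {x : Γ((mod Q), V)}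
    {d : Γ((mod P), W)} (hr : Rel φ h x d) : Rel φ' (e ▸ h) x d := by
  subst e; exact hr

theorem exists_rel (φ : P ⟶ Q) [IsIso φ.fiber] {V : Q.base.Opens} {W : P.base.Opens}
    (h : W ≤ φ.base ⁻¹ᵁ V) (x : Γ((mod Q), V)) : ∃! d, Rel φ h x d := by
  have : IsIso (fib φ) :=
    ‹IsIso φ.fiber›
  exact ((ConcreteCategory.isIso_iff_bijective _).1 (Scheme.Modules.Hom.isIso_iff_isIso_app.1 this W)).existsUnique _

theorem isFrame_pullSec {X Y : Scheme.{u}} (f : X ⟶ Y) {M : Y.Modules} {V : Y.Opens} {W : X.Opens}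
    (h : W ≤ f ⁻¹ᵁ V) {x : Γ(M, V)} (hx : IsFrame x) : IsFrame (QCoh.pullSec f M h x) :=
  (isFrame_pullElt f hx).res h

theorem rel_isFrame {φ : P ⟶ Q} [IsIso φ.fiber] {V : Q.base.Opens} {W : P.base.Opens} {h : W ≤ φ.base ⁻¹ᵁ V}
    {x : Γ((mod Q), V)} {d : Γ((mod P), W)}
    (hr : Rel φ h x d) (hx : IsFrame x) : IsFrame d := by
  intro W' hW'
  let m : (mod P) ⟶ (Scheme.Modules.pullback φ.base).obj (mod Q) := φ.fiber
  have : IsIso m := ‹IsIso φ.fiber›
  have hb := (ConcreteCategory.isIso_iff_bijective _).1 (Scheme.Modules.Hom.isIso_iff_isIso_app.1 this W')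
  refine (Function.Bijective.of_comp_iff' hb _).1 ?_
  have e : (m.app W') ∘ (fun r : Γ(P.base, W') => r • AModX.res _ hW' d) =
      fun r => r • AModX.res _ hW' (QCoh.pullSec φ.base (mod Q) h x) := by
    funext r
    show m.app W' (r • _) = _
    rw [Scheme.Modules.Hom.app_smul, app_res]
    exact congrArg (fun t => r • AModX.res _ hW' t) hr
  rw [e]
  exact isFrame_pullSec φ.base h hx W' hW'

/-- Morphisms with invertible fibre parts agreeing on frames are equal. -/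
theorem hom_ext {φ φ' : P ⟶ Q} [IsIso φ.fiber] (hbase : φ.base = φ'.base)
    (hh : ∀ p : P.base, ∃ (V : Q.base.Opens) (W : P.base.Opens) (h : W ≤ φ.base ⁻¹ᵁ V)
      (x : Γ((mod Q), V)) (d : Γ((mod P), W)),
      p ∈ W ∧ IsFrame x ∧ Rel φ h x d ∧ Rel φ' (hbase ▸ h) x d) : φ = φ' := by
  obtain ⟨f, m⟩ := φ
  obtain ⟨f', m'⟩ := φ'
  obtain rfl : f = f' := hbase
  suffices e : m = m' by subst e; rfl
  choose V W h x d hp hx hr hr' using hh
  refine hom_ext_of_frames W (fun p => ⟨p, hp p⟩) d (fun p => rel_isFrame (hr p) (hx p)) fun p => ?_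
  exact (hr p).trans (hr' p).symm

theorem isIso_fiber_of_iso (α : P ≅ Q) : IsIso α.hom.fiber := by
  have key : ∀ {P Q : Pseudofunctor.CoGrothendieck modPF.{u}} (φ : P ⟶ Q) (ψ : Q ⟶ P), φ ≫ ψ = 𝟙 P →
      IsIso ((fib φ) ≫
        (Scheme.Modules.pullback φ.base).map (fib ψ)) := by
    intro P Q φ ψ hφ
    have e := Pseudofunctor.CoGrothendieck.Hom.congr hφ
    have : IsIso (φ ≫ ψ).fiber := by
      rw [e]
      show IsIso (((Scheme.Modules.pullbackId P.base).inv.app (mod P)) ≫ eqToHom _)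
      infer_instance
    have h2 : IsIso (((fib φ) ≫
        (Scheme.Modules.pullback φ.base).map (fib ψ)) ≫
        (Scheme.Modules.pullbackComp φ.base ψ.base).hom.app (mod P)) := by
      rw [Category.assoc]; exact this
    exact IsIso.of_isIso_comp_right _ ((Scheme.Modules.pullbackComp φ.base ψ.base).hom.app (mod P))
  let a : (mod P) ⟶ (Scheme.Modules.pullback α.hom.base).obj (mod Q) := α.hom.fiber
  let b : (mod Q) ⟶ (Scheme.Modules.pullback α.inv.base).obj (mod P) := α.inv.fiber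
  have h₁ := key α.hom α.inv α.hom_inv_id
  have h₂ := key α.inv α.hom α.inv_hom_id
  have : IsSplitMono b := ⟨⟨(Scheme.Modules.pullback α.inv.base).map a ≫ inv (b ≫ (Scheme.Modules.pullback α.inv.base).map a),
    by rw [← Category.assoc]; exact IsIso.hom_inv_id _⟩⟩
  let B := (Scheme.Modules.pullback α.hom.base).map b
  have hB : IsSplitMono B := inferInstance
  have hB' : IsSplitEpi B := ⟨⟨inv (a ≫ B) ≫ a, by rw [Category.assoc]; exact IsIso.inv_hom_id _⟩⟩
  have : IsIso B := isIso_of_mono_of_isSplitEpi B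
  exact IsIso.of_isIso_comp_right a B

instance isIso_fiber_hom (α : P ≅ Q) : IsIso α.hom.fiber := isIso_fiber_of_iso α

/-- A morphism with invertible fibre part is cartesian. -/
theorem existsUnique_lift {O P Q : Pseudofunctor.CoGrothendieck modPF.{u}} (φ : P ⟶ Q) [IsIso φ.fiber]
    (ρ : O ⟶ Q) (g : O.base ⟶ P.base) (hg : ρ.base = g ≫ φ.base) :
    ∃! ψ : O ⟶ P, ψ.base = g ∧ ψ ≫ φ = ρ := by
  let m : (mod P) ⟶ (Scheme.Modules.pullback φ.base).obj (mod Q) := φ.fiber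
  have : IsIso m := ‹IsIso φ.fiber›
  let i₃ := (Scheme.Modules.pullbackComp g φ.base).app (mod Q)
  let i₂ := (Scheme.Modules.pullbackCongr hg).app (mod Q)
  let μ' : (mod O) ⟶ (Scheme.Modules.pullback g).obj (mod P) :=
    (fib ρ) ≫ i₂.hom ≫ i₃.inv ≫
      (Scheme.Modules.pullback g).map (inv m)
  have hμ' : μ' ≫ (Scheme.Modules.pullback g).map m ≫ i₃.hom =
      (fib ρ) ≫ i₂.hom := by
    simp only [μ', Category.assoc, ← Functor.map_comp_assoc, IsIso.inv_hom_id,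
      CategoryTheory.Functor.map_id, Category.id_comp, Iso.inv_hom_id, Category.comp_id]
  have hi₂ : i₂.hom = eqToHom (by rw [hg]) := by
    simp [i₂, Scheme.Modules.pullbackCongr, eqToHom_app]
  refine ⟨⟨g, μ'⟩, ⟨rfl, Pseudofunctor.CoGrothendieck.Hom.ext _ _ hg.symm ?_⟩, ?_⟩
  · rw [hi₂] at hμ'
    exact hμ'
  rintro ⟨g', μ''⟩ ⟨hg', h'⟩
  obtain rfl : g' = g := hg'
  congr 1
  have e := Pseudofunctor.CoGrothendieck.Hom.congr h'
  have e' : (show (mod O) ⟶ (Scheme.Modules.pullback g').obj (mod P) from μ'') ≫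
      (Scheme.Modules.pullback g').map m ≫ i₃.hom =
      (fib ρ) ≫ i₂.hom := by
    rw [hi₂]; exact e
  rw [← hμ'] at e'
  exact (cancel_mono ((Scheme.Modules.pullback g').map m ≫ i₃.hom)).1 e'

theorem lift_fiber_isIso {O P Q : Pseudofunctor.CoGrothendieck modPF.{u}} (φ : P ⟶ Q) [IsIso φ.fiber]
    (ψ : O ⟶ P) [IsIso (ψ ≫ φ).fiber] : IsIso ψ.fiber := by
  let m : (mod P) ⟶ (Scheme.Modules.pullback φ.base).obj (mod Q) := φ.fiber
  have : IsIso m := ‹IsIso φ.fiber›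
  have h : IsIso ((fib ψ) ≫
      ((Scheme.Modules.pullback ψ.base).map m ≫
        (Scheme.Modules.pullbackComp ψ.base φ.base).hom.app (mod Q))) :=
    ‹IsIso (ψ ≫ φ).fiber›
  exact IsIso.of_isIso_comp_right _ ((Scheme.Modules.pullback ψ.base).map m ≫
      (Scheme.Modules.pullbackComp ψ.base φ.base).hom.app (mod Q))

instance isIso_id_fiber (P : Pseudofunctor.CoGrothendieck modPF.{u}) : IsIso (𝟙 P : P ⟶ P).fiber :=
  isIso_fiber_of_iso (Iso.refl P)

/-- An isomorphism over an isomorphism of schemes. -/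
theorem isIso_mk (φ : P ⟶ Q) [IsIso φ.base] [IsIso φ.fiber] : IsIso φ := by
  have key : ∀ {P Q : Pseudofunctor.CoGrothendieck modPF.{u}} (φ : P ⟶ Q) [IsIso φ.base] [IsIso φ.fiber],
      ∃ ψ : Q ⟶ P, ψ ≫ φ = 𝟙 Q ∧ IsIso ψ.base ∧ IsIso ψ.fiber := by
    intro P Q φ _ _
    obtain ⟨ψ, ⟨hb, h⟩, -⟩ := existsUnique_lift φ (𝟙 Q) (inv φ.base) (by simp)
    refine ⟨ψ, h, hb ▸ inferInstance, ?_⟩
    haveI : IsIso (ψ ≫ φ).fiber := h ▸ isIso_id_fiber Q
    exact lift_fiber_isIso φ ψ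
  obtain ⟨ψ, h, hb, hf⟩ := key φ
  obtain ⟨χ, h', -, -⟩ := key ψ
  have e : χ = φ := by
    rw [← Category.comp_id χ, ← h, ← Category.assoc, h', Category.id_comp]
  exact ⟨ψ, e ▸ h', h⟩

end Groth.Agent.ThetaG
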